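import Mathlib.GroupTheory.SpecificGroups.Dihedral
import Mathlib.GroupTheory.OrderOfElement
import Mathlib.Data.ZMod.Basic
import Mathlib.GroupTheory.Subgroup.Centralizer

/-!
# Two involutions

Elements of the subgroup generated by two involutions `x`, `y`: powers of `a = x * y` and elements
`a ^ k * x`.
-/

namespace Cfsg.Agent.Inv

variable {G : Type*} [Group G]

theorem ne_one_of_orderOf_two {x : G} (hx : orderOf x = 2) : x ≠ 1 := by
  intro h; simp [h] at hx

theorem mul_self_of_orderOf_two {x : G} (hx : orderOf x = 2) : x * x = 1 := by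
  simpa [pow_two, hx] using pow_orderOf_eq_one x

theorem inv_eq_self_of_orderOf_two {x : G} (hx : orderOf x = 2) : x⁻¹ = x :=
  inv_eq_of_mul_eq_one_right (mul_self_of_orderOf_two hx)

theorem orderOf_eq_two_of_mul_self {x : G} (hx : x * x = 1) (h1 : x ≠ 1) : orderOf x = 2 :=
  orderOf_eq_prime (by simpa [pow_two] using hx) h1

theorem orderOf_conj (g x : G) : orderOf (g * x * g⁻¹) = orderOf x :=
  (MulAut.conj g).orderOf_eq x

section
variable {x y : G} (hx : orderOf x = 2) (hy : orderOf y = 2)
include hx hy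

theorem inv_mul_two : (x * y)⁻¹ = y * x := by
  rw [mul_inv_rev, inv_eq_self_of_orderOf_two hx, inv_eq_self_of_orderOf_two hy]

theorem conj_mul_two : x * (x * y) * x⁻¹ = (x * y)⁻¹ := by
  rw [inv_mul_two hx hy, inv_eq_self_of_orderOf_two hx, ← mul_assoc x x y,
    mul_self_of_orderOf_two hx, one_mul]

theorem x_mul_zpow (k : ℤ) : x * (x * y) ^ k = (x * y) ^ (-k) * x := by
  have h : (x * (x * y) * x⁻¹) ^ k = x * (x * y) ^ k * x⁻¹ := conj_zpow
  rw [conj_mul_two hx hy, inv_zpow, ← zpow_neg] at h
  rw [h, inv_mul_cancel_right]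

theorem conj_zpow_mul (k : ℤ) : x * (x * y) ^ k * x⁻¹ = (x * y) ^ (-k) := by
  rw [x_mul_zpow hx hy, mul_inv_cancel_right]

theorem y_eq : y = (x * y) ^ (-1 : ℤ) * x := by
  rw [zpow_neg_one, inv_mul_two hx hy, mul_assoc, mul_self_of_orderOf_two hx, mul_one]

/-- Normal form for elements of `⟨x, y⟩`. -/
theorem mem_closure_pair {g : G} :
    g ∈ Subgroup.closure ({x, y} : Set G) ↔
      ∃ k : ℤ, g = (x * y) ^ k ∨ g = (x * y) ^ k * x := by
  constructor
  · intro h
    induction h using Subgroup.closure_induction with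
    | mem g hg =>
      rcases hg with rfl | rfl
      · exact ⟨0, Or.inr (by simp)⟩
      · exact ⟨-1, Or.inr (y_eq hx hy)⟩
    | one => exact ⟨0, Or.inl (by simp)⟩
    | mul g h _ _ ihg ihh =>
      obtain ⟨k, hk⟩ := ihg
      obtain ⟨l, hl⟩ := ihh
      have e := x_mul_zpow hx hy l
      rcases hk with rfl | rfl <;> rcases hl with rfl | rfl
      · exact ⟨k + l, Or.inl (by rw [zpow_add])⟩
      · exact ⟨k + l, Or.inr (by rw [zpow_add, mul_assoc])⟩
      · exact ⟨k + -l, Or.inr (by rw [zpow_add, mul_assoc, e, mul_assoc])⟩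
      · exact ⟨k + -l, Or.inl (by
          rw [zpow_add, mul_assoc, ← mul_assoc x, e, mul_assoc ((x * y) ^ (-l)) x x,
            mul_self_of_orderOf_two hx, mul_one])⟩
    | inv g _ ih =>
      obtain ⟨k, rfl | rfl⟩ := ih
      · exact ⟨-k, Or.inl (by rw [zpow_neg])⟩
      · exact ⟨k, Or.inr (by
          rw [mul_inv_rev, inv_eq_self_of_orderOf_two hx, ← zpow_neg, x_mul_zpow hx hy,
            neg_neg])⟩
  · rintro ⟨k, rfl | rfl⟩
    all_goals
      have ha : x * y ∈ Subgroup.closure ({x, y} : Set G) :=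
        mul_mem (Subgroup.subset_closure (by simp)) (Subgroup.subset_closure (by simp))
    · exact zpow_mem ha k
    · exact mul_mem (zpow_mem ha k) (Subgroup.subset_closure (by simp))

/-- In a finite-order situation `x` is not a power of `x * y` unless `x = y`. -/
theorem not_mem_zpowers : x ∉ Subgroup.zpowers (x * y) := by
  intro hm
  obtain ⟨k, hk⟩ := Subgroup.mem_zpowers_iff.1 hm
  -- `x` commutes with `x * y`, so `x * y` is an involution and `x = x * y`
  have hc : x * (x * y) * x⁻¹ = x * y := by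
    have hcomm : Commute ((x * y) ^ k) (x * y) := Commute.zpow_self _ _
    rw [hk] at hcomm
    rw [hcomm.eq, mul_inv_cancel_right]
  rw [conj_mul_two hx hy] at hc
  have h2 : (x * y) * (x * y) = 1 := by
    nth_rewrite 1 [← hc]
    exact inv_mul_cancel _
  have hkpar : (x * y) ^ k = 1 ∨ (x * y) ^ k = x * y := by
    rcases Int.even_or_odd k with ⟨m, rfl⟩ | ⟨m, rfl⟩
    · left
      rw [← two_mul, zpow_mul, zpow_two, h2, one_zpow]
    · right
      rw [zpow_add, zpow_mul, zpow_two, h2, one_zpow, one_mul, zpow_one]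
  rcases hkpar with h | h
  · exact ne_one_of_orderOf_two hx (hk ▸ h)
  · rw [hk] at h
    exact ne_one_of_orderOf_two hy (mul_eq_left.1 h.symm)

theorem orderOf_zpow_mul (k : ℤ) : orderOf ((x * y) ^ k * x) = 2 := by
  apply orderOf_eq_two_of_mul_self
  · rw [mul_assoc, ← mul_assoc x, x_mul_zpow hx hy, mul_assoc ((x * y) ^ (-k)),
      mul_self_of_orderOf_two hx, mul_one, ← zpow_add, add_neg_cancel, zpow_zero]
  · intro h
    apply not_mem_zpowers hx hy
    have hm : ((x * y) ^ k)⁻¹ ∈ Subgroup.zpowers (x * y) :=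
      inv_mem (Subgroup.zpow_mem_zpowers _ _)
    rwa [← eq_inv_of_mul_eq_one_right h] at hm

end

/-- The half power of an element of even order is an involution. -/
theorem orderOf_pow_half [Finite G] (a : G) (h : Even (orderOf a)) :
    orderOf (a ^ (orderOf a / 2)) = 2 := by
  obtain ⟨m, hm⟩ := h
  have hpos : 0 < orderOf a := orderOf_pos a
  have h2 : orderOf a / 2 = m := by omega
  rw [h2]
  apply orderOf_eq_two_of_mul_self
  · rw [← pow_add, ← hm, pow_orderOf_eq_one]
  · exact fun h1 => absurd (orderOf_le_of_pow_eq_one (by omega) h1) (by omega)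

theorem orderOf_mul_ne_zero_of_ne {x y : G} (hy : orderOf y = 2) (hxy : x ≠ y) :
    x * y ≠ 1 := fun h => hxy (by
      rw [eq_inv_of_mul_eq_one_left h, inv_eq_self_of_orderOf_two hy])

theorem dihedral_equiv {G : Type*} [Group G] [Finite G] {x y : G} (hx : orderOf x = 2)
    (hy : orderOf y = 2) :
    Nonempty (↥(Subgroup.closure ({x, y} : Set G)) ≃* DihedralGroup (orderOf (x * y))) := by
  have hz : NeZero (orderOf (x * y)) := ⟨(orderOf_pos (x * y)).ne'⟩
  generalize hn : orderOf (x * y) = n at hz ⊢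
  let g : ZMod n → G := fun i => (x * y) ^ (i.val : ℤ)
  have gadd : ∀ i j, g (i + j) = g i * g j := by
    intro i j
    simp only [g, zpow_natCast, ← pow_add, ZMod.val_add]
    subst hn
    rw [pow_mod_orderOf]
  have g0 : g 0 = 1 := by simp [g]
  have gneg : ∀ i, g (-i) = (g i)⁻¹ := fun i =>
    (inv_eq_of_mul_eq_one_right (by rw [← gadd, add_neg_cancel, g0])).symm
  have gsub : ∀ i j, g (j - i) = (g i)⁻¹ * g j := fun i j => by
    rw [sub_eq_neg_add, gadd, gneg]
  have gx : ∀ i, g i * x = x * (g i)⁻¹ := by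
    intro i
    simp only [g, ← zpow_neg]
    rw [x_mul_zpow hx hy, neg_neg]
  let φ : DihedralGroup n →* G :=
    { toFun := fun d => match d with
        | .r i => g i
        | .sr i => x * g i
      map_one' := g0
      map_mul' := by
        rintro (i | i) (j | j)
        · exact gadd i j
        · show x * g (j - i) = g i * (x * g j)
          rw [gsub, ← mul_assoc (g i), gx, mul_assoc]
        · show x * g (i + j) = x * g i * g j
          rw [gadd, mul_assoc]
        · show g (j - i) = x * g i * (x * g j)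
          rw [gsub, mul_assoc, ← mul_assoc (g i), gx, ← mul_assoc, ← mul_assoc,
            mul_self_of_orderOf_two hx, one_mul] }
  have hinj : Function.Injective φ := by
    rw [injective_iff_map_eq_one]
    rintro (i | i) h
    · change (x * y) ^ (i.val : ℤ) = 1 at h
      rw [zpow_natCast] at h
      have hd := orderOf_dvd_of_pow_eq_one h
      rw [hn] at hd
      have : i.val = 0 := Nat.eq_zero_of_dvd_of_lt hd (ZMod.val_lt i)
      rw [(ZMod.val_eq_zero i).1 this, DihedralGroup.r_zero]
    · change x * (x * y) ^ (i.val : ℤ) = 1 at h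
      have hm : ((x * y) ^ (i.val : ℤ))⁻¹ ∈ Subgroup.zpowers (x * y) :=
        inv_mem (Subgroup.zpow_mem_zpowers _ _)
      rw [← eq_inv_of_mul_eq_one_left h] at hm
      exact absurd hm (not_mem_zpowers hx hy)
  have hg : ∀ k : ℤ, g (k : ZMod n) = (x * y) ^ k := by
    intro k
    simp only [g]
    rw [ZMod.val_intCast]
    subst hn
    rw [zpow_mod_orderOf]
  have hrange : φ.range = Subgroup.closure ({x, y} : Set G) := by
    ext t
    rw [mem_closure_pair hx hy]
    constructor
    · rintro ⟨i | i, rfl⟩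
      · exact ⟨_, Or.inl rfl⟩
      · exact ⟨-(i.val : ℤ), Or.inr (x_mul_zpow hx hy _)⟩
    · rintro ⟨k, rfl | rfl⟩
      · exact ⟨.r k, hg k⟩
      · refine ⟨.sr ((-k : ℤ) : ZMod n), ?_⟩
        show x * g _ = _
        rw [hg, x_mul_zpow hx hy, neg_neg]
  exact ⟨((MonoidHom.ofInjective hinj).trans (MulEquiv.subgroupCongr hrange)).symm⟩

end Cfsg.Agent.Inv
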