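import Cfsg.Agent.S0208
import Cfsg.Agent.S0209
import Mathlib.Algebra.Group.Conj
import Mathlib.GroupTheory.Subgroup.Simple
import Mathlib.GroupTheory.Index
import Mathlib.Tactic.Group

/-!
# Non-conjugate involutions
-/

namespace Cfsg.Agent.Inv

variable {G : Type*} [Group G] [Finite G]

/-- Two non-conjugate involutions commute with a common involution different from both. -/
theorem exists_commuting_of_not_isConj {x w : G} (hx : orderOf x = 2) (hw : orderOf w = 2)
    (h : ¬ IsConj x w) :
    ∃ u : G, orderOf u = 2 ∧ u ≠ x ∧ u ≠ w ∧ Commute u x ∧ Commute u w := by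
  have heven : Even (orderOf (x * w)) := by
    by_contra hodd
    obtain ⟨d, _, hd⟩ := S0208.result x w hx hw (Nat.not_even_iff_odd.1 hodd)
    exact h (isConj_iff.2 ⟨d, hd⟩)
  obtain ⟨h2, hc1, hc2⟩ := S0209.result x w hx hw heven
  have hm : (x * w) ^ (orderOf (x * w) / 2) ∈ Subgroup.zpowers (x * w) :=
    pow_mem (Subgroup.mem_zpowers _) _
  refine ⟨_, h2, fun e => not_mem_zpowers hx hw ?_, fun e => not_mem_zpowers hw hx ?_, hc1, hc2⟩
  · rwa [e] at hm
  · rw [e, ← inv_mul_two hw hx, Subgroup.zpowers_inv] at hm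
    exact hm

/-- In a simple group with two involutions no involution is central. -/
theorem notMem_center_of_simple [IsSimpleGroup G] {x z : G} (hx : orderOf x = 2)
    (hz : orderOf z = 2) (hne : x ≠ z) : z ∉ Subgroup.center G := by
  intro hc
  have hn : (Subgroup.zpowers z).Normal := by
    constructor
    intro a ha g
    obtain ⟨k, rfl⟩ := Subgroup.mem_zpowers_iff.1 ha
    have : g * z ^ k = z ^ k * g := Subgroup.mem_center_iff.1 (zpow_mem hc k) g
    rw [this, mul_inv_cancel_right]
    exact ha
  rcases hn.eq_bot_or_eq_top with h | h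
  · exact ne_one_of_orderOf_two hz (Subgroup.zpowers_eq_bot.1 h)
  · obtain ⟨k, hk⟩ := Subgroup.mem_zpowers_iff.1 (h ▸ Subgroup.mem_top x : x ∈ Subgroup.zpowers z)
    rcases Int.even_or_odd k with ⟨m, rfl⟩ | ⟨m, rfl⟩
    · rw [← two_mul, zpow_mul, zpow_two, mul_self_of_orderOf_two hz, one_zpow] at hk
      exact ne_one_of_orderOf_two hx hk.symm
    · rw [zpow_add, zpow_mul, zpow_two, mul_self_of_orderOf_two hz, one_zpow, one_mul,
        zpow_one] at hk
      exact hne hk.symm

/-- In a simple group with two involutions, an involution does not commute with all its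
conjugates. -/
theorem exists_conj_not_commute [IsSimpleGroup G] {x z : G} (hx : orderOf x = 2)
    (hz : orderOf z = 2) (hne : x ≠ z) : ∃ w : G, IsConj z w ∧ ¬ Commute z w := by
  by_contra! hall
  have hle : Subgroup.normalClosure ({z} : Set G) ≤ Subgroup.centralizer ({z} : Set G) := by
    rw [Subgroup.normalClosure, Subgroup.closure_le]
    intro w hw
    obtain ⟨a, ha, haw⟩ := Group.mem_conjugatesOfSet_iff.1 hw
    rw [Set.mem_singleton_iff] at ha
    subst ha
    exact Subgroup.mem_centralizer_singleton_iff.2 (hall w haw).eq.symm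
  have htop : Subgroup.normalClosure ({z} : Set G) = ⊤ :=
    (Subgroup.normalClosure_normal (s := ({z} : Set G))).eq_bot_or_eq_top.resolve_left fun hb =>
      ne_one_of_orderOf_two hz
        (Subgroup.mem_bot.1 (hb ▸ Subgroup.subset_normalClosure (Set.mem_singleton z)))
  refine notMem_center_of_simple hx hz hne (Subgroup.mem_center_iff.2 fun g => ?_)
  exact Subgroup.mem_centralizer_singleton_iff.1 (hle (htop ▸ Subgroup.mem_top g))

omit [Finite G] in
/-- Orbit–stabiliser for conjugation. -/
theorem card_eq_centralizer_mul_card_isConj (t : G) :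
    Nat.card G = Nat.card (Subgroup.centralizer ({t} : Set G)) * Nat.card {v : G // IsConj t v} := by
  rw [← (Subgroup.centralizer ({t} : Set G)).card_mul_index]
  congr 1
  refine Nat.card_congr (Equiv.ofBijective (fun q => Quotient.liftOn' q
    (fun g => (⟨g * t * g⁻¹, isConj_iff.2 ⟨g, rfl⟩⟩ : {v : G // IsConj t v})) ?_) ⟨?_, ?_⟩)
  · intro a b hab
    rw [QuotientGroup.leftRel_apply, Subgroup.mem_centralizer_singleton_iff] at hab
    apply Subtype.ext
    show a * t * a⁻¹ = b * t * b⁻¹
    calc a * t * a⁻¹ = a * (t * (a⁻¹ * b)) * b⁻¹ := by group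
      _ = b * t * b⁻¹ := by rw [← hab]; group
  · intro a b hab
    induction a using QuotientGroup.induction_on with
    | H a =>
      induction b using QuotientGroup.induction_on with
      | H b =>
        have h : a * t * a⁻¹ = b * t * b⁻¹ := congrArg Subtype.val hab
        rw [QuotientGroup.eq, Subgroup.mem_centralizer_singleton_iff]
        calc a⁻¹ * b * t = a⁻¹ * (b * t * b⁻¹) * b := by group
          _ = t * (a⁻¹ * b) := by rw [← h]; group
  · rintro ⟨w, hw⟩
    obtain ⟨g, hg⟩ := isConj_iff.1 hw
    exact ⟨(g : G ⧸ Subgroup.centralizer ({t} : Set G)), Subtype.ext hg⟩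

end Cfsg.Agent.Inv
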