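import Cfsg.Agent.Lib.Inv.Dihedral
import Cfsg.Prelude.Def_TwoFusion
import Mathlib.GroupTheory.PGroup
import Mathlib.Tactic.Group

/-!
# Isolated involutions

`z * (g * z * g⁻¹)` has odd order, square roots of elements of odd order, and their uses.
-/

namespace Cfsg.Agent.Inv

variable {G : Type*} [Group G]

/-- Square root of an element of odd order. -/
noncomputable def oddRoot (d : G) : G := d ^ ((orderOf d + 1) / 2)

theorem oddRoot_sq {d : G} (hd : Odd (orderOf d)) : oddRoot d * oddRoot d = d := by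
  obtain ⟨m, hm⟩ := hd
  rw [oddRoot, ← pow_add, show (orderOf d + 1) / 2 + (orderOf d + 1) / 2 = orderOf d + 1 by omega,
    pow_succ, pow_orderOf_eq_one, one_mul]

theorem odd_orderOf_oddRoot {d : G} (hd : Odd (orderOf d)) : Odd (orderOf (oddRoot d)) := by
  have h : orderOf (oddRoot d) ∣ orderOf d := orderOf_pow_dvd _
  exact hd.of_dvd_nat h

theorem oddRoot_mem_zpowers (d : G) : oddRoot d ∈ Subgroup.zpowers d :=
  pow_mem (Subgroup.mem_zpowers d) _

/-- Two elements of odd order with the same square are equal. -/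
theorem eq_of_sq_eq {a b : G} (ha : Odd (orderOf a)) (hb : Odd (orderOf b))
    (h : a * a = b * b) : a = b := by
  obtain ⟨m, hm⟩ := ha.mul hb
  have key : ∀ x : G, x ^ (orderOf a * orderOf b) = 1 → (x * x) ^ (m + 1) = x := by
    intro x hx
    rw [← pow_two, ← pow_mul, show 2 * (m + 1) = orderOf a * orderOf b + 1 by omega,
      pow_succ, hx, one_mul]
  rw [← key a (by rw [pow_mul, pow_orderOf_eq_one, one_pow]),
    ← key b (by rw [mul_comm, pow_mul, pow_orderOf_eq_one, one_pow]), h]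

/-- If `z` inverts `d` and conjugation by `z` is applied to a power of `d`. -/
theorem conj_pow_of_inverts {z d : G} (h : z * d * z⁻¹ = d⁻¹) (n : ℕ) :
    z * d ^ n * z⁻¹ = (d ^ n)⁻¹ := by
  rw [← conj_pow, h, inv_pow]

/-- An involution inverting `k` sends, under conjugation by `k`, to `k * k * z`. -/
theorem conj_eq_sq_mul {z k : G} (h : z * k * z⁻¹ = k⁻¹) : k * z * k⁻¹ = k * k * z := by
  have h2 : z * k⁻¹ = k * z := by
    have h3 := congrArg (·⁻¹) h
    simp only [mul_inv_rev, inv_inv] at h3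
    calc z * k⁻¹ = (z * (k⁻¹ * z⁻¹)) * z := by group
      _ = k * z := by rw [h3]
  rw [mul_assoc, h2, mul_assoc]

theorem inverts_mul {z w : G} (hz : orderOf z = 2) (hw : orderOf w = 2) :
    z * (w * z) * z⁻¹ = (w * z)⁻¹ := by
  rw [inv_mul_two hw hz, mul_assoc z, mul_inv_cancel_right]

/-- Conjugation of an involution `z` onto `w` by the root of `w * z`. -/
theorem oddRoot_conj {z w : G} (hz : orderOf z = 2) (hw : orderOf w = 2)
    (hodd : Odd (orderOf (w * z))) :
    z * oddRoot (w * z) * z⁻¹ = (oddRoot (w * z))⁻¹ ∧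
      oddRoot (w * z) * z * (oddRoot (w * z))⁻¹ = w := by
  have h : z * oddRoot (w * z) * z⁻¹ = (oddRoot (w * z))⁻¹ :=
    conj_pow_of_inverts (inverts_mul hz hw) _
  refine ⟨h, ?_⟩
  rw [conj_eq_sq_mul h, oddRoot_sq hodd, mul_assoc, mul_self_of_orderOf_two hz, mul_one]

variable [Finite G]

theorem isolated_odd_aux {z : G} (hz : Cfsg.IsIsolatedInvolution z) (g : G) :
    Odd (orderOf (z * (g * z * g⁻¹))) := by
  obtain ⟨hz2, hiso⟩ := hz
  set w := g * z * g⁻¹ with hw
  have hw2 : orderOf w = 2 := (orderOf_conj g z).trans hz2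
  by_contra hn
  have heven : Even (orderOf (z * w)) := Nat.not_odd_iff_even.1 hn
  have h2 := orderOf_pow_half (z * w) heven
  set h := (z * w) ^ (orderOf (z * w) / 2) with hh
  -- a conjugate of z equal to h * z
  obtain ⟨c, hc⟩ : ∃ c : G, c * z * c⁻¹ = h * z := by
    have hzi := inv_eq_self_of_orderOf_two hz2
    have e : ∀ k : ℕ, (z * w) ^ k * z * ((z * w) ^ k)⁻¹ = (z * w) ^ (k + k) * z := by
      intro k
      have h1 := x_mul_zpow hz2 hw2 (-(k : ℤ))
      rw [neg_neg, zpow_neg, zpow_natCast] at h1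
      rw [mul_assoc, h1, ← mul_assoc, ← pow_add]
    have e' : ∀ k : ℕ, (z * w) ^ (k + 1) * w * ((z * w) ^ (k + 1))⁻¹ =
        (z * w) ^ (k + k + 1) * z := by
      intro k
      have h1 : (z * w) * w * (z * w)⁻¹ = (z * w) * z := by
        rw [inv_mul_two hz2 hw2, mul_assoc z w w, mul_self_of_orderOf_two hw2, mul_one, ← mul_assoc]
      calc (z * w) ^ (k + 1) * w * ((z * w) ^ (k + 1))⁻¹
          = (z * w) ^ k * ((z * w) * w * (z * w)⁻¹) * ((z * w) ^ k)⁻¹ := by
            rw [pow_succ]; group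
        _ = (z * w) * ((z * w) ^ k * z * ((z * w) ^ k)⁻¹) := by
            rw [h1, ← mul_assoc ((z * w) ^ k), ← pow_succ, pow_succ', mul_assoc, mul_assoc]
            simp only [mul_assoc]
        _ = (z * w) ^ (k + k + 1) * z := by rw [e, ← mul_assoc, ← pow_succ']
    rcases Nat.even_or_odd (orderOf (z * w) / 2) with ⟨k, hk⟩ | ⟨k, hk⟩
    · exact ⟨(z * w) ^ k, by rw [e, hh, hk]⟩
    · refine ⟨(z * w) ^ (k + 1) * g, ?_⟩
      rw [mul_inv_rev, hh, hk, show 2 * k + 1 = k + k + 1 by omega, ← e' k, hw]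
      group
  have hcomm : Commute z (h * z) := by
    have h1 := x_mul_zpow hz2 hw2 ((orderOf (z * w) / 2 : ℕ) : ℤ)
    rw [zpow_neg, zpow_natCast, ← hh, inv_eq_self_of_orderOf_two h2] at h1
    exact (show Commute z h from h1).mul_right (Commute.refl z)
  have h4 := hiso c (by rw [hc]; exact hcomm)
  rw [hc] at h4
  exact ne_one_of_orderOf_two h2 (mul_eq_right.1 h4)

theorem isolated_odd {z : G} (hz : Cfsg.IsIsolatedInvolution z) (g : G) :
    Odd (orderOf (g * z * g⁻¹ * z)) := by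
  have h := isolated_odd_aux hz g
  rw [← orderOf_inv, inv_mul_two hz.1 ((orderOf_conj g z).trans hz.1)] at h
  exact h

theorem isolated_odd₂ {z : G} (hz : Cfsg.IsIsolatedInvolution z) (g h : G) :
    Odd (orderOf (g * z * g⁻¹ * (h * z * h⁻¹))) := by
  have h1 := isolated_odd hz (h⁻¹ * g)
  rw [← orderOf_conj h] at h1
  convert h1 using 2
  group

/-- In an odd-order dihedral situation the conjugating element. -/
theorem isolated_root {z : G} (hz : Cfsg.IsIsolatedInvolution z) (g : G) :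
    Odd (orderOf (oddRoot (g * z * g⁻¹ * z))) ∧
      z * oddRoot (g * z * g⁻¹ * z) * z⁻¹ = (oddRoot (g * z * g⁻¹ * z))⁻¹ ∧
      oddRoot (g * z * g⁻¹ * z) * z * (oddRoot (g * z * g⁻¹ * z))⁻¹ = g * z * g⁻¹ :=
  ⟨odd_orderOf_oddRoot (isolated_odd hz g),
    oddRoot_conj hz.1 ((orderOf_conj g z).trans hz.1) (isolated_odd hz g)⟩

theorem isolated_of_odd {z : G} (hz : orderOf z = 2)
    (h : ∀ g : G, Odd (orderOf (z * (g * z * g⁻¹)))) : Cfsg.IsIsolatedInvolution z := by
  refine ⟨hz, fun g hc => ?_⟩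
  have hw : orderOf (g * z * g⁻¹) = 2 := (orderOf_conj g z).trans hz
  have hsq : (z * (g * z * g⁻¹)) ^ 2 = 1 := by
    rw [hc.mul_pow, pow_two, pow_two, mul_self_of_orderOf_two hz, mul_self_of_orderOf_two hw,
      one_mul]
  have h1 : orderOf (z * (g * z * g⁻¹)) = 1 := by
    rcases (Nat.dvd_prime Nat.prime_two).1 (orderOf_dvd_of_pow_eq_one hsq) with e | e
    · exact e
    · exact absurd (e ▸ h g) (by decide)
  rw [orderOf_eq_one_iff] at h1
  rw [eq_inv_of_mul_eq_one_right h1, inv_eq_self_of_orderOf_two hz]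

/-- The Sylow form of isolation. -/
theorem isolated_iff_sylow {z : G} (hz : orderOf z = 2) (P : Sylow 2 G) (hzP : z ∈ P) :
    Cfsg.IsIsolatedInvolution z ↔ ∀ g : G, g * z * g⁻¹ ∈ P → g * z * g⁻¹ = z := by
  haveI : Fact (Nat.Prime 2) := ⟨Nat.prime_two⟩
  constructor
  · intro h g hg
    have hm : z * (g * z * g⁻¹) ∈ (P : Subgroup G) := mul_mem hzP hg
    obtain ⟨k, hk⟩ := P.isPGroup' ⟨_, hm⟩
    have hd : orderOf (z * (g * z * g⁻¹)) ∣ 2 ^ k :=
      orderOf_dvd_of_pow_eq_one (by simpa using congrArg Subtype.val hk)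
    obtain ⟨j, -, hj⟩ := (Nat.dvd_prime_pow Nat.prime_two).1 hd
    have hodd := isolated_odd_aux h g
    have h' : j = 0 := by
      by_contra hne
      rw [hj] at hodd
      exact Nat.not_even_iff_odd.2 hodd (Nat.even_pow.2 ⟨even_two, hne⟩)
    rw [h', pow_zero, orderOf_eq_one_iff] at hj
    rw [eq_inv_of_mul_eq_one_right hj, inv_eq_self_of_orderOf_two hz]
  · intro h
    refine ⟨hz, fun g hc => ?_⟩
    have hw : orderOf (g * z * g⁻¹) = 2 := (orderOf_conj g z).trans hz
    have hp : IsPGroup 2 ↥(Subgroup.closure ({z, g * z * g⁻¹} : Set G)) := by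
      rintro ⟨a, ha⟩
      refine ⟨1, Subtype.ext ?_⟩
      show a ^ 2 ^ 1 = 1
      obtain ⟨k, rfl | rfl⟩ := (mem_closure_pair hz hw).1 ha
      · rw [pow_one, ← zpow_natCast, ← zpow_mul, mul_comm, zpow_mul, zpow_natCast, hc.mul_pow,
          pow_two, pow_two, mul_self_of_orderOf_two hz, mul_self_of_orderOf_two hw, one_mul,
          one_zpow]
      · rw [pow_one, pow_two, mul_self_of_orderOf_two (orderOf_zpow_mul hz hw k)]
    obtain ⟨Q, hQ⟩ := hp.exists_le_sylow
    obtain ⟨c, hcQ⟩ := MulAction.exists_smul_eq G Q P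
    have h1 : c * z * c⁻¹ ∈ P := hcQ ▸ ⟨z, hQ (Subgroup.subset_closure (by simp)), rfl⟩
    have h2 : c * g * z * (c * g)⁻¹ ∈ P := by
      have : c * (g * z * g⁻¹) * c⁻¹ ∈ P :=
        hcQ ▸ ⟨_, hQ (Subgroup.subset_closure (by simp)), rfl⟩
      convert this using 1
      group
    have h3 := (h (c * g) h2).trans (h c h1).symm
    rw [mul_inv_rev] at h3
    apply mul_left_cancel (a := c)
    apply mul_right_cancel (b := c⁻¹)
    rw [← h3]
    group

end Cfsg.Agent.Inv
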