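import Cfsg.Agent.Lib.Block.Vanish
import Cfsg.Agent.Lib.Block.Induced
import Cfsg.Agent.S0936

/-!
# Principal-block characters on the section of a `p`-element

For a `p`-element `z` with centraliser `H`, restriction of the centre of the group algebra to `H`
is multiplicative modulo `M`; hence every block of `H` induces, and (with the third main theorem)
characters of the principal block are constant on `z * K`, `K` a normal `p'`-subgroup of `H`.
-/

set_option autoImplicit false

open Cfsg Cfsg.Agent.Char Finset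

namespace Cfsg.Agent.Inv

open Cfsg.Agent.Block

universe u

variable {G : Type u} [Group G] {M : Ideal AlgInt} [hMp : M.IsPrime]

/-! ## Small elements -/

/-- All coefficients are in the local ideal. -/
def IsSmallElt (M : Ideal AlgInt) (a : MonoidAlgebra ℂ G) : Prop :=
  ∀ g, MemLocalIdeal M (a.coeff g)

theorem IsSmallElt.isLocElt {a : MonoidAlgebra ℂ G} (ha : IsSmallElt M a) : IsLocElt M a :=
  fun g => mem_locRing_of_memLocalIdeal (ha g)

theorem IsSmallElt.zero : IsSmallElt M (0 : MonoidAlgebra ℂ G) := fun g => by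
  simpa using memLocalIdeal_zero

theorem IsSmallElt.add {a b : MonoidAlgebra ℂ G} (ha : IsSmallElt M a) (hb : IsSmallElt M b) :
    IsSmallElt M (a + b) := fun g => by
  rw [MonoidAlgebra.coeff_add]; exact memLocalIdeal_add (ha g) (hb g)

theorem IsSmallElt.sub {a b : MonoidAlgebra ℂ G} (ha : IsSmallElt M a) (hb : IsSmallElt M b) :
    IsSmallElt M (a - b) := fun g => by
  rw [MonoidAlgebra.coeff_sub]; exact memLocalIdeal_sub (ha g) (hb g)

theorem IsSmallElt.smul_of_mem {a : MonoidAlgebra ℂ G} (ha : IsLocElt M a) {c : ℂ}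
    (hc : MemLocalIdeal M c) : IsSmallElt M (c • a) := fun g => by
  rw [MonoidAlgebra.coeff_smul]; exact memLocalIdeal_mul_right (ha g) hc

theorem IsSmallElt.mul_left [Finite G] {a b : MonoidAlgebra ℂ G} (ha : IsLocElt M a)
    (hb : IsSmallElt M b) : IsSmallElt M (a * b) := fun g => by
  rw [MonoidAlgebra.coeff_mul_apply_left]
  exact memLocalIdeal_sum _ _ fun x _ => memLocalIdeal_mul_left (ha x) (hb _)

theorem IsSmallElt.mul_right [Finite G] {a b : MonoidAlgebra ℂ G} (ha : IsSmallElt M a)
    (hb : IsLocElt M b) : IsSmallElt M (a * b) := fun g => by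
  rw [MonoidAlgebra.coeff_mul_apply_left]
  exact memLocalIdeal_sum _ _ fun x _ => memLocalIdeal_mul_right (hb _) (ha x)

theorem omega_small [Finite G] (χ : IrrCharacter G) {a : MonoidAlgebra ℂ G}
    (hc : IsCentralElt a) (ha : IsSmallElt M a) : MemLocalIdeal M (omega (χ : G → ℂ) a) := by
  haveI := Fintype.ofFinite (ConjClasses G)
  rw [omega_eq_sum_classes χ hc]
  exact memLocalIdeal_sum _ _ fun C _ => memLocalIdeal_mul_right (centralChar_mem_locRing χ _) (ha _)

theorem exists_pow_small [Finite G] {c : MonoidAlgebra ℂ G} (hc : IsCentralElt c)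
    (hl : IsLocElt M c) (h : ∀ χ : IrrCharacter G, MemLocalIdeal M (omega (χ : G → ℂ) c)) :
    ∃ n : ℕ, IsSmallElt M (c ^ (n + 1)) := by
  haveI := Fintype.ofFinite (IrrCharacter G)
  have key : ∀ l : List ℂ, (∀ r ∈ l, MemLocalIdeal M r) →
      IsSmallElt M ((l.map fun r => c - r • (1 : MonoidAlgebra ℂ G)).prod - c ^ l.length) ∧
        IsLocElt M (l.map fun r => c - r • (1 : MonoidAlgebra ℂ G)).prod := by
    intro l hl'
    induction l with
    | nil => exact ⟨by simpa using IsSmallElt.zero, by simpa using IsLocElt.one⟩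
    | cons r l ih =>
      simp only [List.mem_cons, forall_eq_or_imp] at hl'
      obtain ⟨h1, h2⟩ := ih hl'.2
      set P := (l.map fun r => c - r • (1 : MonoidAlgebra ℂ G)).prod with hP
      simp only [List.map_cons, List.prod_cons, List.length_cons, ← hP, pow_succ']
      refine ⟨?_, (hl.sub (IsLocElt.one.smul (mem_locRing_of_memLocalIdeal hl'.1))).mul h2⟩
      rw [show (c - r • (1 : MonoidAlgebra ℂ G)) * P - c * c ^ l.length =
          c * (P - c ^ l.length) - r • P by rw [sub_mul, smul_mul_assoc, one_mul, mul_sub]; abel]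
      exact (IsSmallElt.mul_left hl h1).sub (IsSmallElt.smul_of_mem h2 hl'.1)
  set L := (Finset.univ : Finset (IrrCharacter G)).toList.map fun χ : IrrCharacter G => omega (χ : G → ℂ) c with hL
  obtain ⟨h1, -⟩ := key L (fun r hr => by
    obtain ⟨χ, -, rfl⟩ := List.mem_map.1 hr
    exact h χ)
  have h0 : (L.map fun r => c - r • (1 : MonoidAlgebra ℂ G)).prod = 0 := by
    have hcen : ∀ a ∈ L.map (fun r => c - r • (1 : MonoidAlgebra ℂ G)), IsCentralElt a := by
      intro a ha
      obtain ⟨r, -, rfl⟩ := List.mem_map.1 ha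
      exact hc.sub (IsCentralElt.one.smul r)
    refine eq_of_omega_eq (IsCentralElt.prod_list _ hcen) IsCentralElt.zero fun χ => ?_
    rw [omega_prod_list χ _ hcen, omega_zero, List.prod_eq_zero_iff, List.mem_map]
    refine ⟨c - omega (χ : G → ℂ) c • (1 : MonoidAlgebra ℂ G), List.mem_map.2 ⟨_, ?_, rfl⟩, ?_⟩
    · exact List.mem_map.2 ⟨χ, Finset.mem_toList.2 (Finset.mem_univ _), rfl⟩
    · rw [omega_sub, omega_smul, omega_one (IsIrrCharacter.apply_one_ne_zero χ.2), mul_one, sub_self]
  rw [h0, zero_sub] at h1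
  refine ⟨L.length, ?_⟩
  have h2 : IsSmallElt M (c ^ L.length) := by simpa using IsSmallElt.zero.sub h1
  rw [pow_succ]
  exact h2.mul_right hl

theorem small_of_idem [Finite G] {c : MonoidAlgebra ℂ G} (hc : IsCentralElt c)
    (hl : IsLocElt M c) (h : ∀ χ : IrrCharacter G, MemLocalIdeal M (omega (χ : G → ℂ) c))
    (hi : IsSmallElt M (c * c - c)) : IsSmallElt M c := by
  obtain ⟨n, hn⟩ := exists_pow_small hc hl h
  have key : ∀ k : ℕ, IsSmallElt M (c ^ (k + 1) - c) := fun k => by
    induction k with
    | zero => simpa using IsSmallElt.zero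
    | succ k ih =>
      rw [pow_succ', show c * c ^ (k + 1) - c = c * (c ^ (k + 1) - c) + (c * c - c) by
        rw [mul_sub]; abel]
      exact (IsSmallElt.mul_left hl ih).add hi
  have := hn.sub (key n)
  rwa [sub_sub_cancel] at this

/-! ## Restriction to a subgroup -/

/-- Restriction of the coefficients to a subgroup. -/
noncomputable def resA [Finite G] (H : Subgroup G) (a : MonoidAlgebra ℂ G) : MonoidAlgebra ℂ H :=
  mkA fun h : H => a.coeff (h : G)

@[simp] theorem coeff_resA [Finite G] (H : Subgroup G) (a : MonoidAlgebra ℂ G) (h : H) :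
    (resA H a).coeff h = a.coeff (h : G) := by simp [resA]

theorem isCentralElt_resA [Finite G] (H : Subgroup G) {a : MonoidAlgebra ℂ G}
    (ha : IsCentralElt a) : IsCentralElt (resA H a) := fun x g => by
  simp only [coeff_resA, Subgroup.coe_mul, Subgroup.coe_inv]
  exact ha x g

theorem isLocElt_resA [Finite G] (H : Subgroup G) {a : MonoidAlgebra ℂ G}
    (ha : IsLocElt M a) : IsLocElt M (resA H a) := fun h => by
  rw [coeff_resA]; exact ha _

theorem resA_sub [Finite G] (H : Subgroup G) (a b : MonoidAlgebra ℂ G) :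
    resA H (a - b) = resA H a - resA H b :=
  MonoidAlgebra.ext (Finsupp.ext fun h => by simp)

theorem resA_smul [Finite G] (H : Subgroup G) (c : ℂ) (a : MonoidAlgebra ℂ G) :
    resA H (c • a) = c • resA H a :=
  MonoidAlgebra.ext (Finsupp.ext fun h => by simp)

theorem resA_sum [Finite G] (H : Subgroup G) {ι : Type*} (s : Finset ι)
    (f : ι → MonoidAlgebra ℂ G) : resA H (∑ i ∈ s, f i) = ∑ i ∈ s, resA H (f i) :=
  MonoidAlgebra.ext (Finsupp.ext fun h => by simp)

theorem resA_one [Finite G] (H : Subgroup G) : resA H (1 : MonoidAlgebra ℂ G) = 1 := by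
  classical
  exact MonoidAlgebra.ext (Finsupp.ext fun h => by
    simp [MonoidAlgebra.one_def, Finsupp.single_apply, eq_comm (a := (1 : G)),
      eq_comm (a := (1 : H))])

/-- A function invariant under conjugation by a `p`-element sums to a multiple of `p` off its
centraliser. -/
theorem memLocalIdeal_sum_noncommuting [Fintype G] {p : ℕ} (hM : IsPModular p M) {z : G}
    (hz : ∃ k : ℕ, orderOf z = p ^ k) (f : G → ℂ) (hf : ∀ x, f (z * x * z⁻¹) = f x)
    (hfl : ∀ x, f x ∈ locRing M) [DecidablePred (Commute z)] :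
    MemLocalIdeal M (∑ x with ¬ Commute z x, f x) := by
  classical
  obtain ⟨hp, -, hpM⟩ := hM
  haveI : NeZero p := ⟨hp.ne_zero⟩
  obtain ⟨c, hc⟩ := exists_conj_label hp z hz
  set S : ZMod p → ℂ := fun i => ∑ x with ¬ Commute z x ∧ c x = i, f x with hS
  have hcz : ∀ x, Commute z (z * x * z⁻¹) ↔ Commute z x := fun x => by
    constructor
    · intro h
      have := ((Commute.refl z).inv_right.mul_right h).mul_right (Commute.refl z)
      simpa [mul_assoc] using this
    · exact fun h => ((Commute.refl z).mul_right h).mul_right (Commute.refl z).inv_right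
  have step : ∀ i, S i = S (i + 1) := by
    intro i
    refine Finset.sum_equiv (MulAut.conj z).toEquiv (fun x => ?_) fun x _ => ?_
    · simp only [Finset.mem_filter, Finset.mem_univ, true_and, MulEquiv.toEquiv_eq_coe,
        EquivLike.coe_coe, MulAut.conj_apply, hcz]
      exact and_congr_right fun h => by rw [hc x h, add_left_inj]
    · simp [hf]
  have hall : ∀ i, S i = S 0 := by
    intro i
    rw [← ZMod.natCast_zmod_val i]
    induction i.val with
    | zero => simp
    | succ n ih => rw [Nat.cast_succ, ← step, ih]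
  have h1 : ∑ x with ¬ Commute z x, f x = (p : ℂ) * S 0 := by
    rw [← Finset.sum_fiberwise (Finset.univ.filter fun x => ¬ Commute z x) c f,
      show (∑ i : ZMod p, ∑ x ∈ Finset.univ.filter (fun x => ¬ Commute z x) with c x = i, f x) =
        ∑ i : ZMod p, S i from Finset.sum_congr rfl fun i _ => by
          rw [hS, Finset.filter_filter],
      Finset.sum_congr rfl fun i _ => hall i, Finset.sum_const, Finset.card_univ, ZMod.card,
      nsmul_eq_mul]
  rw [h1]
  exact memLocalIdeal_mul_right (Subring.sum_mem _ fun x _ => hfl x)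
    ((memLocalIdeal_natCast_iff hp hpM p).2 dvd_rfl)

/-- Restriction to the centraliser of a `p`-element is multiplicative modulo `M`. -/
theorem resA_mul_small [Finite G] {p : ℕ} (hM : IsPModular p M) {z : G}
    (hz : ∃ k : ℕ, orderOf z = p ^ k) {H : Subgroup G} (hH : ∀ g, g ∈ H ↔ Commute z g)
    {a b : MonoidAlgebra ℂ G} (ha : IsCentralElt a) (hb : IsCentralElt b)
    (hal : IsLocElt M a) (hbl : IsLocElt M b) :
    IsSmallElt M (resA H (a * b) - resA H a * resA H b) := by
  classical
  haveI := Fintype.ofFinite G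
  intro h
  rw [MonoidAlgebra.coeff_sub, Finsupp.sub_apply, coeff_resA, MonoidAlgebra.coeff_mul_apply_left,
    MonoidAlgebra.coeff_mul_apply_left, Finsupp.sum_fintype _ _ (by simp),
    Finsupp.sum_fintype _ _ (by simp)]
  simp only [coeff_resA, Subgroup.coe_mul, Subgroup.coe_inv]
  rw [← Finset.sum_subtype (Finset.univ.filter fun x => Commute z x)
      (fun x => by simp [hH]) (fun x => a.coeff x * b.coeff (x⁻¹ * (h : G))),
    ← Finset.sum_filter_add_sum_filter_not Finset.univ (fun x => Commute z x),
    add_sub_cancel_left]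
  refine memLocalIdeal_sum_noncommuting hM hz _ (fun x => ?_) fun x => mul_mem (hal x) (hbl _)
  have hzh : z * (h : G) * z⁻¹ = (h : G) := by
    rw [((hH _).1 h.2).eq, mul_inv_cancel_right]
  have e1 : (z * x * z⁻¹)⁻¹ * (h : G) = z * (x⁻¹ * (h : G)) * z⁻¹ := by
    conv_lhs => rw [← hzh]
    group
  have ha' : a.coeff (z * x * z⁻¹) = a.coeff x := ha x z
  rw [e1, ha', show b.coeff (z * (x⁻¹ * (h : G)) * z⁻¹) = b.coeff (x⁻¹ * (h : G)) from hb _ z]

theorem omega_resA_classSum [Finite G] (H : Subgroup G) (ξ : IrrCharacter H) (g : G) :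
    omega (ξ : H → ℂ) (resA H (classSum g)) = inducedCentralChar H (ξ : H → ℂ) g := by
  classical
  haveI := Fintype.ofFinite G
  rw [omega_eq_sum, inducedCentralChar, finsum_mem_eq_finite_toFinset_sum _ (Set.toFinite _),
    Finset.sum_div]
  refine (Finset.sum_subset (Finset.subset_univ _) fun x _ hx => ?_).symm.trans
    (Finset.sum_congr rfl fun x hx => ?_)
  · simp only [Set.Finite.mem_toFinset, Set.mem_setOf_eq] at hx
    rw [coeff_resA, classSum, coeff_mkA, if_neg hx, zero_mul, zero_div]
  · simp only [Set.Finite.mem_toFinset, Set.mem_setOf_eq] at hx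
    rw [coeff_resA, classSum, coeff_mkA, if_pos hx, one_mul]

/-- Every block of the centraliser of a `p`-element induces. -/
theorem inducedBlockDefined_centralizer [Finite G] {p : ℕ} (hM : IsPModular p M) {z : G}
    (hz : ∃ k : ℕ, orderOf z = p ^ k) {H : Subgroup G} (hH : ∀ g, g ∈ H ↔ Commute z g)
    {b : Set (IrrCharacter H)} (hb : IsPBlock M b) : InducedBlockDefined M H b := by
  classical
  haveI := Fintype.ofFinite (IrrCharacter G)
  obtain ⟨ξ, hξ⟩ := isPBlock_nonempty hb
  set η : MonoidAlgebra ℂ G → ℂ := fun a => omega (ξ : H → ℂ) (resA H a) with hη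
  have hηmul : ∀ {a c : MonoidAlgebra ℂ G}, IsCentralElt a → IsLocElt M a → IsCentralElt c →
      IsLocElt M c → MemLocalIdeal M (η (a * c) - η a * η c) := by
    intro a c ha hal hc hcl
    rw [hη]
    dsimp only
    rw [← omega_mul ξ (isCentralElt_resA H ha) (isCentralElt_resA H hc), ← omega_sub]
    exact omega_small ξ ((isCentralElt_resA H (ha.mul hc)).sub
      ((isCentralElt_resA H ha).mul (isCentralElt_resA H hc))) (resA_mul_small hM hz hH ha hc hal hcl)
  have hηloc : ∀ {a : MonoidAlgebra ℂ G}, IsCentralElt a → IsLocElt M a → η a ∈ locRing M :=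
    fun ha hal => omega_mem_locRing ξ (isCentralElt_resA H ha) (isLocElt_resA H hal)
  -- some block idempotent is not annihilated
  set blocks := (Finset.univ : Finset (IrrCharacter G)).image fun χ : IrrCharacter G => blockOf M (χ : G → ℂ)
  have hsum : ∑ B ∈ blocks, blockIdem B = (1 : MonoidAlgebra ℂ G) := by
    refine eq_of_omega_eq (IsCentralElt.sum _ _ fun B _ => isCentralElt_blockIdem B)
      IsCentralElt.one fun χ => ?_
    rw [omega_one (IsIrrCharacter.apply_one_ne_zero χ.2), omega_sum,
      Finset.sum_eq_single (blockOf M (χ : G → ℂ))]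
    · rw [omega_blockIdem, if_pos (self_mem_blockOf χ)]
    · intro B hB hne
      obtain ⟨ψ, -, rfl⟩ := Finset.mem_image.1 hB
      rw [omega_blockIdem, if_neg]
      exact fun h => hne (blockOf_eq_of_mem h).symm
    · exact fun h => absurd (Finset.mem_image.2 ⟨χ, Finset.mem_univ _, rfl⟩) h
  obtain ⟨B, hB, hBM⟩ : ∃ B ∈ blocks, ¬ MemLocalIdeal M (η (blockIdem B)) := by
    by_contra! hcon
    refine not_memLocalIdeal_one (M := M) ?_
    have h1 : η 1 = 1 := by
      rw [hη]; dsimp only; rw [resA_one, omega_one (IsIrrCharacter.apply_one_ne_zero ξ.2)]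
    rw [← h1, ← hsum, hη]
    dsimp only
    rw [resA_sum, omega_sum]
    exact memLocalIdeal_sum _ _ hcon
  obtain ⟨φ₀, -, rfl⟩ := Finset.mem_image.1 hB
  have hBp : IsPBlock M (blockOf M (φ₀ : G → ℂ)) := isPBlock_blockOf φ₀
  set e := blockIdem (blockOf M (φ₀ : G → ℂ)) with he
  have hec : IsCentralElt e := isCentralElt_blockIdem _
  have hel : IsLocElt M e := isLocElt_blockIdem hBp
  have he1 : MemLocalIdeal M (η e - 1) := by
    have h1 := hηmul hec hel hec hel
    rw [blockIdem_mul_self, show η e - η e * η e = η e * (1 - η e) by ring] at h1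
    rcases memLocalIdeal_of_mul (hηloc hec hel) (sub_mem (one_mem _) (hηloc hec hel)) h1 with h | h
    · exact absurd h hBM
    · rw [← neg_sub]; exact memLocalIdeal_neg h
  refine ⟨_, hb, hBp, fun ξ' hξ' χ hχ g => ?_⟩
  set a := classSum g with ha
  have hac : IsCentralElt a := isCentralElt_classSum g
  have hal : IsLocElt M a := isLocElt_classSum g
  set w := centralChar (χ : G → ℂ) g
  have hwl : w ∈ locRing M := centralChar_mem_locRing χ g
  set a' := a - w • (1 : MonoidAlgebra ℂ G) with ha'
  have ha'c : IsCentralElt a' := hac.sub (IsCentralElt.one.smul w)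
  have ha'l : IsLocElt M a' := hal.sub (IsLocElt.one.smul hwl)
  set d := a' * e with hd
  have hdc : IsCentralElt d := ha'c.mul hec
  have hdl : IsLocElt M d := ha'l.mul hel
  have hdM : ∀ ψ : IrrCharacter G, MemLocalIdeal M (omega (ψ : G → ℂ) d) := by
    intro ψ
    rw [hd, omega_mul ψ ha'c hec, he, omega_blockIdem]
    split
    next h =>
      rw [mul_one, ha', omega_sub, omega_smul, omega_one (IsIrrCharacter.apply_one_ne_zero ψ.2),
        mul_one, ha, omega_classSum]
      exact isPBlock_sameBlock hBp h hχ g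
    next h => rw [mul_zero]; exact memLocalIdeal_zero
  obtain ⟨n, hn⟩ := exists_pow_small hdc hdl hdM
  have hpow : ∀ k : ℕ, MemLocalIdeal M (η (d ^ (k + 1)) - η d ^ (k + 1)) := fun k => by
    induction k with
    | zero => simpa using memLocalIdeal_zero
    | succ k ih =>
      have hk : IsCentralElt (d ^ (k + 1)) := hdc.pow _
      have hkl : IsLocElt M (d ^ (k + 1)) := by
        clear ih hk
        induction k with
        | zero => simpa using hdl
        | succ k ih => rw [pow_succ]; exact ih.mul hdl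
      rw [pow_succ d, pow_succ (η d)]
      have := memLocalIdeal_add (hηmul hk hkl hdc hdl) (memLocalIdeal_mul_right (hηloc hdc hdl) ih)
      rwa [sub_mul, sub_add_sub_cancel] at this
  have hηd : MemLocalIdeal M (η d) := by
    have h1 : MemLocalIdeal M (η (d ^ (n + 1))) :=
      omega_small ξ (isCentralElt_resA H (hdc.pow _)) fun h => by rw [coeff_resA]; exact hn _
    have h2 : MemLocalIdeal M (η d ^ (n + 1)) := by
      simpa using memLocalIdeal_sub h1 (hpow n)
    clear hn h1 hpow
    induction n with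
    | zero => simpa using h2
    | succ n ih =>
      rw [pow_succ] at h2
      rcases memLocalIdeal_of_mul (pow_mem (hηloc hdc hdl) _) (hηloc hdc hdl) h2 with h | h
      · exact ih h
      · exact h
  have h3 : MemLocalIdeal M (η a') := by
    have h4 := memLocalIdeal_add (memLocalIdeal_sub hηd (hηmul ha'c ha'l hec hel))
      (memLocalIdeal_mul_left (hηloc ha'c ha'l) (memLocalIdeal_neg he1))
    rw [hd] at h4
    convert h4 using 1
    ring
  have h5 : η a' = inducedCentralChar H (ξ : H → ℂ) g - w := by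
    rw [hη]
    dsimp only
    rw [ha', resA_sub, resA_smul, resA_one, omega_sub, omega_smul,
      omega_one (IsIrrCharacter.apply_one_ne_zero ξ.2), mul_one, ha, omega_resA_classSum]
  have h6 : MemLocalIdeal M (inducedCentralChar H (ξ' : H → ℂ) g -
      inducedCentralChar H (ξ : H → ℂ) g) := by
    rw [← omega_resA_classSum, ← omega_resA_classSum]
    exact omega_congr (isPBlock_sameBlock hb hξ' hξ) (isCentralElt_resA H (isCentralElt_classSum g))
      (isLocElt_resA H (isLocElt_classSum g))
  rw [h5] at h3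
  simpa using memLocalIdeal_add h6 h3

theorem isPBlock_principalBlock [Finite G] : IsPBlock M (principalBlock M G) :=
  ⟨⟨fun _ => 1, isIrrCharacter_one⟩, rfl⟩

theorem trivial_mem_principalBlock [Finite G] :
    (⟨fun _ => 1, isIrrCharacter_one⟩ : IrrCharacter G) ∈ principalBlock M G := sameBlock_refl _

/-- Central characters of the restricted idempotent of a block, in terms of induction. -/
theorem omega_resA_blockIdem [Finite G] {p : ℕ} (hM : IsPModular p M) {z : G}
    (hz : ∃ k : ℕ, orderOf z = p ^ k) {H : Subgroup G} (hH : ∀ g, g ∈ H ↔ Commute z g)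
    {B : Set (IrrCharacter G)} (hB : IsPBlock M B) (ξ : IrrCharacter H) :
    (B = principalBlock M G → ξ ∈ principalBlock M H →
      MemLocalIdeal M (omega (ξ : H → ℂ) (resA H (blockIdem B)) - 1)) ∧
    (¬ (B = principalBlock M G ↔ ξ ∈ principalBlock M H) →
      MemLocalIdeal M (omega (ξ : H → ℂ) (resA H (blockIdem B)))) := by
  classical
  haveI := Fintype.ofFinite G
  haveI := Fintype.ofFinite H
  haveI : Fact p.Prime := ⟨hM.1⟩
  set b := blockOf M (ξ : H → ℂ) with hb
  have hbp : IsPBlock M b := isPBlock_blockOf ξ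
  have hdef := inducedBlockDefined_centralizer hM hz hH hbp
  have hbiff : b = principalBlock M H ↔ ξ ∈ principalBlock M H := by
    constructor
    · intro h; rw [← h]; exact self_mem_blockOf ξ
    · exact fun h => isPBlock_eq_of_mem hbp isPBlock_principalBlock (self_mem_blockOf ξ) h
  have hcongr : ∀ B', IsInducedBlock M H b B' → ∀ φ ∈ B',
      MemLocalIdeal M (omega (ξ : H → ℂ) (resA H (blockIdem B)) - omega (φ : G → ℂ) (blockIdem B)) := by
    intro B' hind φ hφ
    have := induced_congr hM hind (a := blockCoeff B) (fun g t => by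
        have := isCentralElt_blockIdem B g t; simpa [blockIdem] using this)
      (blockCoeff_mem_locRing hB) (self_mem_blockOf ξ) hφ
    convert this using 2
    · rw [omega_eq_sum]; simp [blockIdem]
    · rfl
  constructor
  · intro h1 h2
    have hind := (Cfsg.Agent.S0936.result p M hM H b hdef).2 (hbiff.2 h2)
    have h3 := hcongr _ hind _ trivial_mem_principalBlock
    rwa [omega_blockIdem, if_pos] at h3
    rw [h1]; exact trivial_mem_principalBlock
  · intro h
    obtain ⟨B', hind⟩ := hdef
    obtain ⟨φ, hφ⟩ := isPBlock_nonempty hind.2.1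
    have h3 := hcongr B' hind φ hφ
    rwa [omega_blockIdem, if_neg, sub_zero] at h3
    intro hφB
    have hBB : B' = B := isPBlock_eq_of_mem hind.2.1 hB hφ hφB
    subst hBB
    apply h
    constructor
    · intro hB0
      rw [hB0] at hind
      exact hbiff.1 ((Cfsg.Agent.S0936.result p M hM H b ⟨_, hind⟩).1 hind)
    · intro h2
      exact isPBlock_eq_of_mem hind.2.1 isPBlock_principalBlock hφ (by
        by_contra hne
        have h4 := (Cfsg.Agent.S0936.result p M hM H b ⟨_, hind⟩).2 (hbiff.2 h2)
        have h5 : SameBlock M (φ : G → ℂ) (fun _ : G => (1 : ℂ)) := fun g => by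
          have e1 := hind.2.2 ξ (self_mem_blockOf ξ) φ hφ g
          have e2 := h4.2.2 ξ (self_mem_blockOf ξ) _ trivial_mem_principalBlock g
          simpa using memLocalIdeal_sub e2 e1
        exact hne (sameBlock_symm h5))

/-! ## The averaging idempotent -/

open Classical in
/-- The averaging idempotent of a subgroup. -/
noncomputable def avgElt [Finite G] (K : Subgroup G) : MonoidAlgebra ℂ G :=
  mkA fun g => if g ∈ K then (Nat.card K : ℂ)⁻¹ else 0

theorem sum_avgElt_mul [Fintype G] (K : Subgroup G) [Fintype K] (f : G → ℂ) :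
    ∑ g, (avgElt K).coeff g * f g = (Nat.card K : ℂ)⁻¹ * ∑ k : K, f k := by
  classical
  simp only [avgElt, coeff_mkA, ite_mul, zero_mul]
  rw [← Finset.sum_filter, Finset.sum_subtype (p := fun g => g ∈ K) _ (by simp), Finset.mul_sum]

theorem avgElt_idem [Finite G] (K : Subgroup G) : avgElt K * avgElt K = avgElt K := by
  classical
  haveI := Fintype.ofFinite G
  refine MonoidAlgebra.ext (Finsupp.ext fun g => ?_)
  rw [MonoidAlgebra.coeff_mul_apply_left, Finsupp.sum_fintype _ _ (by simp),
    sum_avgElt_mul K (fun x => (avgElt K).coeff (x⁻¹ * g))]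
  have h1 : ∀ k : K, (avgElt K).coeff ((k : G)⁻¹ * g) = (avgElt K).coeff g := fun k => by
    simp [avgElt, K.mul_mem_cancel_left (K.inv_mem k.2)]
  rw [Finset.sum_congr rfl fun k _ => h1 k, Finset.sum_const, Finset.card_univ, nsmul_eq_mul,
    ← Nat.card_eq_fintype_card, inv_mul_cancel_left₀]
  exact Nat.cast_ne_zero.2 Nat.card_pos.ne'

theorem single_mul_avgElt [Finite G] {K : Subgroup G} {k : G} (hk : k ∈ K) :
    MonoidAlgebra.single k (1 : ℂ) * avgElt K = avgElt K := by
  classical
  refine MonoidAlgebra.ext (Finsupp.ext fun g => ?_)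
  rw [MonoidAlgebra.coeff_single_mul_apply, one_mul]
  simp only [avgElt, coeff_mkA]
  exact if_congr (K.mul_mem_cancel_left (K.inv_mem hk)) rfl rfl

theorem avgElt_mul_single [Finite G] {K : Subgroup G} {k : G} (hk : k ∈ K) :
    avgElt K * MonoidAlgebra.single k (1 : ℂ) = avgElt K := by
  classical
  refine MonoidAlgebra.ext (Finsupp.ext fun g => ?_)
  rw [MonoidAlgebra.coeff_mul_single_apply, mul_one]
  simp only [avgElt, coeff_mkA]
  exact if_congr (K.mul_mem_cancel_right (K.inv_mem hk)) rfl rfl

theorem avgElt_commute [Finite G] {K : Subgroup G} {t : G}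
    (ht : ∀ x, t⁻¹ * x ∈ K ↔ x * t⁻¹ ∈ K) :
    Commute (avgElt K) (MonoidAlgebra.single t (1 : ℂ)) := by
  classical
  refine MonoidAlgebra.ext (Finsupp.ext fun g => ?_)
  rw [MonoidAlgebra.coeff_mul_single_apply, MonoidAlgebra.coeff_single_mul_apply]
  simp only [avgElt, coeff_mkA, one_mul, mul_one]
  exact if_congr (ht g).symm rfl rfl

theorem isCentralElt_avgElt [Finite G] (K : Subgroup G) [hK : K.Normal] :
    IsCentralElt (avgElt K) := by
  intro x g
  have h : g * x * g⁻¹ ∈ K ↔ x ∈ K :=
    ⟨fun h => by have := hK.conj_mem _ h g⁻¹; simpa [mul_assoc] using this,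
      fun h => hK.conj_mem _ h g⟩
  classical
  simp only [avgElt, coeff_mkA]
  exact if_congr h rfl rfl

theorem isLocElt_avgElt [Finite G] {p : ℕ} (hM : IsPModular p M) {K : Subgroup G}
    (hK : ¬ p ∣ Nat.card K) : IsLocElt M (avgElt K) := fun g => by
  rw [← mem_locRing, avgElt, coeff_mkA]
  split
  · exact inv_natCast_mem_locRing hM.1 hM.2.2 hK
  · exact zero_mem _

theorem omega_avgElt [Fintype G] (K : Subgroup G) [Fintype K] (χ : G → ℂ) :
    omega χ (avgElt K) = (Nat.card K : ℂ)⁻¹ * (∑ k : K, χ k) / χ 1 := by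
  rw [omega_eq_sum, sum_avgElt_mul]

theorem trace_asAlgebraHom_mul [Fintype G] {n : ℕ} (ρ : Representation ℂ G (Fin n → ℂ))
    (a : MonoidAlgebra ℂ G) (w : G) :
    LinearMap.trace ℂ _ (ρ.asAlgebraHom a * ρ w) = ∑ g, a.coeff g * ρ.character (g * w) := by
  rw [Representation.asAlgebraHom_def, MonoidAlgebra.lift_apply, Finsupp.sum_fintype _ _ (by simp),
    Finset.sum_mul, map_sum]
  exact Finset.sum_congr rfl fun g _ => by
    rw [smul_mul_assoc, map_smul, smul_eq_mul, Representation.character, map_mul ρ]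

/-- The idempotent `blockIdem B * avgElt K` on the centraliser. -/
theorem resA_mul_avgElt [Finite G] {H K : Subgroup G} (hKH : K ≤ H) (a : MonoidAlgebra ℂ G) :
    resA H (a * avgElt K) = resA H a * avgElt (K.subgroupOf H) := by
  classical
  haveI := Fintype.ofFinite G
  refine MonoidAlgebra.ext (Finsupp.ext fun h => ?_)
  rw [coeff_resA, MonoidAlgebra.coeff_mul_apply_left, MonoidAlgebra.coeff_mul_apply_left,
    Finsupp.sum_fintype _ _ (by simp), Finsupp.sum_fintype _ _ (by simp)]
  have hcard : Nat.card (K.subgroupOf H) = Nat.card K :=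
    Nat.card_congr (Subgroup.subgroupOfEquivOfLe hKH).toEquiv
  simp only [coeff_resA, avgElt, coeff_mkA, hcard]
  simp only [Subgroup.mem_subgroupOf, Subgroup.coe_mul, Subgroup.coe_inv]
  rw [← Finset.sum_subset (Finset.subset_univ (Finset.univ.filter fun x : G => x ∈ H)) ?_,
    Finset.sum_subtype (p := fun x => x ∈ H) _ (by simp)]
  intro x _ hx
  rw [if_neg fun hm => hx (Finset.mem_filter.2 ⟨Finset.mem_univ _, ?_⟩), mul_zero]
  have := H.mul_mem h.2 (H.inv_mem (hKH hm))
  simpa using this

/-- The general vanishing step. -/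
theorem small_of_omega [Finite G] {p : ℕ} (hM : IsPModular p M) {z : G}
    (hz : ∃ k : ℕ, orderOf z = p ^ k) {H : Subgroup G} (hH : ∀ g, g ∈ H ↔ Commute z g)
    {B : Set (IrrCharacter G)} (hB : IsPBlock M B) {f : MonoidAlgebra ℂ H} (hfc : IsCentralElt f)
    (hfl : IsLocElt M f) (hfi : f * f = f)
    (h : ∀ ψ : IrrCharacter H, MemLocalIdeal M
      (omega (ψ : H → ℂ) (resA H (blockIdem B)) * omega (ψ : H → ℂ) f)) :
    IsSmallElt M (resA H (blockIdem B) * f) := by
  have hr : IsCentralElt (resA H (blockIdem B)) := isCentralElt_resA H (isCentralElt_blockIdem B)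
  have hrl : IsLocElt M (resA H (blockIdem B)) := isLocElt_resA H (isLocElt_blockIdem hB)
  refine small_of_idem (hr.mul hfc) (hrl.mul hfl)
    (fun ψ => by rw [omega_mul ψ hr hfc]; exact h ψ) ?_
  have e1 := resA_mul_small hM hz hH (isCentralElt_blockIdem B) (isCentralElt_blockIdem B)
    (isLocElt_blockIdem hB) (isLocElt_blockIdem hB)
  rw [blockIdem_mul_self] at e1
  have e2 : resA H (blockIdem B) * f * (resA H (blockIdem B) * f) - resA H (blockIdem B) * f =
      (resA H (blockIdem B) * resA H (blockIdem B) - resA H (blockIdem B)) * f := by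
    rw [sub_mul, show resA H (blockIdem B) * f * (resA H (blockIdem B) * f) =
      resA H (blockIdem B) * resA H (blockIdem B) * f by
        rw [(hr.commute f).symm.mul_mul_mul_comm, hfi]]
  rw [e2]
  refine IsSmallElt.mul_right ?_ hfl
  simpa using IsSmallElt.zero.sub e1

/-- Principal block characters are constant on `z * K`. -/
theorem section_const [Finite G] {p : ℕ} (hM : IsPModular p M) {z : G}
    (hz : ∃ k : ℕ, orderOf z = p ^ k) {H : Subgroup G} (hH : ∀ g, g ∈ H ↔ Commute z g)
    {K : Subgroup G} (hKH : K ≤ H) (hKn : ∀ h ∈ H, ∀ k ∈ K, h * k * h⁻¹ ∈ K)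
    (hKp : ¬ p ∣ Nat.card K) {χ : IrrCharacter G} (hχ : χ ∈ principalBlock M G)
    {u : G} (hu : u ∈ K) : (χ : G → ℂ) (z * u) = (χ : G → ℂ) z := by
  classical
  haveI := Fintype.ofFinite G
  haveI := Fintype.ofFinite H
  haveI := Fintype.ofFinite K
  haveI : Fintype (K.subgroupOf H) := Fintype.ofFinite _
  haveI hKH' : (K.subgroupOf H).Normal := ⟨fun k hk h => by
    simpa [Subgroup.mem_subgroupOf] using hKn h h.2 k (Subgroup.mem_subgroupOf.1 hk)⟩
  have hKp' : ¬ p ∣ Nat.card (K.subgroupOf H) := by
    rwa [Nat.card_congr (Subgroup.subgroupOfEquivOfLe hKH).toEquiv]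
  set B := principalBlock M G with hBdef
  have hB : IsPBlock M B := isPBlock_principalBlock
  set ε := avgElt (K.subgroupOf H) with hε
  have hsmall : IsSmallElt M (resA H (blockIdem B) * (1 - ε)) := by
    refine small_of_omega hM hz hH hB (IsCentralElt.one.sub (isCentralElt_avgElt _))
      (IsLocElt.one.sub (isLocElt_avgElt hM hKp'))
      (by rw [sub_mul, one_mul, mul_sub, mul_one, avgElt_idem, sub_self, sub_zero]) fun ψ => ?_
    have hl1 : omega (ψ : H → ℂ) (resA H (blockIdem B)) ∈ locRing M := omega_mem_locRing ψ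
      (isCentralElt_resA H (isCentralElt_blockIdem B)) (isLocElt_resA H (isLocElt_blockIdem hB))
    have hl2 : omega (ψ : H → ℂ) (1 - ε) ∈ locRing M := omega_mem_locRing ψ
      (IsCentralElt.one.sub (isCentralElt_avgElt _)) (IsLocElt.one.sub (isLocElt_avgElt hM hKp'))
    by_cases hψ : ψ ∈ principalBlock M H
    · refine memLocalIdeal_mul_left hl1 ?_
      have h1 := omega_congr (ψ := ψ)
        (isPBlock_sameBlock isPBlock_principalBlock trivial_mem_principalBlock hψ)
        (IsCentralElt.one.sub (isCentralElt_avgElt (K.subgroupOf H)))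
        (IsLocElt.one.sub (isLocElt_avgElt hM hKp'))
      have h2 : omega (fun _ : H => (1 : ℂ)) (1 - ε) = 0 := by
        rw [omega_sub, omega_one (by simp), hε, omega_avgElt]
        simp [Nat.card_eq_fintype_card]
      rw [h2, zero_sub] at h1
      simpa using memLocalIdeal_neg h1
    · exact memLocalIdeal_mul_right hl2 ((omega_resA_blockIdem hM hz hH hB ψ).2
        fun h => hψ (h.1 rfl))
  have hzK : ∀ k ∈ K, Commute z k := fun k hk => (hH k).1 (hKH hk)
  set e := blockIdem B * (1 - avgElt K) with he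
  have hel : IsLocElt M e := (isLocElt_blockIdem hB).mul (IsLocElt.one.sub (isLocElt_avgElt hM hKp))
  have hidem : (1 - avgElt K) * (1 - avgElt K) = 1 - avgElt K := by
    rw [sub_mul, one_mul, mul_sub, mul_one, avgElt_idem, sub_self, sub_zero]
  have hee : e * e = e := by
    rw [he, ((isCentralElt_blockIdem B).commute (1 - avgElt K)).symm.mul_mul_mul_comm,
      blockIdem_mul_self, hidem]
  have hzc : Commute (avgElt K) (MonoidAlgebra.single z (1 : ℂ)) := avgElt_commute fun x => by
    have hn : ∀ h ∈ H, ∀ k ∈ K, h * k * h⁻¹ ∈ K := hKn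
    have hzH : z ∈ H := (hH z).2 (Commute.refl z)
    constructor
    · intro h
      have := hn z hzH _ h
      simpa [mul_assoc] using this
    · intro h
      have := hn z⁻¹ (H.inv_mem hzH) _ h
      simpa [mul_assoc] using this
  have hez : Commute e (MonoidAlgebra.single z 1) :=
    ((isCentralElt_blockIdem B).commute _).mul_left ((Commute.one_left _).sub_left hzc)
  have hbr : ∀ g, Commute z g → MemLocalIdeal M (e.coeff g) := fun g hg => by
    have h1 := hsmall ⟨g, (hH g).2 hg⟩
    have h2 : resA H e = resA H (blockIdem B) * (1 - ε) := by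
      rw [he, mul_sub, mul_one, resA_sub, resA_mul_avgElt hKH, mul_sub, mul_one]
    rw [← h2, coeff_resA] at h1
    exact h1
  have key : ∀ v ∈ K, (χ : G → ℂ) (z * v) = (Nat.card K : ℂ)⁻¹ * ∑ k : K, (χ : G → ℂ) (k * z) := by
    intro v hv
    have hvp : ¬ p ∣ orderOf v := fun h => hKp (h.trans (Subgroup.orderOf_dvd_natCard _ hv))
    have hev : Commute e (MonoidAlgebra.single v 1) :=
      ((isCentralElt_blockIdem B).commute _).mul_left ((Commute.one_left _).sub_left
        ((avgElt_mul_single hv).trans (single_mul_avgElt hv).symm))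
    have hv0 := sum_mul_classFunction_eq_zero hM hz hel hee hez hbr (hzK v hv).symm hvp hev
      (IsCharacter.isClassFunction (IsIrrCharacter.isCharacter χ.2))
    obtain ⟨n, ρ, hρ, hχρ⟩ := χ.2
    have hB1 : ρ.asAlgebraHom (blockIdem B) = 1 := by
      rw [asAlgebraHom_central ρ hρ (isCentralElt_blockIdem B), hχρ, omega_blockIdem, if_pos hχ,
        one_smul]
    rw [← hχρ, ← trace_asAlgebraHom_mul, he, map_mul ρ.asAlgebraHom, hB1, one_mul, map_sub ρ.asAlgebraHom, map_one ρ.asAlgebraHom, sub_mul,
      one_mul, map_sub, trace_asAlgebraHom_mul, sum_avgElt_mul K (fun g => ρ.character (g * (z * v))),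
      sub_eq_zero] at hv0
    rw [← hχρ, Representation.character, hv0]
    congr 1
    exact Fintype.sum_equiv (Equiv.mulRight (⟨v, hv⟩ : K)) _ _ fun k => by
      simp only [Equiv.coe_mulRight, Subgroup.coe_mul]
      rw [(hzK v hv).eq, mul_assoc]
  rw [key u hu, ← key 1 K.one_mem, mul_one]

/-- Characters outside the principal block sum to zero over `z * K`. -/
theorem section_sum_zero [Finite G] {p : ℕ} (hM : IsPModular p M) {z : G}
    (hz : ∃ k : ℕ, orderOf z = p ^ k) {H : Subgroup G} (hH : ∀ g, g ∈ H ↔ Commute z g)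
    {K : Subgroup G} [Fintype K] (hKH : K ≤ H) (hKn : ∀ h ∈ H, ∀ k ∈ K, h * k * h⁻¹ ∈ K)
    (hKp : ¬ p ∣ Nat.card K)
    (hK0 : ∀ ψ : IrrCharacter H, (∀ k : H, (k : G) ∈ K → (ψ : H → ℂ) k = (ψ : H → ℂ) 1) →
      ψ ∈ principalBlock M H)
    {χ : IrrCharacter G} (hχ : χ ∉ principalBlock M G) :
    ∑ k : K, (χ : G → ℂ) (k * z) = 0 := by
  classical
  haveI := Fintype.ofFinite G
  haveI := Fintype.ofFinite H
  haveI hKH' : (K.subgroupOf H).Normal := ⟨fun k hk h => by
    simpa [Subgroup.mem_subgroupOf] using hKn h h.2 k (Subgroup.mem_subgroupOf.1 hk)⟩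
  have hKp' : ¬ p ∣ Nat.card (K.subgroupOf H) := by
    rwa [Nat.card_congr (Subgroup.subgroupOfEquivOfLe hKH).toEquiv]
  set B := blockOf M (χ : G → ℂ) with hBdef
  have hB : IsPBlock M B := isPBlock_blockOf χ
  have hBne : B ≠ principalBlock M G := fun h => hχ (h ▸ self_mem_blockOf χ)
  set ε := avgElt (K.subgroupOf H) with hε
  have hεc : IsCentralElt ε := isCentralElt_avgElt _
  have hεl : IsLocElt M ε := isLocElt_avgElt hM hKp'
  have hsmall : IsSmallElt M (resA H (blockIdem B) * ε) := by
    refine small_of_omega hM hz hH hB hεc hεl (avgElt_idem _) fun ψ => ?_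
    have hl1 : omega (ψ : H → ℂ) (resA H (blockIdem B)) ∈ locRing M := omega_mem_locRing ψ
      (isCentralElt_resA H (isCentralElt_blockIdem B)) (isLocElt_resA H (isLocElt_blockIdem hB))
    by_cases hψ : ψ ∈ principalBlock M H
    · exact memLocalIdeal_mul_right (omega_mem_locRing ψ hεc hεl)
        ((omega_resA_blockIdem hM hz hH hB ψ).2 fun h => hBne (h.2 hψ))
    · have h2 : omega (ψ : H → ℂ) ε * omega (ψ : H → ℂ) ε = omega (ψ : H → ℂ) ε := by
        rw [← omega_mul ψ hεc hεc, avgElt_idem]
      rcases eq_or_ne (omega (ψ : H → ℂ) ε) 0 with h0 | h0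
      · rw [h0, mul_zero]; exact memLocalIdeal_zero
      · exfalso
        have h1 : omega (ψ : H → ℂ) ε = 1 := by
          have := congrArg (fun t => t * (omega (ψ : H → ℂ) ε)⁻¹) h2
          simpa [h0] using this
        refine hψ (hK0 ψ fun k hk => ?_)
        obtain ⟨n, ρ, hρ, hψρ⟩ := ψ.2
        have e1 : ρ.asAlgebraHom ε = 1 := by
          rw [asAlgebraHom_central ρ hρ hεc, hψρ, h1, one_smul]
        have e2 : ρ k = 1 := by
          have := congrArg ρ.asAlgebraHom
            (single_mul_avgElt (K := K.subgroupOf H) (k := k) (Subgroup.mem_subgroupOf.2 hk))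
          rwa [map_mul, ← hε, e1, mul_one, Representation.asAlgebraHom_single_one] at this
        simp only [← hψρ, Representation.character, e2, map_one]
  set e := blockIdem B * avgElt K with he
  have hel : IsLocElt M e := (isLocElt_blockIdem hB).mul (isLocElt_avgElt hM hKp)
  have hee : e * e = e := by
    rw [he, ((isCentralElt_blockIdem B).commute (avgElt K)).symm.mul_mul_mul_comm,
      blockIdem_mul_self, avgElt_idem]
  have hzH : z ∈ H := (hH z).2 (Commute.refl z)
  have hez : Commute e (MonoidAlgebra.single z 1) :=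
    ((isCentralElt_blockIdem B).commute _).mul_left (avgElt_commute fun x => by
      constructor
      · intro h
        have := hKn z hzH _ h
        simpa [mul_assoc] using this
      · intro h
        have := hKn z⁻¹ (H.inv_mem hzH) _ h
        simpa [mul_assoc] using this)
  have hbr : ∀ g, Commute z g → MemLocalIdeal M (e.coeff g) := fun g hg => by
    have h1 := hsmall ⟨g, (hH g).2 hg⟩
    rw [← resA_mul_avgElt hKH, coeff_resA] at h1
    exact h1
  have h0 := sum_mul_classFunction_eq_zero hM hz hel hee hez hbr (Commute.one_left z)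
    (by rw [orderOf_one]; exact hM.1.not_dvd_one) (by simp [← MonoidAlgebra.one_def])
    (IsCharacter.isClassFunction (IsIrrCharacter.isCharacter χ.2))
  obtain ⟨n, ρ, hρ, hχρ⟩ := χ.2
  have hB1 : ρ.asAlgebraHom (blockIdem B) = 1 := by
    rw [asAlgebraHom_central ρ hρ (isCentralElt_blockIdem B), hχρ, omega_blockIdem,
      if_pos (self_mem_blockOf χ), one_smul]
  simp only [mul_one] at h0
  rw [← hχρ, ← trace_asAlgebraHom_mul, he, map_mul ρ.asAlgebraHom, hB1, one_mul, trace_asAlgebraHom_mul,
    sum_avgElt_mul K (fun g => ρ.character (g * z)), mul_eq_zero, inv_eq_zero] at h0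
  rw [← hχρ]
  exact h0.resolve_left (Nat.cast_ne_zero.2 Nat.card_pos.ne')

end Cfsg.Agent.Inv
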