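import Cfsg.Agent.Lib.Inv.BrauerSuzuki
import Cfsg.Agent.Lib.Inv.SectionBlock
import Cfsg.Agent.Lib.Inv.Isolated
import Cfsg.Agent.Lib.Inv.Conj
import Cfsg.Agent.Lib.Block.WeakOrth
import Cfsg.Agent.Lib.Char.Central
import Cfsg.Agent.Lib.Local.Basic
import Cfsg.Prelude.Def_CaseTheorems

/-!
# Glauberman's theorem on isolated involutions

`glauberman`: an isolated involution is central modulo the largest normal subgroup of odd order.
-/

set_option autoImplicit false

open Cfsg Cfsg.Agent.Char Cfsg.Agent.Block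

namespace Cfsg.Agent.Inv

universe u

variable {G : Type u} [Group G] [Finite G]

/-- If `χ` is constant on `x` times the class of `y`, the constant is `χ x * χ y / χ 1`. -/
theorem apply_one_mul_const {χ : IrrCharacter G} {x y : G} {v : ℂ}
    (h : ∀ g : G, IsConj y g → (χ : G → ℂ) (x * g) = v) :
    (χ : G → ℂ) 1 * v = (χ : G → ℂ) x * (χ : G → ℂ) y := by
  classical
  haveI := Fintype.ofFinite G
  obtain ⟨n, ρ, hρ, hχ⟩ := χ.2
  haveI := hρ
  have hc : IsClassFunction G (fun g => if IsConj y g then (1 : ℂ) else 0) := fun a b => by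
    have hab : IsConj a (b * a * b⁻¹) := isConj_iff.2 ⟨b, rfl⟩
    by_cases hy : IsConj y a
    · simp only [if_pos hy, if_pos (hy.trans hab)]
    · simp only [if_neg hy, if_neg (fun h' : IsConj y (b * a * b⁻¹) => hy (h'.trans hab.symm))]
  have h2 := congrArg (fun A => LinearMap.trace ℂ _ (ρ x * A)) (sum_smul_rep_eq_smul_id ρ hc)
  simp only [Finset.mul_sum, mul_smul_comm, ← map_mul, map_sum, map_smul, smul_eq_mul] at h2
  rw [show ρ x * (LinearMap.id : (Fin n → ℂ) →ₗ[ℂ] (Fin n → ℂ)) = ρ x from rfl] at h2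
  simp only [show ∀ g, LinearMap.trace ℂ _ (ρ g) = (χ : G → ℂ) g from
    fun g => by rw [← hχ]; rfl, ite_mul, one_mul, zero_mul, hχ, ← Finset.sum_filter] at h2
  rw [Finset.sum_congr rfl fun g hg => h g (Finset.mem_filter.1 hg).2,
    Finset.sum_congr rfl fun g hg => (IsIrrCharacter.apply_isConj χ.2 (Finset.mem_filter.1 hg).2).symm,
    Finset.sum_const, Finset.sum_const, nsmul_eq_mul, nsmul_eq_mul] at h2
  have hne : ((Finset.univ.filter fun g => IsConj y g).card : ℂ) ≠ 0 :=
    Nat.cast_ne_zero.2 (Finset.card_pos.2 ⟨y, Finset.mem_filter.2 ⟨Finset.mem_univ y, .refl y⟩⟩).ne'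
  have hn : ((Module.finrank ℂ (Fin n → ℂ) : ℕ) : ℂ) = (χ : G → ℂ) 1 := by rw [← hχ, ρ.char_one]
  rw [hn] at h2
  field_simp [IsIrrCharacter.apply_one_ne_zero χ.2] at h2
  linear_combination h2

theorem isolated_subgroup {z : G} (hz : IsIsolatedInvolution z) {L : Subgroup G} (hzL : z ∈ L) :
    IsIsolatedInvolution (⟨z, hzL⟩ : L) := by
  refine ⟨by rw [← Subgroup.orderOf_coe]; exact hz.1, fun g hg => Subtype.ext ?_⟩
  exact hz.2 (g : G) (hg.map L.subtype)

theorem isolated_quotient {z : G} (hz : IsIsolatedInvolution z) {N : Subgroup G} [N.Normal]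
    (hzN : z ∉ N) : IsIsolatedInvolution (QuotientGroup.mk' N z) := by
  refine isolated_of_odd ?_ fun g => ?_
  · refine orderOf_eq_two_of_mul_self ?_ ?_
    · rw [← map_mul, mul_self_of_orderOf_two hz.1, map_one]
    · exact fun h => hzN ((QuotientGroup.eq_one_iff z).1 h)
  · obtain ⟨c, rfl⟩ := QuotientGroup.mk'_surjective N g
    rw [← map_inv, ← map_mul, ← map_mul, ← map_mul]
    exact (isolated_odd_aux hz c).of_dvd_nat (orderOf_map_dvd _ _)

theorem odd_orderOf_commutator {z : G} (hz : IsIsolatedInvolution z) (g : G) :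
    Odd (orderOf (z * g * z⁻¹ * g⁻¹)) := by
  have h := isolated_odd_aux hz g
  rwa [show z * (g * z * g⁻¹) = z * g * z⁻¹ * g⁻¹ by
    rw [inv_eq_self_of_orderOf_two hz.1]; group] at h

/-- Conjugation inside the centralizer of `z`: if `t` and `g * t * g⁻¹` centralise the isolated
involution `z`, they are conjugate by an element centralising `z`. -/
theorem isolated_control {z t g : G} (hz : IsIsolatedInvolution z) (ht : Commute z t)
    (htg : Commute z (g * t * g⁻¹)) :
    ∃ c : G, c * z * c⁻¹ = z ∧ c * t * c⁻¹ = g * t * g⁻¹ := by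
  obtain ⟨-, -, hd⟩ := isolated_root hz g⁻¹
  set d := oddRoot (g⁻¹ * z * g⁻¹⁻¹ * z) with hdd
  have hdt : Commute d t := by
    have h1 : Commute (g⁻¹ * z * g⁻¹⁻¹) t := by
      have := htg.map (MulAut.conj g⁻¹).toMonoidHom
      simpa [mul_assoc] using this
    exact (h1.mul_left ht).pow_left _
  refine ⟨g * d, ?_, ?_⟩
  · rw [show g * d * z * (g * d)⁻¹ = g * (d * z * d⁻¹) * g⁻¹ by group, hd]
    group
  · rw [show g * d * t * (g * d)⁻¹ = g * (d * t * d⁻¹) * g⁻¹ by group, hdt.eq, mul_inv_cancel_right]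

section Minimal

variable {z : G}

/-- Induction hypothesis transported to a proper subgroup. -/
theorem commutator_mem_core_of_lt
    (hIH : ∀ (H : Type u) [Group H] [Finite H], Nat.card H < Nat.card G → ∀ x : H,
      IsIsolatedInvolution x → ∀ g : H, x * g * x⁻¹ * g⁻¹ ∈ oddCore H)
    (hz : IsIsolatedInvolution z) {L : Subgroup G} (hL : L ≠ ⊤) (hzL : z ∈ L) {g : G} (hg : g ∈ L) :
    z * g * z⁻¹ * g⁻¹ ∈ (oddCore L).map L.subtype := by
  have hlt : Nat.card L < Nat.card G :=
    lt_of_le_of_ne (Subgroup.card_le_card_group L) fun h => hL (Subgroup.eq_top_of_card_eq L h)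
  exact ⟨_, hIH L hlt _ (isolated_subgroup hz hzL) ⟨g, hg⟩, rfl⟩

/-- In a minimal counterexample there is no central involution. -/
theorem notMem_center_of_minimal
    (hIH : ∀ (H : Type u) [Group H] [Finite H], Nat.card H < Nat.card G → ∀ x : H,
      IsIsolatedInvolution x → ∀ g : H, x * g * x⁻¹ * g⁻¹ ∈ oddCore H)
    (hcore : oddCore G = ⊥) (hz : IsIsolatedInvolution z) (hzc : z ∉ Subgroup.center G)
    {s : G} (hs : orderOf s = 2) : s ∉ Subgroup.center G := by
  intro hsc
  haveI : Fact (Nat.Prime 2) := ⟨Nat.prime_two⟩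
  set S := Subgroup.zpowers s with hS
  haveI hSn : S.Normal := ⟨fun a ha g => by
    rw [Subgroup.mem_center_iff.1 (Subgroup.zpowers_le.2 hsc ha) g, mul_inv_cancel_right]
    exact ha⟩
  have hzS : z ∉ S := fun h => hzc (Subgroup.zpowers_le.2 hsc h)
  have hScard : Nat.card S = 2 := by rw [hS, Nat.card_zpowers, hs]
  have hlt : Nat.card (G ⧸ S) < Nat.card G := by
    rw [S.card_eq_card_quotient_mul_card_subgroup, hScard]
    have := Nat.card_pos (α := G ⧸ S)
    omega
  set N := (oddCore (G ⧸ S)).comap (QuotientGroup.mk' S) with hN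
  haveI hNn : N.Normal := (inferInstance : (oddCore (G ⧸ S)).Normal).comap _
  -- `N` has order twice an odd number, hence is `S`
  have hNS : Nat.card N = 2 := by
    have hcard : Nat.card N = 2 * Nat.card (oddCore (G ⧸ S)) := by
      rw [hN, Solv.card_comap_mk', hScard]
    have hodd : Odd (Nat.card (oddCore (G ⧸ S))) := Local.oddCore_card_odd
    obtain ⟨T⟩ := (inferInstance : Nonempty (Sylow 2 N))
    have hT : Nat.card (T : Subgroup N) = 2 := by
      obtain ⟨k, hk⟩ := T.isPGroup'.exists_card_eq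
      have hd : Nat.card (T : Subgroup N) ∣ Nat.card N := Subgroup.card_subgroup_dvd_card _
      have h2 : 2 ∣ Nat.card (T : Subgroup N) := T.dvd_card_of_dvd_card ⟨_, hcard⟩
      rw [hk, hcard] at hd
      have h3 : 2 ^ k ∣ 2 := (Nat.Coprime.pow_left k (Nat.coprime_two_left.2 hodd)).dvd_of_dvd_mul_right hd
      exact Nat.dvd_antisymm (hk ▸ h3) h2
    obtain ⟨H, hH⟩ := exists_index_two_of_cyclic_sylow (even_iff_two_dvd.2 ⟨_, hcard⟩) T
      (isCyclic_of_prime_card hT)
    haveI := Subgroup.normal_of_index_eq_two hH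
    have hHodd : Odd (Nat.card H) := by
      have := H.card_mul_index
      rw [hH, hcard, mul_comm] at this
      rwa [Nat.eq_of_mul_eq_mul_left two_pos this]
    have hHle : H ≤ oddCore N := Solv.le_pPrimeCore (Nat.coprime_two_right.2 hHodd)
    have hHbot : H = ⊥ := by
      rw [← Subgroup.map_eq_bot_iff_of_injective H Subtype.val_injective (f := N.subtype)]
      refine eq_bot_iff.2 ((Subgroup.map_mono hHle).trans ?_)
      rw [Solv.pPrimeCore_map_subtype]
      exact le_of_le_of_eq inf_le_left hcore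
    rw [hHbot, Subgroup.index_bot] at hH
    exact hH
  refine hzc (Subgroup.mem_center_iff.2 fun g => ?_)
  have hmem : z * g * z⁻¹ * g⁻¹ ∈ N := by
    have := hIH (G ⧸ S) hlt _ (isolated_quotient hz hzS) (QuotientGroup.mk' S g)
    rw [← map_inv, ← map_inv, ← map_mul, ← map_mul, ← map_mul] at this
    exact this
  have hd : orderOf (z * g * z⁻¹ * g⁻¹) ∣ 2 := hNS ▸ Subgroup.orderOf_dvd_natCard N hmem
  have h1 : z * g * z⁻¹ * g⁻¹ = 1 := by
    rcases (Nat.dvd_prime Nat.prime_two).1 hd with e | e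
    · exact orderOf_eq_one_iff.1 e
    · exact absurd (e ▸ odd_orderOf_commutator hz g) (by decide)
  calc g * z = (z * g * z⁻¹ * g⁻¹) * (g * z) := by rw [h1, one_mul]
    _ = z * g := by group

/-- In a minimal counterexample the only normal subgroup containing `z` is the whole group. -/
theorem eq_top_of_minimal
    (hIH : ∀ (H : Type u) [Group H] [Finite H], Nat.card H < Nat.card G → ∀ x : H,
      IsIsolatedInvolution x → ∀ g : H, x * g * x⁻¹ * g⁻¹ ∈ oddCore H)
    (hcore : oddCore G = ⊥) (hz : IsIsolatedInvolution z) (hzc : z ∉ Subgroup.center G)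
    {M : Subgroup G} [hM : M.Normal] (hzM : z ∈ M) : M = ⊤ := by
  by_contra hne
  refine hzc (Subgroup.mem_center_iff.2 fun g => ?_)
  have hw : g * z * g⁻¹ ∈ M := hM.conj_mem z hzM g
  have := commutator_mem_core_of_lt hIH hz hne hzM hw
  rw [Solv.pPrimeCore_map_subtype, show pPrimeCore 2 G = ⊥ from hcore, bot_inf_eq,
    Subgroup.mem_bot, mul_inv_eq_one, mul_inv_eq_iff_eq_mul] at this
  exact (mul_inv_eq_iff_eq_mul.1 (hz.2 g this)).symm.trans rfl |>.symm

/-- The central computation: values on `z` times a conjugate of `t`. -/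
theorem apply_mul_conj_of_minimal
    (hIH : ∀ (H : Type u) [Group H] [Finite H], Nat.card H < Nat.card G → ∀ x : H,
      IsIsolatedInvolution x → ∀ g : H, x * g * x⁻¹ * g⁻¹ ∈ oddCore H)
    (hcore : oddCore G = ⊥) (hz : IsIsolatedInvolution z) (hzc : z ∉ Subgroup.center G)
    {M : Ideal AlgInt} (hM : IsPModular 2 M) {χ : IrrCharacter G} (hχ : χ ∈ principalBlock M G)
    {t : G} (ht : orderOf t = 2) (hzt : Commute z t) (htz : t ≠ z) {t' : G} (htt : IsConj t t') :
    (χ : G → ℂ) (z * t') = (χ : G → ℂ) (z * t) := by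
  haveI := prime_of_isPModular hM
  obtain ⟨g, rfl⟩ := isConj_iff.1 htt
  set t' := g * t * g⁻¹ with ht'
  have ht'2 : orderOf t' = 2 := (orderOf_conj g t).trans ht
  have heven : Even (orderOf (z * t')) := by
    by_contra hodd
    obtain ⟨d, -, hd⟩ := S0208.result z t' hz.1 ht'2 (Nat.not_even_iff_odd.1 hodd)
    have e : (g⁻¹ * d) * z * (g⁻¹ * d)⁻¹ = t := by
      rw [show (g⁻¹ * d) * z * (g⁻¹ * d)⁻¹ = g⁻¹ * (d * z * d⁻¹) * g by group, hd, ht']; group
    have := hz.2 _ (by rw [e]; exact hzt)
    rw [e] at this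
    exact htz this
  obtain ⟨hs2, hsz, hst⟩ := S0209.result z t' hz.1 ht'2 heven
  set w := z * t' with hw
  set m := orderOf w / 2 with hm
  set s := w ^ m with hs
  set L := Subgroup.centralizer ({s} : Set G) with hL
  have hLtop : L ≠ ⊤ := fun h => notMem_center_of_minimal hIH hcore hz hzc hs2
    (Subgroup.centralizer_eq_top_iff_subset.1 h (Set.mem_singleton s))
  have hzL : z ∈ L := Subgroup.mem_centralizer_singleton_iff.2 hsz.symm.eq
  have htL : t' ∈ L := Subgroup.mem_centralizer_singleton_iff.2 hst.symm.eq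
  set K := (oddCore L).map L.subtype with hK
  have hKcard : ¬ 2 ∣ Nat.card K := by
    rw [hK, Subgroup.card_subtype, ← even_iff_two_dvd, Nat.not_even_iff_odd]
    exact Local.oddCore_card_odd
  have hw2 : w ^ 2 ∈ K := by
    have := commutator_mem_core_of_lt hIH hz hLtop hzL htL
    rwa [inv_eq_self_of_orderOf_two hz.1, inv_eq_self_of_orderOf_two ht'2, mul_assoc,
      ← pow_two] at this
  obtain ⟨j, hj⟩ : Odd m := by
    have h2 : orderOf (w ^ 2) = m := by
      rw [orderOf_pow' _ two_ne_zero, Nat.gcd_eq_right (even_iff_two_dvd.1 heven)]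
    have hd := Subgroup.orderOf_dvd_natCard K hw2
    rw [h2] at hd
    exact (Nat.not_even_iff_odd.1 fun h => hKcard (even_iff_two_dvd.1 h)).of_dvd_nat hd
  -- `w = s * k` with `k ∈ K`
  have hsw : w = s * (w ^ 2) ^ (j + 1) := by
    rw [← pow_mul, hs, ← pow_add, show m + 2 * (j + 1) = orderOf w + 1 by
      have := Nat.two_mul_div_two_of_even heven; omega, pow_succ, pow_orderOf_eq_one, one_mul]
  have hconst : (χ : G → ℂ) w = (χ : G → ℂ) s := by
    rw [hsw]
    refine section_const hM (z := s) ⟨1, by rw [pow_one]; exact hs2⟩ (H := L)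
      (fun g => ?_) (Subgroup.map_subtype_le _) ?_ hKcard hχ (pow_mem hw2 _)
    · rw [hL, Subgroup.mem_centralizer_singleton_iff]
      exact eq_comm
    · rintro h hh _ ⟨k, hk, rfl⟩
      exact ⟨(⟨h, hh⟩ : L) * k * (⟨h, hh⟩ : L)⁻¹,
        (inferInstance : (oddCore L).Normal).conj_mem k hk _, by simp⟩
  -- `z * s` is a conjugate of `t` centralising `z`
  have hzs : z * s = (w ^ j)⁻¹ * t' * w ^ j := by
    have h1 := x_mul_zpow hz.1 ht'2 (j : ℤ)
    rw [zpow_neg, zpow_natCast, ← hw] at h1
    have h3 : t' = z * w := by rw [hw, ← mul_assoc, mul_self_of_orderOf_two hz.1, one_mul]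
    calc z * s = z * w ^ j * (w * w ^ j) := by
          rw [hs, hj, mul_assoc, ← pow_succ', ← pow_add]
          congr 2
          omega
      _ = (w ^ j)⁻¹ * (z * w) * w ^ j := by rw [h1]; simp only [mul_assoc]
      _ = _ := by rw [← h3]
  have hconj : (w ^ j)⁻¹ * g * t * ((w ^ j)⁻¹ * g)⁻¹ = z * s := by rw [hzs, ht']; group
  obtain ⟨c, hcz, hct⟩ := isolated_control hz (g := (w ^ j)⁻¹ * g) hzt (by
    rw [hconj]; exact (Commute.refl z).mul_right hsz.symm)
  rw [hconst]
  refine IsIrrCharacter.apply_isConj χ.2 (IsConj.symm (isConj_iff.2 ⟨c, ?_⟩))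
  rw [show c * (z * t) * c⁻¹ = (c * z * c⁻¹) * (c * t * c⁻¹) by group, hcz, hct, hconj,
    ← mul_assoc, mul_self_of_orderOf_two hz.1, one_mul]

/-- No second involution centralises `z` in a minimal counterexample. -/
theorem eq_of_commute_of_minimal
    (hIH : ∀ (H : Type u) [Group H] [Finite H], Nat.card H < Nat.card G → ∀ x : H,
      IsIsolatedInvolution x → ∀ g : H, x * g * x⁻¹ * g⁻¹ ∈ oddCore H)
    (hcore : oddCore G = ⊥) (hz : IsIsolatedInvolution z) (hzc : z ∉ Subgroup.center G)
    {t : G} (ht : orderOf t = 2) (hzt : Commute z t) : t = z := by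
  classical
  by_contra htz
  obtain ⟨M, hM⟩ := exists_isPModular Nat.prime_two
  haveI := prime_of_isPModular hM
  haveI := Fintype.ofFinite G
  set B := principalBlock M G
  have hu2 : orderOf (z * t) = 2 := by
    refine orderOf_eq_two_of_mul_self ?_ fun h => htz ?_
    · rw [hzt.symm.mul_mul_mul_comm, mul_self_of_orderOf_two hz.1, mul_self_of_orderOf_two ht, one_mul]
    · rw [eq_inv_of_mul_eq_one_right h, inv_eq_self_of_orderOf_two hz.1]
  have hzu : Commute z (z * t) := (Commute.refl z).mul_right hzt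
  have hzzt : z * (z * t) = t := by rw [← mul_assoc, mul_self_of_orderOf_two hz.1, one_mul]
  have huz : z * t ≠ z := fun h => ne_one_of_orderOf_two ht (mul_eq_left.1 h)
  have key : ∀ χ ∈ B, χ ≠ trivChar G → (χ : G → ℂ) t + (χ : G → ℂ) (z * t) = 0 := by
    intro χ hχ hne
    have e1 := apply_one_mul_const (χ := χ) (x := z) (y := t) fun g hg =>
      apply_mul_conj_of_minimal hIH hcore hz hzc hM hχ ht hzt htz hg
    have e2 := apply_one_mul_const (χ := χ) (x := z) (y := z * t) fun g hg =>
      apply_mul_conj_of_minimal hIH hcore hz hzc hM hχ hu2 hzu huz hg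
    rw [hzzt] at e2
    have h1 := IsIrrCharacter.apply_one_ne_zero χ.2
    have hz1 : (χ : G → ℂ) z ≠ (χ : G → ℂ) 1 := by
      intro he
      have hchar := IsIrrCharacter.isCharacter χ.2
      let ker : Subgroup G :=
        { carrier := {a | (χ : G → ℂ) a = (χ : G → ℂ) 1}
          one_mem' := rfl
          mul_mem' := fun {a b} ha hb =>
            ((IsCharacter.apply_mul_of_eq_one hchar ha b).1).trans hb
          inv_mem' := fun {a} ha => by
            have := (IsCharacter.apply_mul_of_eq_one hchar ha a⁻¹).2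
            rw [inv_mul_cancel] at this
            exact this.symm }
      haveI : ker.Normal := ⟨fun a ha b => by
        show (χ : G → ℂ) (b * a * b⁻¹) = (χ : G → ℂ) 1
        rw [← IsIrrCharacter.apply_isConj χ.2 (isConj_iff.2 ⟨b, rfl⟩)]
        exact ha⟩
      have htop : ker = ⊤ := eq_top_of_minimal hIH hcore hz hzc (M := ker) he
      have hall : ∀ g, (χ : G → ℂ) g = (χ : G → ℂ) 1 := fun g => (htop ▸ Subgroup.mem_top g : g ∈ ker)
      refine hne (Subtype.ext ?_)
      by_contra hne'
      have h0 := IsIrrCharacter.classInner_eq_zero χ.2 (trivChar G).2 hne'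
      rw [classInner] at h0
      simp only [trivChar_apply, map_one, mul_one, hall, Finset.sum_const, Finset.card_univ,
        nsmul_eq_mul] at h0
      simp [Nat.card_eq_fintype_card, h1, Fintype.card_ne_zero] at h0
    rcases eq_or_ne ((χ : G → ℂ) t) 0 with h0 | h0
    · rw [h0, mul_zero, mul_eq_zero] at e1
      rw [h0, e1.resolve_left h1, add_zero]
    · have hsq : ((χ : G → ℂ) z - (χ : G → ℂ) 1) * ((χ : G → ℂ) z + (χ : G → ℂ) 1) *
          (χ : G → ℂ) t = 0 := by
        linear_combination (-(χ : G → ℂ) z) * e1 - (χ : G → ℂ) 1 * e2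
      have hneg : (χ : G → ℂ) z + (χ : G → ℂ) 1 = 0 := by
        rcases mul_eq_zero.1 hsq with h | h
        · exact (mul_eq_zero.1 h).resolve_left (sub_ne_zero.2 hz1)
        · exact absurd h h0
      exact (mul_eq_zero.1 (show (χ : G → ℂ) 1 * ((χ : G → ℂ) t + (χ : G → ℂ) (z * t)) = 0 by
        linear_combination e1 + (χ : G → ℂ) t * hneg)).resolve_left h1
  have horth : ∀ y : G, orderOf y = 2 → ∑ᶠ χ ∈ B, (χ : G → ℂ) 1 * (χ : G → ℂ) y = 0 := fun y hy =>
    weak_orthogonality' hM isPBlock_principalBlock (by rw [orderOf_one]; decide)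
      (by rw [hy])
  haveI : Fintype (IrrCharacter G) := Fintype.ofFinite _
  have h2 := congrArg₂ (· + ·) (horth t ht) (horth (z * t) hu2)
  simp only [finsum_mem_eq_toFinset_sum, add_zero, ← Finset.sum_add_distrib, ← mul_add] at h2
  rw [Finset.sum_eq_single (trivChar G) (fun χ hχ hne => by
      rw [key χ (Set.mem_toFinset.1 hχ) hne, mul_zero])
    (fun h => absurd (Set.mem_toFinset.2 trivial_mem_principalBlock) h)] at h2
  norm_num at h2

end Minimal

theorem glauberman_aux (n : ℕ) : ∀ (G : Type u) [Group G] [Finite G], Nat.card G = n → ∀ z : G,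
    IsIsolatedInvolution z → ∀ g : G, z * g * z⁻¹ * g⁻¹ ∈ oddCore G := by
  induction n using Nat.strong_induction_on with
  | _ n ih =>
    intro G _ _ hn z hz g
    subst hn
    have hIH : ∀ (H : Type u) [Group H] [Finite H], Nat.card H < Nat.card G → ∀ x : H,
        IsIsolatedInvolution x → ∀ g : H, x * g * x⁻¹ * g⁻¹ ∈ oddCore H :=
      fun H _ _ hlt => ih _ hlt H rfl
    by_cases hcore : oddCore G = ⊥
    swap
    · have hzO : z ∉ oddCore G := fun h => by
        have := Subgroup.orderOf_dvd_natCard _ h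
        rw [hz.1] at this
        exact Nat.not_even_iff_odd.2 Local.oddCore_card_odd (even_iff_two_dvd.2 this)
      have hlt : Nat.card (G ⧸ oddCore G) < Nat.card G := by
        rw [(oddCore G).card_eq_card_quotient_mul_card_subgroup]
        have h1 := Nat.card_pos (α := G ⧸ oddCore G)
        have h2 : 1 < Nat.card (oddCore G) := (Subgroup.one_lt_card_iff_ne_bot _).2 hcore
        nlinarith
      have := hIH _ hlt _ (isolated_quotient hz hzO) (QuotientGroup.mk' _ g)
      rw [show oddCore (G ⧸ oddCore G) = ⊥ from Solv.pPrimeCore_quotient_pPrimeCore 2,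
        Subgroup.mem_bot, ← map_inv, ← map_inv, ← map_mul, ← map_mul, ← map_mul] at this
      exact (QuotientGroup.eq_one_iff _).1 this
    suffices hzc : z ∈ Subgroup.center G by
      rw [← Subgroup.mem_center_iff.1 hzc g, mul_inv_cancel_right, mul_inv_cancel]
      exact one_mem _
    by_contra hzc
    have hconj : ∀ u : G, orderOf u = 2 → IsConj z u := fun u hu => by
      by_contra hnc
      obtain ⟨v, hv, hvz, -, hcomm, -⟩ := exists_commuting_of_not_isConj hz.1 hu hnc
      exact hvz (eq_of_commute_of_minimal hIH hcore hz hzc hv hcomm.symm)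
    have hrank : TwoRankOne G := fun s t hs ht hst => by
      obtain ⟨c, rfl⟩ := isConj_iff.1 (hconj s hs)
      have h1 : Commute z (c⁻¹ * t * c) := by
        have := hst.map (MulAut.conj c⁻¹).toMonoidHom
        simpa [mul_assoc] using this
      have h2 := eq_of_commute_of_minimal hIH hcore hz hzc
        (by rw [← inv_inv c]; simpa using (orderOf_conj c⁻¹ t).trans ht) h1
      rw [← h2]; group
    haveI : Nontrivial G := ⟨z, 1, ne_one_of_orderOf_two hz.1⟩
    haveI : IsSimpleGroup G := ⟨fun N hN => by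
      haveI := hN
      rcases eq_or_ne N ⊥ with h | hne
      · exact Or.inl h
      right
      have heven : 2 ∣ Nat.card N := by
        by_contra hodd
        refine hne (eq_bot_iff.2 (le_of_le_of_eq (Solv.le_pPrimeCore ?_) hcore))
        exact Nat.coprime_two_right.2 (Nat.not_even_iff_odd.1 fun h => hodd (even_iff_two_dvd.1 h))
      haveI : Fact (Nat.Prime 2) := ⟨Nat.prime_two⟩
      obtain ⟨u, hu⟩ := exists_prime_orderOf_dvd_card' (G := N) 2 heven
      obtain ⟨c, hc⟩ := isConj_iff.1 (hconj u (by rw [Subgroup.orderOf_coe, hu]))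
      refine eq_top_of_minimal hIH hcore hz hzc ?_
      have h3 := hN.conj_mem (u : G) u.2 c⁻¹
      rwa [← hc, show c⁻¹ * (c * z * c⁻¹) * c⁻¹⁻¹ = z by group] at h3⟩
    exact false_of_simple_rankOne hrank hz.1 hzc

/-- **Glauberman's theorem**: an isolated involution is central modulo the core of odd order. -/
theorem glauberman {z : G} (hz : IsIsolatedInvolution z) (g : G) :
    z * g * z⁻¹ * g⁻¹ ∈ oddCore G :=
  glauberman_aux _ G rfl z hz g

/-- Without normal subgroups of odd order an isolated involution is central. -/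
theorem isolated_mem_center (hcore : oddCore G = ⊥) {z : G} (hz : IsIsolatedInvolution z) :
    z ∈ Subgroup.center G := by
  refine Subgroup.mem_center_iff.2 fun g => ?_
  have h := glauberman hz g
  rw [hcore, Subgroup.mem_bot] at h
  calc g * z = (z * g * z⁻¹ * g⁻¹) * (g * z) := by rw [h, one_mul]
    _ = z * g := by group

end Cfsg.Agent.Inv
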