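import Mathlib.GroupTheory.Sylow
import Mathlib.GroupTheory.Nilpotent
import Mathlib.Algebra.Group.Subgroup.Pointwise

/-!
# The Baer–Suzuki theorem
-/

open Pointwise

namespace Cfsg.Agent.Inv

variable {G : Type*} [Group G] [Finite G] {p : ℕ} [Fact p.Prime]

/-- Baer–Suzuki for subgroups: `X` lies in a normal `p`-subgroup when it generates a `p`-group with
each of its conjugates. -/
theorem baerSuzuki (X : Subgroup G) (hX : IsPGroup p X)
    (h : ∀ g : G, IsPGroup p ↥(X ⊔ MulAut.conj g • X)) :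
    ∃ N : Subgroup G, N.Normal ∧ IsPGroup p N ∧ X ≤ N := by
  classical
  let K : Set (Subgroup G) := Set.range fun g : G => MulAut.conj g • X
  have hKc : ∀ Y ∈ K, ∀ g : G, MulAut.conj g • Y ∈ K := by
    rintro _ ⟨a, rfl⟩ g
    exact ⟨g * a, by simp [mul_smul]⟩
  have hXK : X ∈ K := ⟨1, by simp⟩
  have hpair : ∀ A ∈ K, ∀ B ∈ K, IsPGroup p ↥(A ⊔ B) := by
    rintro _ ⟨a, rfl⟩ _ ⟨b, rfl⟩
    have h1 := (h (a⁻¹ * b)).map (MulAut.conj a).toMonoidHom
    have e : MulAut.conj a • X ⊔ MulAut.conj b • X =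
        (X ⊔ MulAut.conj (a⁻¹ * b) • X).map (MulAut.conj a).toMonoidHom := by
      show _ = MulAut.conj a • (X ⊔ MulAut.conj (a⁻¹ * b) • X)
      rw [Subgroup.smul_sup, ← mul_smul, ← map_mul, mul_inv_cancel_left]
    rw [e]
    exact h1
  let K' : Sylow p G → Set (Subgroup G) := fun P => {Y | Y ∈ K ∧ Y ≤ P}
  -- conjugation maps K' onto K'
  have hK'c : ∀ (g : G) (P : Sylow p G) (Y : Subgroup G), Y ∈ K' P →
      MulAut.conj g • Y ∈ K' (g • P) := by
    intro g P Y hY
    refine ⟨hKc Y hY.1 g, ?_⟩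
    rw [Sylow.coe_subgroup_smul]
    exact Subgroup.pointwise_smul_le_pointwise_smul_iff.2 hY.2
  have hcard : ∀ P Q : Sylow p G, (K' P).ncard ≤ (K' Q).ncard := by
    intro P Q
    obtain ⟨g, hg⟩ := MulAction.exists_smul_eq G P Q
    calc (K' P).ncard = ((MulAut.conj g • ·) '' K' P).ncard :=
          (Set.ncard_image_of_injective _ (MulAction.injective _)).symm
      _ ≤ (K' Q).ncard := Set.ncard_le_ncard
          (by rintro _ ⟨Y, hY, rfl⟩; exact hg ▸ hK'c g P Y hY) (Set.toFinite _)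
  -- either all Sylow subgroups contain all conjugates, or we get a contradiction
  by_cases hall : ∀ P Q : Sylow p G, K' P = K' Q
  · refine ⟨sSup K, ⟨fun n hn g => ?_⟩, ?_, le_sSup hXK⟩
    · have hle : MulAut.conj g • sSup K ≤ sSup K := by
        rw [Subgroup.pointwise_smul_subset_iff]
        refine sSup_le fun Y hY => ?_
        rw [← Subgroup.pointwise_smul_subset_iff]
        exact le_sSup (hKc Y hY g)
      exact hle ⟨n, hn, rfl⟩
    · obtain ⟨P, hP⟩ := hX.exists_le_sylow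
      refine P.isPGroup'.to_le (sSup_le ?_)
      rintro _ ⟨a, rfl⟩
      have h2 : MulAut.conj a • X ∈ K' (a • P) := hK'c a P X ⟨hXK, hP⟩
      exact (hall (a • P) P ▸ h2).2
  · exfalso
    push Not at hall
    obtain ⟨P₀, Q₀, hne₀⟩ := hall
    haveI : Nonempty {x : Sylow p G × Sylow p G // K' x.1 ≠ K' x.2} := ⟨⟨(P₀, Q₀), hne₀⟩⟩
    obtain ⟨⟨⟨P, Q⟩, hne⟩, -, hmax'⟩ := Set.Finite.exists_maximalFor
      (fun x : {x : Sylow p G × Sylow p G // K' x.1 ≠ K' x.2} =>
        (K' x.1.1 ∩ K' x.1.2).ncard) Set.univ Set.finite_univ Set.univ_nonempty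
    have hmax : ∀ y : {x : Sylow p G × Sylow p G // K' x.1 ≠ K' x.2},
        (K' y.1.1 ∩ K' y.1.2).ncard ≤ (K' P ∩ K' Q).ncard := fun y =>
      (le_total _ _).elim id fun hle => hmax' (Set.mem_univ y) hle
    set D := K' P ∩ K' Q with hD
    set E := sSup D with hE
    -- a member outside D normalising E
    have step : ∀ R : Sylow p G, D ⊆ K' R → ¬ K' R ⊆ D →
        (∀ Y ∈ K, Y ≤ E → Y ∈ D) →
        ∃ A ∈ K' R, A ∉ D ∧ A ≤ Subgroup.normalizer (E : Set G) := by
      intro R hDR hRD hED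
      by_contra! hcon
      set N := (R : Subgroup G) ⊓ Subgroup.normalizer (E : Set G) with hN
      have hER : E ≤ (R : Subgroup G) := sSup_le fun Y hY => (hDR hY).2
      have hDN : ∀ Y ∈ D, Y ≤ N := fun Y hY =>
        le_inf (hDR hY).2 ((le_sSup hY).trans Subgroup.le_normalizer)
      have hND : ∀ Y ∈ K, Y ≤ N → Y ∈ D := by
        intro Y hY hYN
        by_contra hYD
        exact hcon Y ⟨hY, hYN.trans inf_le_left⟩ hYD (hYN.trans inf_le_right)
      haveI := R.isPGroup'.isNilpotent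
      have hNR : N = R := by
        by_contra hne'
        have hlt : N.subgroupOf (R : Subgroup G) < ⊤ := by
          rw [lt_top_iff_ne_top, Ne, Subgroup.subgroupOf_eq_top]
          exact fun e => hne' (le_antisymm inf_le_left e)
        obtain ⟨r, hr, hrn⟩ :=
          SetLike.exists_of_lt (Group.normalizerCondition_of_isNilpotent _ hlt)
        have hconj : ∀ x ∈ N, (r : G) * x * (r : G)⁻¹ ∈ N := fun x hx =>
          (Subgroup.mem_normalizer_iff.1 hr ⟨x, (Subgroup.mem_inf.1 hx).1⟩).1 hx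
        apply hrn
        refine Subgroup.mem_inf.2 ⟨r.2, ?_⟩
        have hle : MulAut.conj (r : G) • E ≤ E := by
          rw [Subgroup.pointwise_smul_subset_iff]
          refine sSup_le fun Y hY => ?_
          rw [← Subgroup.pointwise_smul_subset_iff]
          refine le_sSup (hND _ (hKc Y (hDR hY).1 _) ?_)
          rintro _ ⟨y, hy, rfl⟩
          exact hconj y (hDN Y hY hy)
        exact Subgroup.mem_normalizer_fintype fun x hx => hle ⟨x, hx, rfl⟩
      exact hRD fun Y hY => hND Y hY.1 (hNR ▸ hY.2)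
    have hED : ∀ Y ∈ K, Y ≤ E → Y ∈ D := fun Y hY hYE =>
      ⟨⟨hY, hYE.trans (sSup_le fun _ h => h.1.2)⟩, ⟨hY, hYE.trans (sSup_le fun _ h => h.2.2)⟩⟩
    have hsub : ∀ R S : Sylow p G, K' R ≠ K' S → ¬ K' R ⊆ K' R ∩ K' S := by
      intro R S hne' hsub
      exact hne' (Set.eq_of_subset_of_ncard_le (fun Y hY => (hsub hY).2) (hcard S R)
        (Set.toFinite _))
    obtain ⟨A, hA, hAD, hAN⟩ := step P Set.inter_subset_left (hsub P Q hne) hED
    obtain ⟨B, hB, hBD, hBN⟩ := step Q Set.inter_subset_right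
      (fun hs => hsub Q P hne.symm fun Y hY => ⟨hY, (hs hY).1⟩) hED
    have hEp : IsPGroup p E := P.isPGroup'.to_le (sSup_le fun _ h => h.1.2)
    have hp : IsPGroup p ↥(E ⊔ (A ⊔ B)) :=
      hEp.to_sup_of_normal_left' (hpair A hA.1 B hB.1) (sup_le hAN hBN)
    obtain ⟨R, hR⟩ := hp.exists_le_sylow
    have hDR : D ⊆ K' R := fun Y hY =>
      ⟨hY.1.1, (le_sSup hY).trans (le_sup_left.trans hR)⟩
    have hAR : A ∈ K' R := ⟨hA.1, le_sup_left.trans (le_sup_right.trans hR)⟩
    have hBR : B ∈ K' R := ⟨hB.1, le_sup_right.trans (le_sup_right.trans hR)⟩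
    have key : ∀ (S : Sylow p G) (C : Subgroup G), D ⊆ K' S → C ∈ K' S → C ∈ K' R → C ∉ D →
        K' S = K' R := by
      intro S C hDS hCS hCR hCD
      by_contra hne'
      have h1 := hmax ⟨(S, R), hne'⟩
      have h2 : insert C D ⊆ K' S ∩ K' R :=
        Set.insert_subset ⟨hCS, hCR⟩ fun Y hY => ⟨hDS hY, hDR hY⟩
      have h3 := Set.ncard_le_ncard h2 (Set.toFinite _)
      rw [Set.ncard_insert_of_notMem hCD (Set.toFinite _)] at h3
      simp only at h1
      omega
    exact hne ((key P A Set.inter_subset_left hA hAR hAD).trans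
      (key Q B Set.inter_subset_right hB hBR hBD).symm)

end Cfsg.Agent.Inv
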