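import Mathlib.GroupTheory.Transfer
import Mathlib.GroupTheory.Sylow

/-!
# Cyclic Sylow 2-subgroups
-/

namespace Cfsg.Agent.Inv

/-- A nontrivial finite 2-group has a subgroup of index 2. -/
theorem exists_index_two_of_pgroup {P : Type*} [Group P] [Finite P] (hP : IsPGroup 2 P)
    (h : Nat.card P ≠ 1) : ∃ H : Subgroup P, H.index = 2 := by
  obtain ⟨n, hn⟩ := hP.exists_card_eq
  obtain _ | m := n
  · exact absurd (by simpa using hn) h
  haveI : Fact (Nat.Prime 2) := ⟨Nat.prime_two⟩
  obtain ⟨H, hH⟩ := Sylow.exists_subgroup_card_pow_prime (G := P) 2 (n := m)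
    ⟨2, by rw [hn]; ring⟩
  refine ⟨H, ?_⟩
  have := H.card_mul_index
  rw [hH, hn, pow_succ] at this
  exact Nat.eq_of_mul_eq_mul_left (by positivity) this

theorem minFac_card_eq_two {G : Type*} [Group G] [Finite G] (h : Even (Nat.card G)) :
    (Nat.card G).minFac = 2 :=
  (Nat.minFac_eq_two_iff _).2 (even_iff_two_dvd.1 h)

/-- A group of even order with cyclic Sylow 2-subgroup has a subgroup of index 2. -/
theorem exists_index_two_of_cyclic_sylow {G : Type*} [Group G] [Finite G]
    (heven : Even (Nat.card G)) (T : Sylow 2 G) (hT : IsCyclic (T : Subgroup G)) :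
    ∃ H : Subgroup G, H.index = 2 := by
  have hm := minFac_card_eq_two heven
  haveI : Fact (Nat.Prime 2) := ⟨Nat.prime_two⟩
  set f := MonoidHom.transferSylow T (hT.normalizer_le_centralizer hm)
  have hc : f.ker.IsComplement' T := hT.isComplement' hm
  have hf : Function.Surjective f := by
    have hinj : Function.Injective (fun t : (T : Subgroup G) => f t) := by
      intro a b hab
      have h1 : ((a⁻¹ * b : (T : Subgroup G)) : G) ∈ f.ker := by
        rw [MonoidHom.mem_ker, Subgroup.coe_mul, Subgroup.coe_inv, map_mul, map_inv,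
          show f (a : G) = f (b : G) from hab, inv_mul_cancel]
      have : ((a⁻¹ * b : (T : Subgroup G)) : G) ∈ f.ker ⊓ (T : Subgroup G) :=
        ⟨h1, (a⁻¹ * b).2⟩
      rw [hc.disjoint.eq_bot, Subgroup.mem_bot] at this
      exact inv_mul_eq_one.1 (Subtype.ext this)
    intro t
    obtain ⟨a, ha⟩ := Finite.surjective_of_injective hinj t
    exact ⟨a, ha⟩
  have hne : Nat.card (T : Subgroup G) ≠ 1 := by
    intro h1
    have h2 := T.dvd_card_of_dvd_card (even_iff_two_dvd.1 heven)
    rw [h1] at h2
    omega
  obtain ⟨H, hH⟩ := exists_index_two_of_pgroup T.isPGroup' hne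
  exact ⟨H.comap f, by rw [Subgroup.index_comap_of_surjective _ hf, hH]⟩

/-- A 2-group with an element of order 2 whose centralizer is cyclic is itself cyclic. -/
theorem isCyclic_of_centralizer_cyclic {P : Type*} [Group P] [Finite P] (hP : IsPGroup 2 P)
    (x : P) (hx : orderOf x = 2) (hc : IsCyclic (Subgroup.centralizer ({x} : Set P))) :
    IsCyclic P := by
  haveI : Fact (Nat.Prime 2) := ⟨Nat.prime_two⟩
  have hxc : x ∈ Subgroup.center P := by
    haveI : Nontrivial P := ⟨x, 1, fun h => by simp [h] at hx⟩
    haveI := hP.center_nontrivial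
    obtain ⟨z, hz⟩ := exists_prime_orderOf_dvd_card' (G := Subgroup.center P) 2 (by
      rcases (hP.to_subgroup (Subgroup.center P)).exists_card_eq with ⟨_ | k, hk⟩
      · have := Finite.one_lt_card (α := Subgroup.center P)
        simp [hk] at this
      · exact ⟨2 ^ k, by rw [hk]; ring⟩)
    have hz2 : orderOf (z : P) = 2 := by rw [Subgroup.orderOf_coe, hz]
    have hzc : (z : P) ∈ Subgroup.centralizer ({x} : Set P) :=
      Subgroup.mem_centralizer_singleton_iff.2 ((Subgroup.mem_center_iff.1 z.2 x).symm)
    have hxx : x ∈ Subgroup.centralizer ({x} : Set P) :=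
      Subgroup.mem_centralizer_singleton_iff.2 rfl
    haveI : Fintype (Subgroup.centralizer ({x} : Set P)) := Fintype.ofFinite _
    classical
    have := IsCyclic.card_orderOf_eq_totient (α := Subgroup.centralizer ({x} : Set P)) (d := 2)
      (by
        rw [← hx, ← Nat.card_eq_fintype_card]
        exact Subgroup.orderOf_dvd_natCard _ hxx)
    rw [Nat.totient_two] at this
    have h := Finset.card_le_one.1 this.le ⟨x, hxx⟩ (by simpa [Subgroup.orderOf_mk] using hx)
      ⟨z, hzc⟩ (by simpa [Subgroup.orderOf_mk] using hz2)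
    have h' : x = (z : P) := congrArg Subtype.val h
    rw [h']; exact z.2
  have htop : Subgroup.centralizer ({x} : Set P) = ⊤ := by
    rw [eq_top_iff]
    intro g _
    exact Subgroup.mem_centralizer_singleton_iff.2 (Subgroup.mem_center_iff.1 hxc g)
  rw [htop] at hc
  exact (Subgroup.topEquiv.isCyclic).1 hc

end Cfsg.Agent.Inv
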