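import Mathlib
import Cfsg.Agent.Lib.Fusion.QuasiDihedralLocal
import Cfsg.Agent.Lib.Solv.NormalPComplement

/-!
Groups with a Klein four Sylow 2-subgroup: the involution classes.
-/

set_option autoImplicit false

namespace Cfsg.Agent.KleinSylow

open Cfsg

variable {G : Type*} [Group G] [Finite G] {P : Sylow 2 G}

theorem isMulCommutative (hP : IsKleinFour (P : Subgroup G)) : IsMulCommutative (P : Subgroup G) :=
  ⟨⟨fun a b => mul_comm_of_exponent_two hP.exponent_two a b⟩⟩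

theorem orderOf_iff (hP : IsKleinFour (P : Subgroup G)) {x : G} (hx : x ∈ (P : Subgroup G)) : orderOf x = 2 ↔ x ≠ 1 := by
  have : Fact (Nat.Prime 2) := ⟨Nat.prime_two⟩
  refine ⟨fun h h' => by rw [h', orderOf_one] at h; norm_num at h, fun h => orderOf_eq_prime_iff.2 ⟨?_, h⟩⟩
  simpa [hP.exponent_two] using congrArg Subtype.val (Monoid.pow_exponent_eq_one (⟨x, hx⟩ : (P : Subgroup G)))

/-- The class map is onto from the nontrivial elements of the Sylow subgroup. -/
theorem card_classes (hP : IsKleinFour (P : Subgroup G)) :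
    Nat.card {C : ConjClasses G // ∃ t : G, orderOf t = 2 ∧ ConjClasses.mk t = C} =
      (ConjClasses.mk '' {x : G | x ∈ (P : Subgroup G) ∧ x ≠ 1}).ncard := by
  rw [← Set.coe_setOf, Nat.card_coe_set_eq]
  congr 1
  ext C
  constructor
  · rintro ⟨t, ht, rfl⟩
    have hp : IsPGroup 2 (Subgroup.zpowers t) := IsPGroup.of_card (n := 1) (by rw [Nat.card_zpowers, ht, pow_one])
    obtain ⟨g, hg⟩ := Fusion.exists_conj_le_sylow P hp
    have hmem : MulAut.conj g t ∈ (P : Subgroup G) := hg ⟨t, Subgroup.mem_zpowers t, rfl⟩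
    refine ⟨_, ⟨hmem, fun h => ?_⟩, (ConjClasses.mk_eq_mk_iff_isConj.2 (isConj_iff.2 ⟨g, rfl⟩)).symm⟩
    rw [(MulAut.conj g).injective (h.trans (map_one (MulAut.conj g)).symm), orderOf_one] at ht
    norm_num at ht
  · rintro ⟨x, ⟨hx, hx1⟩, rfl⟩
    exact ⟨x, (orderOf_iff hP hx).2 hx1, rfl⟩

theorem ncard_nontrivial (hP : IsKleinFour (P : Subgroup G)) : {x : G | x ∈ (P : Subgroup G) ∧ x ≠ 1}.ncard = 3 := by
  have h : {x : G | x ∈ (P : Subgroup G) ∧ x ≠ 1} = ((P : Subgroup G) : Set G) \ {1} := rfl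
  rw [h, Set.ncard_sdiff (Set.singleton_subset_iff.2 (one_mem _)), ← Nat.card_coe_set_eq, SetLike.coe_sort_coe,
    hP.card_four, Set.ncard_singleton]

/-- An element of the normalizer fixing a nontrivial element centralizes the Sylow subgroup. -/
theorem centralize_of_fix (hP : IsKleinFour (P : Subgroup G)) (n : Subgroup.normalizer ((P : Subgroup G) : Set G))
    {x : G} (hx : x ∈ (P : Subgroup G)) (hx1 : x ≠ 1) (hfix : (n : G) * x * (n : G)⁻¹ = x) :
    (P : Subgroup G).normalizerMonoidHom n = 1 := by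
  set f := (P : Subgroup G).normalizerMonoidHom
  have hab := isMulCommutative hP
  have hodd : ¬ 2 ∣ Nat.card f.range := fun h => P.not_dvd_index (h.trans (by
    rw [Fusion.Wreathed.card_range_normalizerMonoidHom]
    exact (Subgroup.relIndex_dvd_index_of_le (Fusion.centralizer_le_normalizer' _)).trans
      (Subgroup.index_dvd_of_le P.le_centralizer)))
  have hinj : Function.Injective (MulAut.toPerm (P : Subgroup G)) := fun a b h => MulEquiv.ext fun y => Equiv.Perm.ext_iff.1 h y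
  have h1 : orderOf (MulAut.toPerm _ (f n)) ∣ 24 := by
    refine (orderOf_dvd_natCard _).trans ?_
    rw [Nat.card_perm, hP.card_four]; rfl
  rw [orderOf_injective _ hinj] at h1
  have h2 : ¬ 2 ∣ orderOf (f n) := fun h => hodd (h.trans (by
    exact (Subgroup.orderOf_coe (⟨f n, n, rfl⟩ : f.range)).dvd.trans (orderOf_dvd_natCard _)))
  have h3 : f n ^ 3 = 1 := orderOf_dvd_iff_pow_eq_one.1 (((Nat.Coprime.pow_right 3 (Nat.prime_two.coprime_iff_not_dvd.2 h2).symm) :
    Nat.Coprime (orderOf (f n)) (2 ^ 3)).dvd_of_dvd_mul_left h1)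
  refine hinj (Eq.trans ?_ (map_one _).symm)
  exact Fusion.Wreathed.perm_four hP.card_four _ (by rw [← map_pow, h3, map_one]) (a := (1 : (P : Subgroup G))) (b := ⟨x, hx⟩)
    (fun h => hx1 (congrArg Subtype.val h).symm) (map_one (f n)) (Subtype.ext hfix)

/-- Fusion is transitive on the involutions or trivial. -/
theorem dichotomy (hP : IsKleinFour (P : Subgroup G)) :
    (∀ a ∈ (P : Subgroup G), ∀ b ∈ (P : Subgroup G), a ≠ 1 → b ≠ 1 → IsConj a b) ∨
      (∀ a ∈ (P : Subgroup G), ∀ b ∈ (P : Subgroup G), IsConj a b → a = b) ∧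
        Subgroup.normalizer ((P : Subgroup G) : Set G) ≤ Subgroup.centralizer ((P : Subgroup G) : Set G) := by
  have hab := isMulCommutative hP
  set f := (P : Subgroup G).normalizerMonoidHom
  by_cases hall : ∀ n, f n = 1
  · right
    have hC : Subgroup.normalizer ((P : Subgroup G) : Set G) ≤ Subgroup.centralizer ((P : Subgroup G) : Set G) := fun n hn x hx => by
      have := congrArg Subtype.val (MulEquiv.ext_iff.1 (hall ⟨n, hn⟩) ⟨x, hx⟩)
      change n * x * n⁻¹ = x at this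
      exact (mul_inv_eq_iff_eq_mul.1 this).symm
    refine ⟨fun a ha b hb h => ?_, hC⟩
    obtain ⟨g, rfl⟩ := isConj_iff.1 h
    obtain ⟨n, hn, he⟩ := P.conj_eq_normalizer_conj_of_mem a g⁻¹ ha (by rw [inv_inv]; exact hb)
    rw [inv_inv] at he
    rw [he]
    have := hC (inv_mem hn) a ha
    rw [← this, inv_mul_cancel_right]
  · left
    push_neg at hall
    obtain ⟨n, hn⟩ := hall
    have hmove : ∀ x ∈ (P : Subgroup G), x ≠ 1 → (n : G) * x * (n : G)⁻¹ ≠ x := fun x hx hx1 h => hn (centralize_of_fix hP n hx hx1 h)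
    intro a ha b hb ha1 hb1
    set c := (n : G) * a * (n : G)⁻¹
    have hcP : c ∈ (P : Subgroup G) := (Subgroup.mem_normalizer_iff.1 n.2 a).1 ha
    set d := (n : G) * c * (n : G)⁻¹
    have hdP : d ∈ (P : Subgroup G) := (Subgroup.mem_normalizer_iff.1 n.2 c).1 hcP
    have hc1 : c ≠ 1 := fun h => ha1 (conj_eq_one_iff.1 h)
    have hd1 : d ≠ 1 := fun h => hc1 (conj_eq_one_iff.1 h)
    have hca : c ≠ a := hmove a ha ha1
    have hdc : d ≠ c := hmove c hcP hc1
    have hac : IsConj a c := isConj_iff.2 ⟨n, rfl⟩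
    have hcd : IsConj c d := isConj_iff.2 ⟨n, rfl⟩
    have hda : d ≠ a := by
      intro h
      refine hmove (a * c) (mul_mem ha hcP) (fun h' => hca ?_) ?_
      · rw [eq_inv_of_mul_eq_one_right h']
        exact inv_eq_self_of_orderOf_eq_two ((orderOf_iff hP ha).2 ha1)
      · have e1 : (n : G) * (a * c) * (n : G)⁻¹ = c * d := by simp [c, d, mul_assoc]
        rw [e1, h]
        exact congrArg Subtype.val (hab.is_comm.comm (⟨c, hcP⟩ : (P : Subgroup G)) ⟨a, ha⟩)
    have h3 : ({a, c, d} : Set G) = {x : G | x ∈ (P : Subgroup G) ∧ x ≠ 1} := by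
      refine Set.eq_of_subset_of_ncard_le ?_ ?_ (Set.toFinite _)
      · rintro _ (rfl | rfl | rfl)
        exacts [⟨ha, ha1⟩, ⟨hcP, hc1⟩, ⟨hdP, hd1⟩]
      · rw [ncard_nontrivial hP, Set.ncard_eq_three.2 ⟨_, _, _, hca.symm, hda.symm, hdc.symm, rfl⟩]
    rcases (h3.symm ▸ (⟨hb, hb1⟩ : b ∈ {x : G | x ∈ (P : Subgroup G) ∧ x ≠ 1}) : b ∈ ({a, c, d} : Set G)) with rfl | rfl | rfl
    exacts [IsConj.refl _, hac, hac.trans hcd]

theorem card_eq_one (hP : IsKleinFour (P : Subgroup G))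
    (h : ∀ a ∈ (P : Subgroup G), ∀ b ∈ (P : Subgroup G), a ≠ 1 → b ≠ 1 → IsConj a b) :
    Nat.card {C : ConjClasses G // ∃ t : G, orderOf t = 2 ∧ ConjClasses.mk t = C} = 1 := by
  rw [card_classes hP, Set.ncard_eq_one]
  have hne : {x : G | x ∈ (P : Subgroup G) ∧ x ≠ 1}.Nonempty := Set.nonempty_of_ncard_ne_zero (by rw [ncard_nontrivial hP]; norm_num)
  obtain ⟨a, ha, ha1⟩ := hne
  refine ⟨ConjClasses.mk a, Set.eq_singleton_iff_unique_mem.2 ⟨⟨a, ⟨ha, ha1⟩, rfl⟩, ?_⟩⟩
  rintro _ ⟨b, ⟨hb, hb1⟩, rfl⟩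
  exact ConjClasses.mk_eq_mk_iff_isConj.2 (h b hb a ha hb1 ha1)

theorem card_eq_three (hP : IsKleinFour (P : Subgroup G))
    (h : ∀ a ∈ (P : Subgroup G), ∀ b ∈ (P : Subgroup G), IsConj a b → a = b) :
    Nat.card {C : ConjClasses G // ∃ t : G, orderOf t = 2 ∧ ConjClasses.mk t = C} = 3 := by
  rw [card_classes hP, Set.InjOn.ncard_image (fun a ha b hb e => h a ha.1 b hb.1 (ConjClasses.mk_eq_mk_iff_isConj.1 e)),
    ncard_nontrivial hP]

end Cfsg.Agent.KleinSylow
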