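import Cfsg.Agent.Lib.Inv.QuatEightLocal

/-!
# No simple group has a quaternion Sylow 2-subgroup of order 8

An ordinary-character argument with exceptional characters supported on the centraliser of the
involution.
-/

set_option autoImplicit false

open Cfsg Cfsg.Agent.Char Finset
open scoped ComplexConjugate

namespace Cfsg.Agent.Inv

open Cfsg.Agent.Block

universe u

variable {G : Type u} [Group G]

namespace Q8Local

variable {D : CycData G}

theorem classInner_beta (L : Q8Local G D) [Fintype G] [DecidableEq (IrrCharacter G)]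
    (e : IrrCharacter G → ℤ) (hX : 4 * (Finset.univ.filter fun g : G => 4 ∣ orderOf g).card = Nat.card G)
    {ψ φ : IrrCharacter G} (h1 : ψ ≠ trivChar G) (h2 : φ ≠ trivChar G)
    (hψ : (e ψ = 1 ∨ e ψ = -1) ∧ (∀ g : G, (ψ : G → ℂ) (D.x ^ 2 * g) = (ψ : G → ℂ) g) ∧
      ∀ g : G, 4 ∣ orderOf g → (ψ : G → ℂ) g = (e ψ : ℂ))
    (hφ : (e φ = 1 ∨ e φ = -1) ∧ (∀ g : G, (φ : G → ℂ) (D.x ^ 2 * g) = (φ : G → ℂ) g) ∧
      ∀ g : G, 4 ∣ orderOf g → (φ : G → ℂ) g = (e φ : ℂ)) :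
    classInner (beta fun g => (e ψ : ℂ) * (ψ : G → ℂ) g) (beta fun g => (e φ : ℂ) * (φ : G → ℂ) g) =
        (if ψ = φ then 3 else 1) ∧
      classInner (beta fun g => (e ψ : ℂ) * (ψ : G → ℂ) g)
        (fun g => if 4 ∣ orderOf g then 4 else 0) = -2 ∧
      classInner (beta fun g => (e ψ : ℂ) * (ψ : G → ℂ) g) (fun _ => 1) = 0 := by
  classical
  set X : ℂ := ((Finset.univ.filter fun g : G => 4 ∣ orderOf g).card : ℂ) with hXdef
  have hN : (Nat.card G : ℂ) = 4 * X := by rw [hXdef, ← hX]; push_cast; rfl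
  have hN0 : (Nat.card G : ℂ) ≠ 0 := Nat.cast_ne_zero.2 Nat.card_pos.ne'
  set P : IrrCharacter G → G → ℂ := fun χ g => (e χ : ℂ) * (χ : G → ℂ) g with hP
  have hPz : ∀ χ : IrrCharacter G, (∀ g : G, (χ : G → ℂ) (D.x ^ 2 * g) = (χ : G → ℂ) g) →
      ∀ g, P χ (D.x ^ 2 * g) = P χ g := fun χ h g => by simp only [hP, h]
  have hP4 : ∀ χ : IrrCharacter G, (e χ = 1 ∨ e χ = -1) →
      (∀ g : G, 4 ∣ orderOf g → (χ : G → ℂ) g = (e χ : ℂ)) → ∀ g, 4 ∣ orderOf g → P χ g = 1 := by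
    intro χ he h g hg
    simp only [hP, h g hg]
    rcases he with e1 | e1 <;> simp [e1]
  -- the three sums over elements of odd order
  have ha : 2 * ((Finset.univ.filter fun g : G => Odd (orderOf g)).card : ℂ) = Nat.card G - X := by
    have h := L.sum_split (fun _ : G => (1 : ℂ))
    simp only [Finset.sum_const, Finset.card_univ, nsmul_eq_mul, mul_one,
      ← Nat.card_eq_fintype_card] at h
    linear_combination -h
  have hb : ∀ χ : IrrCharacter G, χ ≠ trivChar G → (e χ = 1 ∨ e χ = -1) →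
      (∀ g : G, (χ : G → ℂ) (D.x ^ 2 * g) = (χ : G → ℂ) g) →
      (∀ g : G, 4 ∣ orderOf g → (χ : G → ℂ) g = (e χ : ℂ)) →
      2 * ∑ g with Odd (orderOf g), P χ g = -X := by
    intro χ hne he hz h4
    have h0 := IsIrrCharacter.classInner_eq_zero χ.2 (trivChar G).2 fun h => hne (Subtype.ext h)
    simp only [classInner, trivChar_apply, map_one, mul_one, mul_eq_zero, inv_eq_zero] at h0
    have h := L.sum_split (P χ)
    rw [Finset.sum_congr rfl fun g _ => hPz χ hz g,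
      Finset.sum_congr (s₁ := Finset.univ.filter fun g : G => 4 ∣ orderOf g) rfl fun g hg =>
        hP4 χ he h4 g (Finset.mem_filter.1 hg).2] at h
    simp only [Finset.sum_const, nsmul_eq_mul, mul_one, ← hXdef] at h
    have ht : ∑ g, P χ g = 0 := by
      simp only [hP, ← Finset.mul_sum, h0.resolve_left hN0, mul_zero]
    rw [ht] at h
    linear_combination -h
  have hc : 2 * ∑ g with Odd (orderOf g), P ψ g * conj (P φ g) =
      (if ψ = φ then (Nat.card G : ℂ) else 0) - X := by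
    have h := L.sum_split (fun g => P ψ g * conj (P φ g))
    simp only [hPz ψ hψ.2.1, hPz φ hφ.2.1] at h
    rw [Finset.sum_congr (s₁ := Finset.univ.filter fun g : G => 4 ∣ orderOf g) rfl fun g hg => by
        rw [hP4 ψ hψ.1 hψ.2.2 g (Finset.mem_filter.1 hg).2,
          hP4 φ hφ.1 hφ.2.2 g (Finset.mem_filter.1 hg).2, map_one, mul_one]] at h
    simp only [Finset.sum_const, nsmul_eq_mul, mul_one, ← hXdef] at h
    have ht : ∑ g, P ψ g * conj (P φ g) = if ψ = φ then (Nat.card G : ℂ) else 0 := by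
      have h3 := classInner_irr ψ φ
      rw [classInner, inv_mul_eq_iff_eq_mul₀ hN0] at h3
      simp only [hP, map_mul, map_intCast]
      rw [Finset.sum_congr rfl fun g _ =>
        show (e ψ : ℂ) * (ψ : G → ℂ) g * ((e φ : ℂ) * conj ((φ : G → ℂ) g)) =
          (e ψ : ℂ) * e φ * ((ψ : G → ℂ) g * conj ((φ : G → ℂ) g)) by ring,
        ← Finset.mul_sum, h3]
      split_ifs with heq
      · subst heq
        rcases hψ.1 with e1 | e1 <;> simp [e1]
      · simp
    rw [ht] at h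
    linear_combination -h
  have hsum : ∀ f : G → ℂ, classInner (beta (P ψ)) f = (Nat.card G : ℂ)⁻¹ *
      ((∑ g with Odd (orderOf g), 2 * (1 + P ψ g) * conj (f (D.x ^ 2 * g))) +
        ∑ g with 4 ∣ orderOf g, (-2) * conj (f g)) := by
    intro f
    rw [classInner, L.sum_split, Finset.sum_eq_zero fun g hg => by
      rw [beta_odd _ (Finset.mem_filter.1 hg).2, zero_mul], zero_add,
      Finset.sum_congr rfl fun g hg => by
        rw [L.beta_z_mul _ (hPz ψ hψ.2.1) (Finset.mem_filter.1 hg).2],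
      Finset.sum_congr (s₁ := Finset.univ.filter fun g : G => 4 ∣ orderOf g) rfl fun g hg => by
        rw [beta_four _ (Finset.mem_filter.1 hg).2]]
  refine ⟨?_, ?_, ?_⟩
  · rw [hsum, Finset.sum_congr rfl fun g hg => by
        rw [L.beta_z_mul _ (hPz φ hφ.2.1) (Finset.mem_filter.1 hg).2],
      Finset.sum_congr (s₁ := Finset.univ.filter fun g : G => 4 ∣ orderOf g) rfl fun g hg => by
        rw [beta_four _ (Finset.mem_filter.1 hg).2]]
    simp only [map_mul, map_add, map_one, map_neg, map_ofNat, Finset.sum_const, nsmul_eq_mul,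
      ← hXdef]
    rw [Finset.sum_congr rfl fun g _ =>
      show 2 * (1 + P ψ g) * (2 * (1 + conj (P φ g))) =
        4 + 4 * P ψ g + 4 * conj (P φ g) + 4 * (P ψ g * conj (P φ g)) by ring,
      Finset.sum_add_distrib, Finset.sum_add_distrib, Finset.sum_add_distrib, Finset.sum_const,
      ← Finset.mul_sum _ _ (4 : ℂ), ← Finset.mul_sum _ _ (4 : ℂ), ← Finset.mul_sum _ _ (4 : ℂ),
      nsmul_eq_mul, ← map_sum]
    have hb' : 2 * conj (∑ g with Odd (orderOf g), P φ g) = -X := by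
      have h := congrArg conj (hb φ h2 hφ.1 hφ.2.1 hφ.2.2)
      simpa [hXdef, map_ofNat] using h
    rw [inv_mul_eq_iff_eq_mul₀ hN0]
    split_ifs at hc ⊢ <;>
      linear_combination 2 * ha + 2 * hb ψ h1 hψ.1 hψ.2.1 hψ.2.2 + 2 * hb' + 2 * hc + hN
  · rw [hsum, Finset.sum_eq_zero fun g hg => ?_, zero_add,
      Finset.sum_congr rfl fun g hg => by
        rw [if_pos (Finset.mem_filter.1 hg).2, map_ofNat]]
    · rw [Finset.sum_const, nsmul_eq_mul, ← hXdef, inv_mul_eq_iff_eq_mul₀ hN0, hN]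
      ring
    · rw [if_neg ?_, map_zero, mul_zero]
      rw [L.orderOf_z_mul_of_odd (Finset.mem_filter.1 hg).2]
      rintro ⟨q, hq⟩
      obtain ⟨r, hr⟩ := (Finset.mem_filter.1 hg).2
      omega
  · rw [hsum]
    simp only [map_one, mul_one, Finset.sum_const, nsmul_eq_mul, ← hXdef]
    rw [← Finset.mul_sum _ _ (2 : ℂ), Finset.sum_add_distrib, Finset.sum_const, nsmul_eq_mul,
      mul_one, mul_eq_zero, inv_eq_zero]
    right
    linear_combination ha + hb ψ h1 hψ.1 hψ.2.1 hψ.2.2 + hN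

end Q8Local

/-! ## Class functions supported on the elements of even order of the centraliser -/

section Induction

variable [Fintype G] {z : G}

theorem zero_of_odd_indFun {φ : Subgroup.centralizer ({z} : Set G) → ℂ}
    (hφ : ∀ h : Subgroup.centralizer ({z} : Set G), Odd (orderOf (h : G)) → φ h = 0)
    {g : G} (hg : Odd (orderOf g)) : indFun (Subgroup.centralizer ({z} : Set G)) φ g = 0 := by
  rw [indFun_apply, Finset.sum_eq_zero, mul_zero]
  intro t _
  by_cases hm : t⁻¹ * g * t ∈ Subgroup.centralizer ({z} : Set G)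
  · rw [extendByZero_of_mem _ _ hm]
    refine hφ _ ?_
    show Odd (orderOf (t⁻¹ * g * t))
    rwa [show t⁻¹ * g * t = t⁻¹ * g * (t⁻¹)⁻¹ by rw [inv_inv], orderOf_conj]
  · exact extendByZero_of_notMem _ _ hm

theorem indFun_even_coe (h : TwoRankOne G) (hz : orderOf z = 2)
    {φ : Subgroup.centralizer ({z} : Set G) → ℂ}
    (hcls : IsClassFunction (Subgroup.centralizer ({z} : Set G)) φ)
    (hφ : ∀ h : Subgroup.centralizer ({z} : Set G), Odd (orderOf (h : G)) → φ h = 0)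
    (c : Subgroup.centralizer ({z} : Set G)) :
    indFun (Subgroup.centralizer ({z} : Set G)) φ (c : G) = φ c := by
  classical
  rcases Nat.even_or_odd (orderOf (c : G)) with he | ho
  swap
  · rw [zero_of_odd_indFun hφ ho, hφ c ho]
  have hpow : ∀ g : G, g ∈ Subgroup.centralizer ({z} : Set G) → Even (orderOf g) →
      g ^ (orderOf g / 2) = z := fun g hg hge => h _ z (orderOf_pow_half g hge) hz
    ((show Commute g z from Subgroup.mem_centralizer_singleton_iff.1 hg).pow_left _)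
  have hterm : ∀ t : G, extendByZero (Subgroup.centralizer ({z} : Set G)) φ (t⁻¹ * (c : G) * t) =
      if t ∈ Subgroup.centralizer ({z} : Set G) then φ c else 0 := by
    intro t
    split_ifs with ht
    · rw [show t⁻¹ * (c : G) * t = (((⟨t, ht⟩ : Subgroup.centralizer ({z} : Set G))⁻¹ * c *
        ((⟨t, ht⟩ : Subgroup.centralizer ({z} : Set G))⁻¹)⁻¹ : Subgroup.centralizer ({z} : Set G)) : G)
        by simp, extendByZero_coe, hcls]
    · refine extendByZero_of_notMem _ _ fun hm => ht ?_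
      have e1 : t⁻¹ * (c : G) * t = t⁻¹ * (c : G) * (t⁻¹)⁻¹ := by rw [inv_inv]
      have h2 := hpow _ hm (by rwa [e1, orderOf_conj])
      rw [e1, orderOf_conj, conj_pow, hpow _ c.2 he, inv_inv] at h2
      rw [Subgroup.mem_centralizer_singleton_iff]
      calc t * z = t * (t⁻¹ * z * t) := by rw [h2]
        _ = z * t := by group
  rw [indFun_apply, Finset.sum_congr rfl fun t _ => hterm t, ← Finset.sum_filter, Finset.sum_const,
    nsmul_eq_mul, ← Fintype.card_subtype, ← Nat.card_eq_fintype_card,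
    inv_mul_cancel_left₀ (Nat.cast_ne_zero.2 Nat.card_pos.ne')]

theorem classInner_indFun_even (h : TwoRankOne G) (hz : orderOf z = 2)
    [Fintype (Subgroup.centralizer ({z} : Set G))]
    {φ φ' : Subgroup.centralizer ({z} : Set G) → ℂ}
    (hcls' : IsClassFunction (Subgroup.centralizer ({z} : Set G)) φ')
    (hφ' : ∀ h : Subgroup.centralizer ({z} : Set G), Odd (orderOf (h : G)) → φ' h = 0) :
    classInner (indFun (Subgroup.centralizer ({z} : Set G)) φ)
      (indFun (Subgroup.centralizer ({z} : Set G)) φ') = classInner φ φ' := by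
  rw [classInner_indFun _ _ (isClassFunction_indFun _ _)]
  congr 1
  exact funext fun c => indFun_even_coe h hz hcls' hφ' c

end Induction

/-! ## The numerical contradiction -/

theorem false_of_q8_moments {W₁ W₂ W₃ c₁ c₂ c₃ v₁ v₂ v₃ b₁ b₂ b₃ : ℝ}
    (hW : 1 + W₁ + W₂ + W₃ = 0) (hc : 1 + c₁ + c₂ + c₃ = 0)
    (hQ : 1 + c₁ ^ 2 / W₁ + c₂ ^ 2 / W₂ + c₃ ^ 2 / W₃ = 0)
    (hv₁ : v₁ = -1 - W₁) (hv₂ : v₂ = -1 - W₂) (hv₃ : v₃ = -1 - W₃)
    (hb : b₁ + b₂ + b₃ = 2)
    (hq₁ : b₁ ^ 2 / v₁ = -1 - c₁ ^ 2 / W₁) (hq₂ : b₂ ^ 2 / v₂ = -1 - c₂ ^ 2 / W₂)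
    (hq₃ : b₃ ^ 2 / v₃ = -1 - c₃ ^ 2 / W₃)
    (hW₁ : 1 ≤ |W₁|) (hW₂ : 1 ≤ |W₂|) (hW₃ : 1 ≤ |W₃|)
    (hc₁ : |c₁| < |W₁|) (hc₂ : |c₂| < |W₂|) (hc₃ : |c₃| < |W₃|)
    (hb₁ : |b₁| < |v₁|) (hb₂ : |b₂| < |v₂|) (hb₃ : |b₃| < |v₃|) : False := by
  have noPPN : ∀ A B C a b c : ℝ, 1 + A + B + C = 0 → 1 + a + b + c = 0 →
      1 + a ^ 2 / A + b ^ 2 / B + c ^ 2 / C = 0 → 0 < A → 0 < B → C < 0 → |a| < A → False := by
    intro A B C a b c hS hs hq hA hB hC ha
    rw [show C = -(1 + A + B) by linarith, show c = -(1 + a + b) by linarith] at hq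
    have hpos : 0 < 1 + A + B := by linarith
    field_simp at hq
    have key : (A - a) ^ 2 * B + (B - b) ^ 2 * A + (B * a - A * b) ^ 2 = 0 := by linarith
    have h1 : 0 < (A - a) ^ 2 * B := mul_pos (pow_pos (by linarith [abs_lt.1 ha]) 2) hB
    nlinarith [mul_nonneg (sq_nonneg (B - b)) hA.le, sq_nonneg (B * a - A * b)]
  have noNNP : ∀ p q r s t w : ℝ, p + q + r = -2 → s + t + w = 0 →
      s ^ 2 / p + t ^ 2 / q + w ^ 2 / r = 0 → 0 < p → 0 < q → r < 0 → w < 0 → False := by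
    intro p q r s t w hS hs hq hp hq' hr hw
    rw [show r = -(p + q + 2) by linarith, show w = -(s + t) by linarith] at hq
    have : 0 < p + q + 2 := by linarith
    field_simp at hq
    nlinarith [sq_nonneg (s * q - t * p), mul_pos hp hq', mul_pos (mul_pos hp hq') (pow_pos (show 0 < s + t by linarith) 2),
      mul_pos hp (pow_pos (show 0 < s + t by linarith) 2), mul_pos hq' (pow_pos (show 0 < s + t by linarith) 2),
      sq_nonneg s, sq_nonneg t, mul_nonneg hp.le (sq_nonneg t), mul_nonneg hq'.le (sq_nonneg s)]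
  -- sign patterns
  have hsum : v₁ + v₂ + v₃ = -2 := by linarith
  have hu : (v₁ + b₁) + (v₂ + b₂) + (v₃ + b₃) = 0 := by linarith
  have hv0 : v₁ ≠ 0 ∧ v₂ ≠ 0 ∧ v₃ ≠ 0 := by
    refine ⟨?_, ?_, ?_⟩ <;> intro h
    · rw [h, abs_zero] at hb₁; exact absurd hb₁ (not_lt.2 (abs_nonneg _))
    · rw [h, abs_zero] at hb₂; exact absurd hb₂ (not_lt.2 (abs_nonneg _))
    · rw [h, abs_zero] at hb₃; exact absurd hb₃ (not_lt.2 (abs_nonneg _))
  have hu2 : (v₁ + b₁) ^ 2 / v₁ + (v₂ + b₂) ^ 2 / v₂ + (v₃ + b₃) ^ 2 / v₃ = 0 := by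
    have e : ∀ v b : ℝ, v ≠ 0 → (v + b) ^ 2 / v = v + 2 * b + b ^ 2 / v := by
      intro v b h; field_simp; ring
    rw [e _ _ hv0.1, e _ _ hv0.2.1, e _ _ hv0.2.2, hq₁, hq₂, hq₃]
    linarith
  have pos : ∀ W v b : ℝ, v = -1 - W → W ≤ -1 → v ≠ 0 → 0 < v := fun W v b hv hW h =>
    lt_of_le_of_ne (by linarith) (Ne.symm h)
  have sgn : ∀ W : ℝ, 1 ≤ |W| → 1 ≤ W ∨ W ≤ -1 := fun W h => by
    rcases le_abs.1 h with h | h
    · exact Or.inl h
    · exact Or.inr (by linarith)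
  rcases sgn _ hW₁ with p1 | n1 <;> rcases sgn _ hW₂ with p2 | n2 <;> rcases sgn _ hW₃ with p3 | n3
  · linarith
  · exact noPPN W₁ W₂ W₃ c₁ c₂ c₃ hW hc hQ (by linarith) (by linarith) (by linarith)
      (lt_of_lt_of_eq hc₁ (abs_of_pos (by linarith)))
  · exact noPPN W₁ W₃ W₂ c₁ c₃ c₂ (by linarith) (by linarith) (by linarith) (by linarith)
      (by linarith) (by linarith) (lt_of_lt_of_eq hc₁ (abs_of_pos (by linarith)))
  · exact noNNP v₂ v₃ v₁ (v₂ + b₂) (v₃ + b₃) (v₁ + b₁) (by linarith) (by linarith) (by linarith)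
      (pos _ _ b₂ hv₂ n2 hv0.2.1) (pos _ _ b₃ hv₃ n3 hv0.2.2) (by linarith)
      (by rw [abs_of_neg (show v₁ < 0 by linarith)] at hb₁; linarith [abs_lt.1 hb₁])
  · exact noPPN W₂ W₃ W₁ c₂ c₃ c₁ (by linarith) (by linarith) (by linarith) (by linarith)
      (by linarith) (by linarith) (lt_of_lt_of_eq hc₂ (abs_of_pos (by linarith)))
  · exact noNNP v₁ v₃ v₂ (v₁ + b₁) (v₃ + b₃) (v₂ + b₂) (by linarith) (by linarith) (by linarith)
      (pos _ _ b₁ hv₁ n1 hv0.1) (pos _ _ b₃ hv₃ n3 hv0.2.2) (by linarith)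
      (by rw [abs_of_neg (show v₂ < 0 by linarith)] at hb₂; linarith [abs_lt.1 hb₂])
  · exact noNNP v₁ v₂ v₃ (v₁ + b₁) (v₂ + b₂) (v₃ + b₃) (by linarith) (by linarith) (by linarith)
      (pos _ _ b₁ hv₁ n1 hv0.1) (pos _ _ b₂ hv₂ n2 hv0.2.1) (by linarith)
      (by rw [abs_of_neg (show v₃ < 0 by linarith)] at hb₃; linarith [abs_lt.1 hb₃])
  · linarith

/-- Integral vectors of norm three with inner product `-2` against three signs. -/
theorem exists_excluded {ι : Type*} [Fintype ι] [DecidableEq ι] {d e : ι → ℤ} {S : Finset ι} {t : ι}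
    (hS : S.card = 3) (he : ∀ χ ∈ S, e χ = 1 ∨ e χ = -1) (hdt : d t = 0)
    (hd : ∑ χ, d χ ^ 2 = 3) (hde : ∑ χ ∈ S, d χ * e χ = -2) :
    ∃ k ∈ S, ∃ δ, δ ∉ S ∧ δ ≠ t ∧ (d δ = 1 ∨ d δ = -1) ∧ d k = 0 ∧
      (∀ χ ∈ S, χ ≠ k → d χ = -e χ) ∧ ∀ χ, χ ∉ S → χ ≠ δ → d χ = 0 := by
  obtain ⟨a, b, c, hab, hac, hbc, rfl⟩ := Finset.card_eq_three.1 hS
  rw [Finset.sum_insert (by simp [hab, hac]), Finset.sum_pair hbc] at hde
  rw [← Finset.sum_add_sum_compl ({a, b, c} : Finset ι), Finset.sum_insert (by simp [hab, hac]),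
    Finset.sum_pair hbc] at hd
  have ha := he a (by simp)
  have hb := he b (by simp)
  have hc := he c (by simp)
  have hnn : 0 ≤ ∑ χ ∈ ({a, b, c} : Finset ι)ᶜ, d χ ^ 2 :=
    Finset.sum_nonneg fun χ _ => sq_nonneg _
  have hbd : ∀ x : ℤ, x ^ 2 ≤ 3 → x = -1 ∨ x = 0 ∨ x = 1 := fun x hx => by
    have : -2 < x ∧ x < 2 := ⟨by nlinarith, by nlinarith⟩
    omega
  have h3a := hbd (d a) (by nlinarith [sq_nonneg (d b), sq_nonneg (d c)])
  have h3b := hbd (d b) (by nlinarith [sq_nonneg (d a), sq_nonneg (d c)])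
  have h3c := hbd (d c) (by nlinarith [sq_nonneg (d a), sq_nonneg (d b)])
  have hcases : (d a = 0 ∧ d b = -e b ∧ d c = -e c) ∨ (d b = 0 ∧ d a = -e a ∧ d c = -e c) ∨
      (d c = 0 ∧ d a = -e a ∧ d b = -e b) := by
    rcases ha with ha | ha <;> rcases hb with hb | hb <;> rcases hc with hc | hc <;>
      rcases h3a with h | h | h <;> rcases h3b with h' | h' | h' <;>
      rcases h3c with h'' | h'' | h'' <;> simp [ha, hb, hc, h, h', h''] at hde ⊢
  have hrest : ∑ χ ∈ ({a, b, c} : Finset ι)ᶜ, d χ ^ 2 = 1 := by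
    rcases hcases with ⟨h0, h1, h2⟩ | ⟨h0, h1, h2⟩ | ⟨h0, h1, h2⟩ <;>
    · rw [h0, h1, h2] at hd
      rcases ha with ha | ha <;> rcases hb with hb | hb <;> rcases hc with hc | hc <;>
        simp only [ha, hb, hc] at hd <;> linarith
  have hsum : ∑ χ, (if χ ∈ ({a, b, c} : Finset ι) then 0 else d χ) ^ 2 = 1 := by
    rw [← hrest, ← Finset.sum_add_sum_compl ({a, b, c} : Finset ι),
      Finset.sum_eq_zero fun χ hχ => by rw [if_pos hχ]; rfl, zero_add]
    exact Finset.sum_congr rfl fun χ hχ => by rw [if_neg (Finset.mem_compl.1 hχ)]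
  obtain ⟨δ, hδ, hδ0⟩ := int_sum_sq_one hsum
  have hδS : δ ∉ ({a, b, c} : Finset ι) := fun h => by rw [if_pos h] at hδ; omega
  rw [if_neg hδS] at hδ
  have hδt : δ ≠ t := fun h => by rw [h, hdt] at hδ; omega
  have hout : ∀ χ, χ ∉ ({a, b, c} : Finset ι) → χ ≠ δ → d χ = 0 := fun χ h1 h2 => by
    have h3 := hδ0 χ h2
    rwa [if_neg h1] at h3
  rcases hcases with ⟨h0, h1, h2⟩ | ⟨h0, h1, h2⟩ | ⟨h0, h1, h2⟩
  · exact ⟨a, by simp, δ, hδS, hδt, hδ, h0, fun χ hχ hne => by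
      simp only [Finset.mem_insert, Finset.mem_singleton] at hχ
      rcases hχ with rfl | rfl | rfl
      · exact absurd rfl hne
      · exact h1
      · exact h2, hout⟩
  · exact ⟨b, by simp, δ, hδS, hδt, hδ, h0, fun χ hχ hne => by
      simp only [Finset.mem_insert, Finset.mem_singleton] at hχ
      rcases hχ with rfl | rfl | rfl
      · exact h1
      · exact absurd rfl hne
      · exact h2, hout⟩
  · exact ⟨c, by simp, δ, hδS, hδt, hδ, h0, fun χ hχ hne => by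
      simp only [Finset.mem_insert, Finset.mem_singleton] at hχ
      rcases hχ with rfl | rfl | rfl
      · exact h1
      · exact h2
      · exact absurd rfl hne, hout⟩

/-- No simple group of 2-rank one has maximal cyclic 2-subgroups of order 4 all fused. -/
theorem false_of_four [Finite G] [IsSimpleGroup G] (h : TwoRankOne G) (D : CycData G)
    (ha : orderOf D.a = 4) (hfus : ∀ u : G, orderOf u = 4 → IsConj D.x u)
    (h16 : ¬ 16 ∣ Nat.card G) (hcen : D.x ^ 2 ∉ Subgroup.center G) : False := by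
  classical
  haveI := Fintype.ofFinite G
  haveI := Fintype.ofFinite (IrrCharacter G)
  haveI : Nonempty (IrrCharacter G) := ⟨trivChar G⟩
  set z := D.x ^ 2 with hz
  have hz2 : orderOf z = 2 := orderOf_sq_of_four D.orderOf_x
  haveI := Fintype.ofFinite (Subgroup.centralizer ({z} : Set G))
  haveI := Fintype.ofFinite (IrrCharacter (Subgroup.centralizer ({z} : Set G)))
  have hxa : D.x = D.a := Q8Local.x_eq ha
  have haH : D.a ∈ Subgroup.centralizer ({z} : Set G) := by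
    rw [Subgroup.mem_centralizer_singleton_iff, hz, hxa]; exact ((Commute.refl D.a).pow_right 2).eq
  have hyH : D.y ∈ Subgroup.centralizer ({z} : Set G) := by
    rw [Subgroup.mem_centralizer_singleton_iff]
    have : D.y * z * D.y⁻¹ = z := by
      rw [hz, ← conj_pow, D.y_inv, inv_pow, inv_eq_self_of_orderOf_two hz2]
    exact mul_inv_eq_iff_eq_mul.1 this
  let DH : CycData (Subgroup.centralizer ({z} : Set G)) :=
    { a := ⟨D.a, haH⟩
      y := ⟨D.y, hyH⟩
      hpow := by rw [← Subgroup.orderOf_coe]; exact D.hpow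
      h4 := by rw [← Subgroup.orderOf_coe]; exact D.h4
      hy := Subtype.ext D.hy
      hmax := fun b hb => by
        rw [← Subgroup.orderOf_coe, ← Subgroup.orderOf_coe]
        refine D.hmax _ ?_
        rw [Subgroup.orderOf_coe]; exact hb }
  have haH4 : orderOf DH.a = 4 := by rw [← Subgroup.orderOf_coe]; exact ha
  have hxH : (DH.x : G) = D.x := by rw [Q8Local.x_eq haH4, hxa]
  have hzH : ((DH.x ^ 2 : Subgroup.centralizer ({z} : Set G)) : G) = z := by
    rw [SubgroupClass.coe_pow, hxH]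
  have L : Q8Local (Subgroup.centralizer ({z} : Set G)) DH :=
    { rankOne := h.subgroup _
      ord := haH4
      central := Subgroup.mem_center_iff.2 fun c => Subtype.ext (by
        rw [Subgroup.coe_mul, Subgroup.coe_mul, hzH]
        exact Subgroup.mem_centralizer_singleton_iff.1 c.2)
      fused := fun u hu => by
        have hu' : orderOf (u : G) = 4 := by rw [Subgroup.orderOf_coe]; exact hu
        obtain ⟨c, hc⟩ := isConj_iff.1 (hfus _ hu')
        have hu2 : (u : G) ^ 2 = z := h _ z (orderOf_sq_of_four hu') hz2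
          ((show Commute (u : G) z from Subgroup.mem_centralizer_singleton_iff.1 u.2).pow_left 2)
        have hcH : c ∈ Subgroup.centralizer ({z} : Set G) := by
          rw [← hc, conj_pow, ← hz] at hu2
          exact Subgroup.mem_centralizer_singleton_iff.2 (mul_inv_eq_iff_eq_mul.1 hu2)
        exact isConj_iff.2 ⟨⟨c, hcH⟩, Subtype.ext (by
          rw [Subgroup.coe_mul, Subgroup.coe_mul, Subgroup.coe_inv, hxH]; exact hc)⟩
      sixteen := fun h' => h16 (h'.trans (Subgroup.card_subgroup_dvd_card _)) }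
  obtain ⟨M, hM⟩ := exists_isPModular Nat.prime_two
  haveI := prime_of_isPModular hM
  obtain ⟨S, e, hcard, htS, hX, hXgen, hdeg, hS⟩ := L.exists_characters hM
  -- the local functions
  set Θ : Subgroup.centralizer ({z} : Set G) → ℂ := fun g => if 4 ∣ orderOf g then 4 else 0 with hΘ
  set β : IrrCharacter (Subgroup.centralizer ({z} : Set G)) →
      Subgroup.centralizer ({z} : Set G) → ℂ :=
    fun ψ => Q8Local.beta fun g => (e ψ : ℂ) * (ψ : Subgroup.centralizer ({z} : Set G) → ℂ) g with hβ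
  have hβgen : ∀ ψ ∈ S, IsGeneralizedCharacter (Subgroup.centralizer ({z} : Set G)) (β ψ) :=
    fun ψ hψ => L.isGeneralized_beta hM ψ (e ψ) (hS ψ hψ).1 (hS ψ hψ).2.1 (hS ψ hψ).2.2 hXgen
  have hodd4 : ∀ g : Subgroup.centralizer ({z} : Set G), Odd (orderOf (g : G)) → Θ g = 0 :=
    fun g hg => by
      rw [hΘ]; dsimp only; rw [if_neg]
      rw [← Subgroup.orderOf_coe]
      exact fun h4 => Nat.not_even_iff_odd.2 hg
        (even_iff_two_dvd.2 ((show 2 ∣ 4 by norm_num).trans h4))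
  have hoddβ : ∀ ψ, ∀ g : Subgroup.centralizer ({z} : Set G), Odd (orderOf (g : G)) → β ψ g = 0 :=
    fun ψ g hg => by
      rw [hβ]; dsimp only; rw [Q8Local.beta_odd]; rwa [← Subgroup.orderOf_coe]
  have hΘcls := IsGeneralizedCharacter.isClassFunction hXgen
  -- the induced functions
  set T := indFun (Subgroup.centralizer ({z} : Set G)) Θ with hT
  have hTgen : IsGeneralizedCharacter G T := isGeneralizedCharacter_indFun _ hXgen
  have hT1 : classInner T (trivChar G : G → ℂ) = 1 := by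
    rw [hT, classInner_indFun _ _ (IsCharacter.isClassFunction
      (IsIrrCharacter.isCharacter (trivChar G).2)), classInner]
    simp only [trivChar_apply, map_one, mul_one, hΘ, ← Finset.sum_filter, Finset.sum_const,
      nsmul_eq_mul, ← hX]
    push_cast
    rw [mul_comm ((Finset.card _ : ℕ) : ℂ) 4, inv_mul_cancel₀]
    refine mul_ne_zero (by norm_num) (Nat.cast_ne_zero.2 fun h0 => ?_)
    rw [h0, mul_zero] at hX
    exact Nat.card_pos.ne' hX.symm
  have hTT : classInner T T = ((3 + 1 : ℕ) : ℂ) := by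
    rw [hT, classInner_indFun_even h hz2 hΘcls hodd4, classInner]
    simp only [hΘ, apply_ite conj, map_ofNat, map_zero, ite_mul, zero_mul, mul_ite, mul_zero]
    simp only [← ite_and, and_self, ← Finset.sum_filter, Finset.sum_const, nsmul_eq_mul, ← hX]
    push_cast
    have hX0 : ((Finset.univ.filter fun g : Subgroup.centralizer ({z} : Set G) =>
        4 ∣ orderOf g).card : ℂ) ≠ 0 := Nat.cast_ne_zero.2 fun h0 => by
      rw [h0, mul_zero] at hX; exact Nat.card_pos.ne' hX.symm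
    field_simp
  obtain ⟨J, f, htJ, hJcard, hfpm, hfT, hfsum⟩ := exists_signed_support hTgen le_rfl hT1 hTT
  have hsup : ∀ χ, χ ∉ J → χ ≠ trivChar G → f χ = 0 := by
    intro χ hχ hne
    have h0 := hfsum fun φ => if φ = χ then (1 : ℂ) else 0
    simp only [mul_ite, mul_one, mul_zero, Finset.sum_ite_eq', Finset.mem_univ, if_true,
      if_neg hne.symm, zero_add, if_neg hχ, hfT] at h0
    exact_mod_cast h0
  have hmain : ∀ ψ ∈ S, ∃ d : IrrCharacter G → ℤ,
      d (trivChar G) = 0 ∧ (∀ χ : IrrCharacter G, classInner (indFun _ (β ψ)) (χ : G → ℂ) = d χ) ∧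
      ∑ χ, d χ ^ 2 = 3 ∧ ∑ χ ∈ J, d χ * f χ = -2 := by
    intro ψ hψ
    obtain ⟨h33, h2, h0⟩ := L.classInner_beta e hX (fun h' => htS (h' ▸ hψ)) (fun h' => htS (h' ▸ hψ))
      (hS ψ hψ) (hS ψ hψ)
    have hgen := isGeneralizedCharacter_indFun _ (hβgen ψ hψ)
    obtain ⟨d, -, hd⟩ := IsGeneralizedCharacter.exists_intCoeff hgen
    have hd1 : d (trivChar G) = 0 := by
      have h1 := hd (trivChar G)
      rw [classInner_indFun _ _ (IsCharacter.isClassFunction
        (IsIrrCharacter.isCharacter (trivChar G).2))] at h1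
      exact_mod_cast h1.symm.trans h0
    refine ⟨d, hd1, hd, ?_, ?_⟩
    · have h1 := IsGeneralizedCharacter.classInner_self_eq_sum_sq hgen d hd
      rw [classInner_indFun_even h hz2 (IsGeneralizedCharacter.isClassFunction (hβgen ψ hψ))
        (hoddβ ψ), hβ, h33, if_pos rfl] at h1
      exact_mod_cast h1.symm
    · have h1 : classInner (indFun _ (β ψ)) T = -2 := by
        rw [hT, classInner_indFun_even h hz2 hΘcls hodd4]; exact h2
      rw [classInner_eq_sum_mul (IsGeneralizedCharacter.isClassFunction hgen)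
        (IsGeneralizedCharacter.isClassFunction hTgen)] at h1
      simp only [hd, hfT, map_intCast] at h1
      have h4 : ∑ χ ∈ J, d χ * f χ = ∑ χ, d χ * f χ := by
        refine Finset.sum_subset (Finset.subset_univ _) fun χ _ hχ => ?_
        by_cases ht : χ = trivChar G
        · rw [ht, hd1, zero_mul]
        · rw [hsup χ hχ ht, mul_zero]
      rw [h4]
      exact_mod_cast h1
  choose! d hd0 hd hd3 hd2 using hmain
  have hk := fun ψ (hψ : ψ ∈ S) =>
    exists_excluded hJcard hfpm (hd0 ψ hψ) (hd3 ψ hψ) (hd2 ψ hψ)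
  choose! k hkJ δ hδJ hδt hη hdk hdJ hdout using hk
  -- evaluation of a linear functional on the induced character
  have hexp : ∀ ψ ∈ S, ∀ F : IrrCharacter G → ℂ,
      ∑ χ : IrrCharacter G, classInner (indFun _ (β ψ)) (χ : G → ℂ) * F χ =
        -(∑ χ ∈ J, (f χ : ℂ) * F χ) + (f (k ψ) : ℂ) * F (k ψ) + (d ψ (δ ψ) : ℂ) * F (δ ψ) := by
    intro ψ hψ F
    rw [← Finset.sum_add_sum_compl J, Finset.sum_eq_single (s := Jᶜ) (δ ψ)]
    · rw [hd ψ hψ]
      congr 1
      have e1 : ∀ χ ∈ J, classInner (indFun _ (β ψ)) (χ : G → ℂ) * F χ =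
          -((f χ : ℂ) * F χ) + if χ = k ψ then (f χ : ℂ) * F χ else 0 := by
        intro χ hχ
        rw [hd ψ hψ χ]
        split_ifs with he
        · rw [he, hdk ψ hψ]; simp
        · rw [hdJ ψ hψ χ hχ he]; push_cast; ring
      rw [Finset.sum_congr rfl e1, Finset.sum_add_distrib, Finset.sum_neg_distrib,
        Finset.sum_ite_eq' J (k ψ), if_pos (hkJ ψ hψ)]
    · intro χ hχ hne
      rw [hd ψ hψ χ, hdout ψ hψ χ (Finset.mem_compl.1 hχ) hne]; simp
    · exact fun h' => absurd (Finset.mem_compl.2 (hδJ ψ hψ)) h'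
  have hTeval : ∀ g : G, T g = 1 + ∑ χ ∈ J, (f χ : ℂ) * (χ : G → ℂ) g := by
    intro g
    have h0 := hfsum fun χ => (χ : G → ℂ) g
    rw [trivChar_apply] at h0
    rw [← h0]
    conv_lhs => rw [IsClassFunction.eq_sum (IsGeneralizedCharacter.isClassFunction hTgen)]
    simp [Finset.sum_apply]
  have hIeval : ∀ ψ ∈ S, ∀ g : G, indFun _ (β ψ) g = -(∑ χ ∈ J, (f χ : ℂ) * (χ : G → ℂ) g) +
      (f (k ψ) : ℂ) * ((k ψ : IrrCharacter G) : G → ℂ) g +
      (d ψ (δ ψ) : ℂ) * ((δ ψ : IrrCharacter G) : G → ℂ) g := by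
    intro ψ hψ g
    rw [← hexp ψ hψ fun χ => (χ : G → ℂ) g]
    conv_lhs => rw [IsClassFunction.eq_sum
      (IsGeneralizedCharacter.isClassFunction (isGeneralizedCharacter_indFun _ (hβgen ψ hψ)))]
    simp [Finset.sum_apply]
  have h1odd : Odd (orderOf (1 : G)) := by rw [orderOf_one]; exact odd_one
  have hzmem : z ∈ Subgroup.centralizer ({z} : Set G) := Subgroup.mem_centralizer_singleton_iff.2 rfl
  -- moments of `T`
  have hW : ∑ χ ∈ J, (f χ : ℂ) * (χ : G → ℂ) 1 = -1 := by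
    have h0 := hTeval 1
    rw [hT, zero_of_odd_indFun hodd4 h1odd] at h0
    linear_combination -h0
  have hC : ∑ χ ∈ J, (f χ : ℂ) * (χ : G → ℂ) z = -1 := by
    have h0 := hTeval z
    have e0 : T z = Θ ⟨z, hzmem⟩ := indFun_even_coe h hz2 hΘcls hodd4 ⟨z, hzmem⟩
    rw [e0, hΘ] at h0
    dsimp only at h0
    rw [if_neg (by rw [← Subgroup.orderOf_coe]; show ¬ 4 ∣ orderOf z; rw [hz2]; norm_num)] at h0
    linear_combination -h0
  have hQ : ∑ χ ∈ J, (f χ : ℂ) * ((χ : G → ℂ) z ^ 2 / (χ : G → ℂ) 1) = -1 := by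
    have h0 := key_identity h hz2 hTgen fun g hg => zero_of_odd_indFun hodd4 hg
    rw [hfsum, trivChar_apply, trivChar_apply, one_pow, div_one] at h0
    linear_combination h0
  -- moments of the induced functions
  have hv : ∀ ψ ∈ S, (d ψ (δ ψ) : ℂ) * ((δ ψ : IrrCharacter G) : G → ℂ) 1 =
      -1 - (f (k ψ) : ℂ) * ((k ψ : IrrCharacter G) : G → ℂ) 1 := by
    intro ψ hψ
    have h0 := hIeval ψ hψ 1
    rw [zero_of_odd_indFun (hoddβ ψ) h1odd, hW] at h0
    linear_combination -h0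
  have hb : ∀ ψ ∈ S, (d ψ (δ ψ) : ℂ) * ((δ ψ : IrrCharacter G) : G → ℂ) z =
      1 + 2 * (e ψ : ℂ) * (ψ : Subgroup.centralizer ({z} : Set G) → ℂ) 1 - (f (k ψ) : ℂ) * ((k ψ : IrrCharacter G) : G → ℂ) z := by
    intro ψ hψ
    have h0 := hIeval ψ hψ z
    rw [hC] at h0
    have h5 : indFun (Subgroup.centralizer ({z} : Set G)) (β ψ) z =
        2 * (1 + (e ψ : ℂ) * (ψ : Subgroup.centralizer ({z} : Set G) → ℂ) 1) := by
      refine (indFun_even_coe h hz2 (IsGeneralizedCharacter.isClassFunction (hβgen ψ hψ)) (hoddβ ψ)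
        ⟨z, hzmem⟩).trans ?_
      rw [hβ]
      dsimp only
      rw [show (⟨z, hzmem⟩ : Subgroup.centralizer ({z} : Set G)) = DH.x ^ 2 * 1 from
        Subtype.ext (by rw [mul_one, hzH]), L.beta_z_mul _ (fun g => by simp only [(hS ψ hψ).2.1])
          (by rw [orderOf_one]; exact odd_one)]
    rw [h5] at h0
    linear_combination -h0
  have hq : ∀ ψ ∈ S,
      (d ψ (δ ψ) : ℂ) * (((δ ψ : IrrCharacter G) : G → ℂ) z ^ 2 / ((δ ψ : IrrCharacter G) : G → ℂ) 1) =
      -1 - (f (k ψ) : ℂ) * (((k ψ : IrrCharacter G) : G → ℂ) z ^ 2 / ((k ψ : IrrCharacter G) : G → ℂ) 1) := by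
    intro ψ hψ
    have h0 := key_identity h hz2 (isGeneralizedCharacter_indFun _ (hβgen ψ hψ))
      fun g hg => zero_of_odd_indFun (hoddβ ψ) hg
    rw [hexp ψ hψ, hQ] at h0
    linear_combination h0
  -- `k` is a bijection
  have hinj : Set.InjOn k S := by
    intro ψ hψ φ hφ hkk
    by_contra hne
    rw [Finset.mem_coe] at hψ hφ
    obtain ⟨h1, -, -⟩ := L.classInner_beta e hX (fun h' => htS (h' ▸ hψ)) (fun h' => htS (h' ▸ hφ))
      (hS ψ hψ) (hS φ hφ)
    rw [if_neg hne] at h1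
    have h2 : classInner (indFun _ (β ψ)) (indFun _ (β φ)) = 1 := by
      rw [classInner_indFun_even h hz2 (IsGeneralizedCharacter.isClassFunction (hβgen φ hφ)) (hoddβ φ)]
      exact h1
    rw [classInner_eq_sum_mul
      (IsGeneralizedCharacter.isClassFunction (isGeneralizedCharacter_indFun _ (hβgen ψ hψ)))
      (IsGeneralizedCharacter.isClassFunction (isGeneralizedCharacter_indFun _ (hβgen φ hφ))),
      hexp ψ hψ] at h2
    simp only [hd φ hφ, map_intCast] at h2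
    have h3 : ∑ χ ∈ J, (f χ : ℂ) * (d φ χ : ℂ) = -2 := by
      have h4 : ((∑ χ ∈ J, d φ χ * f χ : ℤ) : ℂ) = -2 := by rw [hd2 φ hφ]; norm_num
      rw [← h4]; push_cast; exact Finset.sum_congr rfl fun χ _ => mul_comm _ _
    rw [h3, hkk, hdk φ hφ] at h2
    have h5 : δ ψ = δ φ := by
      by_contra hne'
      rw [hdout φ hφ _ (hδJ ψ hψ) hne'] at h2
      push_cast at h2
      norm_num at h2
    rw [h5] at h2
    have h6 : (d ψ (δ φ) : ℂ) * d φ (δ φ) = -1 := by push_cast at h2; linear_combination h2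
    have h7 := hv ψ hψ
    rw [h5, hkk, ← hv φ hφ] at h7
    have h8 := mul_right_cancel₀ (IsIrrCharacter.apply_one_ne_zero (δ φ).2) h7
    rw [h8] at h6
    rcases hη φ hφ with h9 | h9 <;> rw [h9] at h6 <;> norm_num at h6
  have himg : S.image k = J := Finset.eq_of_subset_of_card_le
    (fun χ hχ => by obtain ⟨ψ, hψ, rfl⟩ := Finset.mem_image.1 hχ; exact hkJ ψ hψ)
    (by rw [Finset.card_image_of_injOn hinj, hJcard, hcard])
  have hre : ∀ F : IrrCharacter G → ℂ, ∑ χ ∈ J, F χ = ∑ ψ ∈ S, F (k ψ) := fun F => by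
    rw [← himg, Finset.sum_image hinj]
  rw [hre] at hW hC hQ
  obtain ⟨ψ₁, ψ₂, ψ₃, h12, h13, h23, rfl⟩ := Finset.card_eq_three.1 hcard
  rw [Finset.sum_insert (by simp [h12, h13]), Finset.sum_pair h23] at hW hC hQ hdeg
  have m1 : ψ₁ ∈ ({ψ₁, ψ₂, ψ₃} : Finset (IrrCharacter (Subgroup.centralizer ({z} : Set G)))) := by simp
  have m2 : ψ₂ ∈ ({ψ₁, ψ₂, ψ₃} : Finset (IrrCharacter (Subgroup.centralizer ({z} : Set G)))) := by simp
  have m3 : ψ₃ ∈ ({ψ₁, ψ₂, ψ₃} : Finset (IrrCharacter (Subgroup.centralizer ({z} : Set G)))) := by simp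
  have hbsum := congrArg₂ (· + ·) (congrArg₂ (· + ·) (hb ψ₁ m1) (hb ψ₂ m2)) (hb ψ₃ m3)
  have hbs : (d ψ₁ (δ ψ₁) : ℂ) * ((δ ψ₁ : IrrCharacter G) : G → ℂ) z +
      (d ψ₂ (δ ψ₂) : ℂ) * ((δ ψ₂ : IrrCharacter G) : G → ℂ) z +
      (d ψ₃ (δ ψ₃) : ℂ) * ((δ ψ₃ : IrrCharacter G) : G → ℂ) z = 2 := by
    linear_combination hbsum + 2 * hdeg - hC
  -- pass to real numbers
  have hb' : ∀ χ : IrrCharacter G, ((((χ : G → ℂ) z).re : ℝ) : ℂ) = (χ : G → ℂ) z := fun χ =>
    Complex.conj_eq_iff_re.1 (conj_apply_involution χ hz2)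
  set W : IrrCharacter G → ℤ → ℝ := fun χ s => (s : ℝ) * ((χ : G → ℂ) 1).re with hWdef
  set B : IrrCharacter G → ℤ → ℝ := fun χ s => (s : ℝ) * ((χ : G → ℂ) z).re with hBdef
  have cW : ∀ χ s, ((W χ s : ℝ) : ℂ) = (s : ℂ) * (χ : G → ℂ) 1 := fun χ s => by
    rw [hWdef]; push_cast; rw [(apply_one_re χ).1]
  have cB : ∀ χ s, ((B χ s : ℝ) : ℂ) = (s : ℂ) * (χ : G → ℂ) z := fun χ s => by
    rw [hBdef]; push_cast; rw [hb']
  have cQ : ∀ χ (s : ℤ), (s = 1 ∨ s = -1) →
      ((B χ s ^ 2 / W χ s : ℝ) : ℂ) = (s : ℂ) * ((χ : G → ℂ) z ^ 2 / (χ : G → ℂ) 1) := by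
    intro χ s hs
    rw [Complex.ofReal_div, Complex.ofReal_pow, cW, cB]
    rcases hs with rfl | rfl <;> simp [div_neg]
  have hlt : ∀ χ (s : ℤ), χ ≠ trivChar G → (s = 1 ∨ s = -1) →
      |B χ s| < |W χ s| ∧ 1 ≤ |W χ s| := by
    intro χ s hne hs
    have h3 := norm_apply_lt hne hcen
    rw [← abs_re_eq_norm (conj_apply_involution χ hz2)] at h3
    have h4 : |(s : ℝ)| = 1 := by rcases hs with rfl | rfl <;> norm_num
    simp only [hWdef, hBdef, abs_mul, h4, one_mul, abs_of_nonneg (zero_le_one.trans (apply_one_re χ).2)]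
    exact ⟨h3, (apply_one_re χ).2⟩
  have hJt : ∀ ψ ∈ ({ψ₁, ψ₂, ψ₃} : Finset (IrrCharacter (Subgroup.centralizer ({z} : Set G)))),
      (k ψ ≠ trivChar G) ∧ (f (k ψ) = 1 ∨ f (k ψ) = -1) := fun ψ hψ =>
    ⟨fun h' => htJ (h' ▸ hkJ ψ hψ), hfpm _ (hkJ ψ hψ)⟩
  refine false_of_q8_moments (W₁ := W (k ψ₁) (f (k ψ₁))) (W₂ := W (k ψ₂) (f (k ψ₂)))
    (W₃ := W (k ψ₃) (f (k ψ₃))) (c₁ := B (k ψ₁) (f (k ψ₁))) (c₂ := B (k ψ₂) (f (k ψ₂)))
    (c₃ := B (k ψ₃) (f (k ψ₃))) (v₁ := W (δ ψ₁) (d ψ₁ (δ ψ₁))) (v₂ := W (δ ψ₂) (d ψ₂ (δ ψ₂)))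
    (v₃ := W (δ ψ₃) (d ψ₃ (δ ψ₃))) (b₁ := B (δ ψ₁) (d ψ₁ (δ ψ₁))) (b₂ := B (δ ψ₂) (d ψ₂ (δ ψ₂)))
    (b₃ := B (δ ψ₃) (d ψ₃ (δ ψ₃))) ?_ ?_ ?_ ?_ ?_ ?_ ?_ ?_ ?_ ?_
    (hlt _ _ (hJt _ m1).1 (hJt _ m1).2).2 (hlt _ _ (hJt _ m2).1 (hJt _ m2).2).2
    (hlt _ _ (hJt _ m3).1 (hJt _ m3).2).2
    (hlt _ _ (hJt _ m1).1 (hJt _ m1).2).1 (hlt _ _ (hJt _ m2).1 (hJt _ m2).2).1
    (hlt _ _ (hJt _ m3).1 (hJt _ m3).2).1
    (hlt _ _ (hδt _ m1) (hη _ m1)).1 (hlt _ _ (hδt _ m2) (hη _ m2)).1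
    (hlt _ _ (hδt _ m3) (hη _ m3)).1
  all_goals apply Complex.ofReal_injective
  all_goals push_cast [cW, cB]
  · linear_combination hW
  · linear_combination hC
  · have q : ∀ ψ ∈ ({ψ₁, ψ₂, ψ₃} : Finset _), ((B (k ψ) (f (k ψ)) : ℝ) : ℂ) ^ 2 /
        ((W (k ψ) (f (k ψ)) : ℝ) : ℂ) =
        (f (k ψ) : ℂ) * (((k ψ : IrrCharacter G) : G → ℂ) z ^ 2 / ((k ψ : IrrCharacter G) : G → ℂ) 1) :=
      fun ψ hψ => by rw [← cQ _ _ (hJt ψ hψ).2]; push_cast; rfl
    simp only [← cW, ← cB, q _ m1, q _ m2, q _ m3]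
    linear_combination hQ
  · exact hv _ m1
  · exact hv _ m2
  · exact hv _ m3
  · exact hbs
  all_goals simp only [← cW, ← cB]
  · rw [← Complex.ofReal_pow, ← Complex.ofReal_pow, ← Complex.ofReal_div, ← Complex.ofReal_div,
      cQ _ _ (hη _ m1), cQ _ _ (hJt _ m1).2]
    exact hq _ m1
  · rw [← Complex.ofReal_pow, ← Complex.ofReal_pow, ← Complex.ofReal_div, ← Complex.ofReal_div,
      cQ _ _ (hη _ m2), cQ _ _ (hJt _ m2).2]
    exact hq _ m2
  · rw [← Complex.ofReal_pow, ← Complex.ofReal_pow, ← Complex.ofReal_div, ← Complex.ofReal_div,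
      cQ _ _ (hη _ m3), cQ _ _ (hJt _ m3).2]
    exact hq _ m3

end Cfsg.Agent.Inv
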