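import Cfsg.Agent.Lib.Inv.Exceptional
import Cfsg.Agent.Lib.Inv.QuatEight
import Cfsg.Agent.Lib.Inv.CyclicSylow
import Mathlib.GroupTheory.IndexNormal

/-!
# No noncommutative simple group has 2-rank one
-/

set_option autoImplicit false

namespace Cfsg.Agent.Inv

variable {G : Type*} [Group G] [Finite G]

/-- A simple group with a noncentral element has no nontrivial map to a commutative group. -/
theorem hom_eq_one_of_simple [IsSimpleGroup G] {A : Type*} [CommGroup A] (f : G →* A) {z : G}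
    (hzc : z ∉ Subgroup.center G) (g : G) : f g = 1 := by
  rcases (MonoidHom.normal_ker f).eq_bot_or_eq_top with h | h
  · refine absurd (Subgroup.mem_center_iff.2 fun x => ?_) hzc
    exact (MonoidHom.ker_eq_bot_iff f).1 h (by rw [map_mul, map_mul, mul_comm])
  · exact (MonoidHom.mem_ker).1 (h ▸ Subgroup.mem_top g)

/-- An element of order 4 of a quaternion Sylow 2-subgroup of order 8 in a simple group is
conjugate to an element of that subgroup outside the cyclic subgroup it generates. -/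
theorem exists_fused_four [IsSimpleGroup G] (h : TwoRankOne G) {z : G}
    (hzc : z ∉ Subgroup.center G) (P : Sylow 2 G) (h8 : Nat.card (P : Subgroup G) = 8)
    (hnc : ¬ IsCyclic (P : Subgroup G)) {u : G} (huP : u ∈ P) (hu : orderOf u = 4) :
    ∃ v ∈ (P : Subgroup G), v ∉ Subgroup.zpowers u ∧ orderOf v = 4 ∧ IsConj u v := by
  classical
  by_contra! hno
  set U : Subgroup (P : Subgroup G) := Subgroup.zpowers ⟨u, huP⟩ with hU
  have hUu : ∀ p : (P : Subgroup G), p ∈ U ↔ (p : G) ∈ Subgroup.zpowers u := fun p => by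
    rw [hU, Subgroup.mem_zpowers_iff, Subgroup.mem_zpowers_iff]
    exact exists_congr fun n => by rw [Subtype.ext_iff, SubgroupClass.coe_zpow]
  have hidx : U.index = 2 := by
    have hc := U.card_mul_index
    rw [hU, Nat.card_zpowers, ← Subgroup.orderOf_coe, hu, h8] at hc
    rw [hU]; omega
  have hU2 : ∀ p : (P : Subgroup G), (p : G) ^ 2 = 1 → p ∈ U := by
    intro p hp
    rw [hUu]
    by_cases h1 : (p : G) = 1
    · rw [h1]; exact one_mem _
    · rw [h.unique_of_pgroup P.isPGroup' p.2 (pow_mem huP 2)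
        (orderOf_eq_two_of_mul_self (by rw [← pow_two]; exact hp) h1) (orderOf_sq_of_four hu)]
      exact pow_mem (Subgroup.mem_zpowers u) 2
  obtain ⟨w, hw⟩ : ∃ w, w ∉ U := by
    by_contra! hall
    rw [Subgroup.index_eq_one.2 (eq_top_iff.2 fun p _ => hall p)] at hidx
    omega
  have hwo : orderOf (w : G) = 4 := by
    obtain ⟨k, hk⟩ := IsPGroup.iff_orderOf.1 P.isPGroup' w
    have hd : orderOf w ∣ 8 := h8 ▸ orderOf_dvd_natCard w
    have hk3 : k ≤ 3 := (Nat.pow_dvd_pow_iff_le_right one_lt_two).1 (hk ▸ hd : 2 ^ k ∣ 2 ^ 3)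
    rw [Subgroup.orderOf_coe, hk]
    interval_cases k
    · exact absurd (hU2 w (by
        rw [orderOf_eq_one_iff.1 (by simpa using hk : orderOf w = 1)]; simp)) hw
    · refine absurd (hU2 w ?_) hw
      rw [← Subgroup.coe_pow, orderOf_dvd_iff_pow_eq_one.1 (show orderOf w ∣ 2 by
        rw [hk, pow_one]), Subgroup.coe_one]
    · rfl
    · exact absurd (isCyclic_of_orderOf_eq_card w (by rw [hk, h8]; rfl)) hnc
  let ϕ : (P : Subgroup G) →* ℤˣ := MonoidHom.mk' (fun p => if p ∈ U then 1 else -1)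
    fun a b => by
      by_cases ha : a ∈ U <;> by_cases hb : b ∈ U <;>
        simp [ha, hb, Subgroup.mul_mem_iff_of_index_two hidx]
  -- the value of `ϕ` on conjugates of powers of `w`
  have key : ∀ (k : ℕ) (c : G) (hc : c⁻¹ * (w : G) ^ k * c ∈ (P : Subgroup G)),
      ϕ ⟨c⁻¹ * (w : G) ^ k * c, hc⟩ = (-1) ^ k := by
    intro k c hc
    rcases Nat.even_or_odd k with hk | hk
    · rw [hk.neg_one_pow]
      refine if_pos (hU2 _ ?_)
      obtain ⟨m, rfl⟩ := hk
      have h4 : (w : G) ^ 4 = 1 := hwo ▸ pow_orderOf_eq_one _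
      show (c⁻¹ * (w : G) ^ (m + m) * c) ^ 2 = 1
      rw [show c⁻¹ * (w : G) ^ (m + m) * c = c⁻¹ * (w : G) ^ (m + m) * c⁻¹⁻¹ by rw [inv_inv],
        conj_pow, ← pow_mul, show (m + m) * 2 = 4 * m by ring, pow_mul, h4, one_pow]
      group
    · rw [hk.neg_one_pow]
      refine if_neg fun hin => ?_
      rw [hUu] at hin
      have ho : orderOf ((w : G) ^ k) = 4 := by
        rw [Nat.Coprime.orderOf_pow (by
          rw [hwo]; exact Nat.Coprime.pow_left 2 (Nat.coprime_two_left.2 hk)), hwo]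
      have hoc : orderOf (c⁻¹ * (w : G) ^ k * c) = 4 := by
        rw [← ho, ← orderOf_conj c⁻¹ ((w : G) ^ k), inv_inv]
      have hwk : (w : G) ^ k ∉ Subgroup.zpowers u := fun hmem => by
        rw [← Subgroup.coe_pow, ← hUu] at hmem
        obtain ⟨m, rfl⟩ := hk
        rw [pow_succ, pow_mul] at hmem
        exact hw ((mul_mem_cancel_left (pow_mem (Subgroup.sq_mem_of_index_two hidx w) m)).1 hmem)
      rcases eq_or_inv_of_four hu hoc (Subgroup.mem_zpowers u) hin with e | e
      · refine hno _ (pow_mem w.2 k) hwk ho (isConj_iff.2 ⟨c, ?_⟩)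
        rw [← e]; group
      · refine hno _ (inv_mem (pow_mem w.2 k)) (fun hm => hwk (by simpa using inv_mem hm))
          (by rw [orderOf_inv]; exact ho) (isConj_iff.2 ⟨c, ?_⟩)
        rw [← inv_inv u, ← e]; group
  haveI : Fintype (Quotient (MulAction.orbitRel (Subgroup.zpowers (w : G)) (G ⧸ (P : Subgroup G)))) :=
    Fintype.ofFinite _
  have ht := MonoidHom.transfer_eq_prod_quotient_orbitRel_zpowers_quot ϕ (w : G)
  rw [hom_eq_one_of_simple _ hzc, Finset.prod_congr rfl fun q _ => key _ _ _,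
    Finset.prod_pow_eq_pow_sum, ← Subgroup.index_eq_sum_minimalPeriod,
    (Nat.not_even_iff_odd.1 fun he => P.not_dvd_index (even_iff_two_dvd.1 he)).neg_one_pow] at ht
  exact absurd ht (by decide)

/-- Brauer–Suzuki: a simple group in which commuting involutions are equal has only central
involutions. -/
theorem false_of_simple_rankOne [IsSimpleGroup G] (h : TwoRankOne G) {z : G}
    (hz : orderOf z = 2) (hzc : z ∉ Subgroup.center G) : False := by
  classical
  haveI : Fact (Nat.Prime 2) := ⟨Nat.prime_two⟩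
  obtain ⟨P, hzP⟩ := (IsPGroup.of_card (G := Subgroup.zpowers z) (p := 2) (n := 1)
    (by rw [Nat.card_zpowers, hz]; rfl)).exists_le_sylow
  have hzP' : z ∈ P := hzP (Subgroup.mem_zpowers z)
  have hPu : ∀ s t : (P : Subgroup G), orderOf s = 2 → orderOf t = 2 → s = t := fun s t hs ht =>
    Subtype.ext (h.unique_of_pgroup P.isPGroup' s.2 t.2 (by rwa [Subgroup.orderOf_coe])
      (by rwa [Subgroup.orderOf_coe]))
  have hnc : ¬ IsCyclic (P : Subgroup G) := fun hc => by
    have heven : Even (Nat.card G) := even_iff_two_dvd.2 (hz ▸ orderOf_dvd_natCard z)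
    obtain ⟨H, hH⟩ := exists_index_two_of_cyclic_sylow heven P hc
    haveI := Subgroup.normal_of_index_eq_two hH
    rcases (inferInstance : H.Normal).eq_bot_or_eq_top with e | e
    · subst e
      rw [Subgroup.index_bot] at hH
      haveI := isCyclic_of_prime_card hH
      exact hzc (Subgroup.mem_center_iff.2 fun g => (IsCyclic.commGroup (α := G)).mul_comm g z)
    · rw [Subgroup.index_eq_one.2 e] at hH; omega
  obtain ⟨a, ha4, hidx, hout⟩ := exists_cyclic_index_two P.isPGroup' hPu hnc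
  obtain ⟨y, hy⟩ : ∃ y, y ∉ Subgroup.zpowers a := by
    by_contra! hall
    rw [Subgroup.index_eq_one.2 (eq_top_iff.2 fun p _ => hall p)] at hidx
    omega
  obtain ⟨k, hk⟩ := IsPGroup.iff_orderOf.1 P.isPGroup' a
  have hk2 : 2 ≤ k := by
    by_contra hlt
    have h2 : 2 ^ k ≤ 2 ^ 1 := Nat.pow_le_pow_right two_pos (by omega)
    omega
  have hle : ∀ p : (P : Subgroup G), orderOf p ≤ orderOf a := fun p => by
    by_cases hp : p ∈ Subgroup.zpowers a
    · obtain ⟨n, rfl⟩ := Subgroup.mem_zpowers_iff.1 hp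
      exact Nat.le_of_dvd (orderOf_pos a) (orderOf_dvd_iff_pow_eq_one.2 (by
        rw [← zpow_natCast, ← zpow_mul, mul_comm, zpow_mul, zpow_natCast, pow_orderOf_eq_one,
          one_zpow]))
    · rw [(hout p hp).2]; exact ha4
  have hconjP : ∀ b : G, (∃ j, orderOf b = 2 ^ j) → ∃ c : G, c * b * c⁻¹ ∈ P := by
    rintro b ⟨j, hj⟩
    obtain ⟨Q, hQ⟩ := (IsPGroup.of_card (G := Subgroup.zpowers b) (p := 2) (n := j)
      (by rw [Nat.card_zpowers, hj])).exists_le_sylow
    obtain ⟨c, hc⟩ := MulAction.exists_smul_eq G Q P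
    exact ⟨c, hc ▸ ⟨b, hQ (Subgroup.mem_zpowers b), rfl⟩⟩
  let D : CycData G :=
    { a := a
      y := y
      hpow := ⟨k, by rw [Subgroup.orderOf_coe, hk]⟩
      h4 := by rw [Subgroup.orderOf_coe, hk]; exact Nat.pow_dvd_pow 2 hk2
      hy := by exact_mod_cast congrArg Subtype.val (hout y hy).1
      hmax := fun b hb => by
        obtain ⟨c, hc⟩ := hconjP b hb
        rw [← orderOf_conj c b, show c * b * c⁻¹ = ((⟨c * b * c⁻¹, hc⟩ : (P : Subgroup G)) : G) from rfl,
          Subgroup.orderOf_coe, Subgroup.orderOf_coe]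
        exact hle _ }
  have hx2 : D.x ^ 2 = z := h.unique_of_pgroup P.isPGroup'
    (pow_mem (pow_mem a.2 _ : D.x ∈ (P : Subgroup G)) 2) hzP' (orderOf_sq_of_four D.orderOf_x) hz
  have hcen : D.x ^ 2 ∉ Subgroup.center G := hx2 ▸ hzc
  by_cases h8 : 8 ≤ orderOf a
  · exact false_of_eight h D (by rw [show D.a = (a : G) from rfl, Subgroup.orderOf_coe]; exact h8) hcen
  have ha : orderOf a = 4 := by
    have : k < 3 := by
      by_contra hlt
      have h2 : 2 ^ 3 ≤ 2 ^ k := Nat.pow_le_pow_right two_pos (by omega)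
      omega
    interval_cases k
    rw [hk]; rfl
  have hPcard : Nat.card (P : Subgroup G) = 8 := by
    rw [← (Subgroup.zpowers a).card_mul_index, hidx, Nat.card_zpowers, ha]
  have h16 : ¬ 16 ∣ Nat.card G := fun h16 => by
    obtain ⟨K, hK⟩ := Sylow.exists_subgroup_card_pow_prime (G := G) 2 (n := 4) h16
    obtain ⟨Q, hQ⟩ := (IsPGroup.of_card hK).exists_le_sylow
    have := Subgroup.card_dvd_of_le hQ
    rw [hK, Nat.card_congr (Q.equiv P).toEquiv, hPcard] at this
    omega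
  have hao : orderOf (a : G) = 4 := by rw [Subgroup.orderOf_coe, ha]
  have hxa : D.x = a := by
    show (a : G) ^ (orderOf (a : G) / 4) = a
    rw [hao, pow_one]
  have hinv : IsConj (a : G) (a : G)⁻¹ := isConj_iff.2 ⟨y, D.hy⟩
  obtain ⟨v₁, hv₁P, hv₁a, hv₁, hc₁⟩ := exists_fused_four h hzc P hPcard hnc a.2 hao
  refine false_of_four h D (by rw [show D.a = (a : G) from rfl, hao]) ?_ h16 hcen
  intro u hu
  rw [hxa]
  obtain ⟨c, hc⟩ := hconjP u ⟨2, hu⟩
  suffices H : ∀ v ∈ (P : Subgroup G), orderOf v = 4 → IsConj (a : G) v from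
    (H _ hc ((orderOf_conj c u).trans hu)).trans (isConj_iff.2 ⟨c, rfl⟩ : IsConj u _).symm
  -- elements in the first two cyclic subgroups
  have hAB : ∀ v : G, orderOf v = 4 → (v ∈ Subgroup.zpowers (a : G) ∨ v ∈ Subgroup.zpowers v₁) →
      IsConj (a : G) v := by
    intro v hv hmem
    rcases hmem with hm | hm
    · rcases eq_or_inv_of_four hao hv (Subgroup.mem_zpowers _) hm with rfl | rfl
      · exact IsConj.refl _
      · exact hinv
    · rcases eq_or_inv_of_four hv₁ hv (Subgroup.mem_zpowers _) hm with rfl | rfl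
      · exact hc₁
      · obtain ⟨d, hd⟩ := isConj_iff.1 hc₁
        exact hinv.trans (isConj_iff.2 ⟨d, by rw [← hd]; group⟩)
  intro v hvP hv
  by_contra hvn
  have hva : v ∉ Subgroup.zpowers (a : G) := fun hm => hvn (hAB v hv (Or.inl hm))
  have hvb : v ∉ Subgroup.zpowers v₁ := fun hm => hvn (hAB v hv (Or.inr hm))
  obtain ⟨v₂, hv₂P, hv₂v, hv₂, hc₂⟩ := exists_fused_four h hzc P hPcard hnc hvP hv
  have hv₂n : ¬ IsConj (a : G) v₂ := fun h' => hvn (h'.trans hc₂.symm)
  have hv₂a : v₂ ∉ Subgroup.zpowers (a : G) := fun hm => hv₂n (hAB v₂ hv₂ (Or.inl hm))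
  have hv₂b : v₂ ∉ Subgroup.zpowers v₁ := fun hm => hv₂n (hAB v₂ hv₂ (Or.inr hm))
  have hv₁v : v₁⁻¹ ∈ Subgroup.zpowers v₁ := inv_mem (Subgroup.mem_zpowers _)
  -- `v₁⁻¹ * v` and `v₁⁻¹ * v₂` have order 4 and lie in `⟨a⟩`
  have hA : ∀ w ∈ (P : Subgroup G), w ∉ Subgroup.zpowers (a : G) → w ∉ Subgroup.zpowers v₁ →
      v₁⁻¹ * w ∈ Subgroup.zpowers (a : G) ∧ orderOf (v₁⁻¹ * w) = 4 := by
    intro w hwP hwa hwb
    have hmap : ∀ p : (P : Subgroup G), p ∈ Subgroup.zpowers a ↔ (p : G) ∈ Subgroup.zpowers (a : G) :=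
      fun p => by
        rw [Subgroup.mem_zpowers_iff, Subgroup.mem_zpowers_iff]
        exact exists_congr fun n => by rw [Subtype.ext_iff, SubgroupClass.coe_zpow]
    have hmem : v₁⁻¹ * w ∈ Subgroup.zpowers (a : G) := by
      have := (hmap ((⟨v₁, hv₁P⟩ : (P : Subgroup G))⁻¹ * ⟨w, hwP⟩)).1
        ((Subgroup.mul_mem_iff_of_index_two hidx).2 (by
          rw [inv_mem_iff, hmap, hmap]
          exact iff_of_false hv₁a hwa))
      simpa using this
    refine ⟨hmem, ?_⟩
    have hd : orderOf (v₁⁻¹ * w) ∣ 2 ^ 2 := by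
      obtain ⟨n, hn⟩ := Subgroup.mem_zpowers_iff.1 hmem
      refine orderOf_dvd_of_pow_eq_one ?_
      rw [← hn, ← zpow_natCast, ← zpow_mul, mul_comm, zpow_mul, zpow_natCast,
        show (2 : ℕ) ^ 2 = orderOf (a : G) from hao.symm, pow_orderOf_eq_one, one_zpow]
    obtain ⟨j, hj, he⟩ := (Nat.dvd_prime_pow Nat.prime_two).1 hd
    interval_cases j
    · refine absurd ?_ hwb
      rw [← inv_mul_eq_one.1 (orderOf_eq_one_iff.1 (show orderOf (v₁⁻¹ * w) = 1 by simpa using he))]
      exact Subgroup.mem_zpowers _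
    · refine absurd ?_ hwb
      have e := h.unique_of_pgroup P.isPGroup' (mul_mem (inv_mem hv₁P) hwP) (pow_mem hv₁P 2)
        (by simpa using he) (orderOf_sq_of_four hv₁)
      rw [inv_mul_eq_iff_eq_mul.1 e]
      exact mul_mem (Subgroup.mem_zpowers _) (pow_mem (Subgroup.mem_zpowers _) 2)
    · simpa using he
  obtain ⟨hαm, hα⟩ := hA v hvP hva hvb
  obtain ⟨hβm, hβ⟩ := hA v₂ hv₂P hv₂a hv₂b
  rcases eq_or_inv_of_four hα hβ (g := (a : G)) hαm hβm with e | e
  · exact hv₂v (mul_left_cancel e ▸ Subgroup.mem_zpowers v)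
  · have hsq : (v₁⁻¹ * v) ^ 2 = v ^ 2 := h.unique_of_pgroup P.isPGroup'
      (pow_mem (mul_mem (inv_mem hv₁P) hvP) 2) (pow_mem hvP 2) (orderOf_sq_of_four hα)
      (orderOf_sq_of_four hv)
    have h4 : (v₁⁻¹ * v) ^ 4 = 1 := hα ▸ pow_orderOf_eq_one _
    have h3 : (v₁⁻¹ * v)⁻¹ = v₁⁻¹ * v * v ^ 2 := by
      rw [← hsq, ← pow_succ']
      exact inv_eq_of_mul_eq_one_right (by rw [← pow_succ']; exact h4)
    rw [h3, mul_assoc, mul_right_inj] at e
    exact hv₂v (e ▸ mul_mem (Subgroup.mem_zpowers v) (pow_mem (Subgroup.mem_zpowers v) 2))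

end Cfsg.Agent.Inv
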