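import Cfsg.Agent.Lib.Inv.Dihedral

/-!
Two involutions whose product has finite order, in a group that need not be finite.
-/

namespace Cfsg.Agent.Inv

theorem dihedral_equiv_of_pos {G : Type*} [Group G] {x y : G} (hx : orderOf x = 2)
    (hy : orderOf y = 2) (hfin : 0 < orderOf (x * y)) :
    Nonempty (↥(Subgroup.closure ({x, y} : Set G)) ≃* DihedralGroup (orderOf (x * y))) := by
  have hz : NeZero (orderOf (x * y)) := ⟨hfin.ne'⟩
  generalize hn : orderOf (x * y) = n at hz ⊢
  let g : ZMod n → G := fun i => (x * y) ^ (i.val : ℤ)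
  have gadd : ∀ i j, g (i + j) = g i * g j := by
    intro i j
    simp only [g, zpow_natCast, ← pow_add, ZMod.val_add]
    subst hn
    rw [pow_mod_orderOf]
  have g0 : g 0 = 1 := by simp [g]
  have gneg : ∀ i, g (-i) = (g i)⁻¹ := fun i =>
    (inv_eq_of_mul_eq_one_right (by rw [← gadd, add_neg_cancel, g0])).symm
  have gsub : ∀ i j, g (j - i) = (g i)⁻¹ * g j := fun i j => by
    rw [sub_eq_neg_add, gadd, gneg]
  have gx : ∀ i, g i * x = x * (g i)⁻¹ := by
    intro i
    simp only [g, ← zpow_neg]
    rw [x_mul_zpow hx hy, neg_neg]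
  let φ : DihedralGroup n →* G :=
    { toFun := fun d => match d with
        | .r i => g i
        | .sr i => x * g i
      map_one' := g0
      map_mul' := by
        rintro (i | i) (j | j)
        · exact gadd i j
        · show x * g (j - i) = g i * (x * g j)
          rw [gsub, ← mul_assoc (g i), gx, mul_assoc]
        · show x * g (i + j) = x * g i * g j
          rw [gadd, mul_assoc]
        · show g (j - i) = x * g i * (x * g j)
          rw [gsub, mul_assoc, ← mul_assoc (g i), gx, ← mul_assoc, ← mul_assoc,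
            mul_self_of_orderOf_two hx, one_mul] }
  have hinj : Function.Injective φ := by
    rw [injective_iff_map_eq_one]
    rintro (i | i) h
    · change (x * y) ^ (i.val : ℤ) = 1 at h
      rw [zpow_natCast] at h
      have hd := orderOf_dvd_of_pow_eq_one h
      rw [hn] at hd
      have : i.val = 0 := Nat.eq_zero_of_dvd_of_lt hd (ZMod.val_lt i)
      rw [(ZMod.val_eq_zero i).1 this, DihedralGroup.r_zero]
    · change x * (x * y) ^ (i.val : ℤ) = 1 at h
      have hm : ((x * y) ^ (i.val : ℤ))⁻¹ ∈ Subgroup.zpowers (x * y) :=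
        inv_mem (Subgroup.zpow_mem_zpowers _ _)
      rw [← eq_inv_of_mul_eq_one_left h] at hm
      exact absurd hm (not_mem_zpowers hx hy)
  have hg : ∀ k : ℤ, g (k : ZMod n) = (x * y) ^ k := by
    intro k
    simp only [g]
    rw [ZMod.val_intCast]
    subst hn
    rw [zpow_mod_orderOf]
  have hrange : φ.range = Subgroup.closure ({x, y} : Set G) := by
    ext t
    rw [mem_closure_pair hx hy]
    constructor
    · rintro ⟨i | i, rfl⟩
      · exact ⟨_, Or.inl rfl⟩
      · exact ⟨-(i.val : ℤ), Or.inr (x_mul_zpow hx hy _)⟩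
    · rintro ⟨k, rfl | rfl⟩
      · exact ⟨.r k, hg k⟩
      · refine ⟨.sr ((-k : ℤ) : ZMod n), ?_⟩
        show x * g _ = _
        rw [hg, x_mul_zpow hx hy, neg_neg]
  exact ⟨((MonoidHom.ofInjective hinj).trans (MulEquiv.subgroupCongr hrange)).symm⟩

end Cfsg.Agent.Inv
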