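import Cfsg.Agent.Lib.Inv.StronglyEmbedded

/-!
# Counting involutions relative to a strongly embedded subgroup
-/

namespace Cfsg.Agent.Inv

variable {G : Type*} [Group G] [Finite G] {H : Subgroup G}

omit [Finite G] in
theorem involution_inv {t : G} (ht : orderOf t = 2) : t⁻¹ = t :=
  inv_eq_of_mul_eq_one_right (by rw [← pow_two, ← ht, pow_orderOf_eq_one])

omit [Finite G] in
theorem involution_mul_self {t : G} (ht : orderOf t = 2) : t * t = 1 := by
  rw [← pow_two, ← ht, pow_orderOf_eq_one]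

omit [Finite G] in
theorem orderOf_conj_two (g t : G) : orderOf (g * t * g⁻¹) = orderOf t := by
  simpa using orderOf_conj g t

theorem odd_orderOf_mul (hH : Cfsg.IsStronglyEmbedded H) {v z : G} (hv : orderOf v = 2) (hvH : v ∉ H)
    (hz : orderOf z = 2) (hzH : z ∈ H) : Odd (orderOf (v * z)) := by
  by_contra hodd
  obtain ⟨m, hm⟩ := (Nat.not_odd_iff_even.1 hodd : Even _)
  have hpos : 0 < orderOf (v * z) := orderOf_pos _
  set e := (v * z) ^ m with he
  have he2 : orderOf e = 2 := orderOf_eq_prime (by rw [he, ← pow_mul, mul_two, ← hm, pow_orderOf_eq_one])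
    (pow_ne_one_of_lt_orderOf (by omega) (by omega))
  have hve : v * e * v⁻¹ = e := by
    have h1 : v * (v * z) * v⁻¹ = (v * z)⁻¹ := by
      rw [mul_inv_rev, involution_inv hz, involution_inv hv, ← mul_assoc v v z, involution_mul_self hv, one_mul]
    calc v * e * v⁻¹ = (v * (v * z) * v⁻¹) ^ m := by rw [he, conj_pow]
      _ = e⁻¹ := by rw [h1, inv_pow, he]
      _ = e := involution_inv he2
  have hze : z * e * z⁻¹ = e := by
    have h1 : z * (v * z) * z⁻¹ = (v * z)⁻¹ := by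
      rw [mul_inv_rev, involution_inv hz, involution_inv hv, mul_assoc z (v * z) z, mul_assoc v z z,
        involution_mul_self hz, mul_one]
    calc z * e * z⁻¹ = (z * (v * z) * z⁻¹) ^ m := by rw [he, conj_pow]
      _ = e⁻¹ := by rw [h1, inv_pow, he]
      _ = e := involution_inv he2
  have heH : e ∈ H := stronglyEmbedded_centralizer_le hH hz hzH
    (Subgroup.mem_centralizer_singleton_iff.2 (mul_inv_eq_iff_eq_mul.1 hze).symm)
  exact hvH (stronglyEmbedded_centralizer_le hH he2 heH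
    (Subgroup.mem_centralizer_singleton_iff.2 (mul_inv_eq_iff_eq_mul.1 hve)))

/-- An element inverted by an involution outside `H` and centralized by one inside is trivial. -/
theorem eq_one_of_inverted_of_centralized (hH : Cfsg.IsStronglyEmbedded H) {v z c : G} (hv : orderOf v = 2)
    (hvH : v ∉ H) (hz : orderOf z = 2) (hzH : z ∈ H) (hc : Odd (orderOf c)) (hinv : v * c * v⁻¹ = c⁻¹)
    (hzc : z * c = c * z) : c = 1 := by
  obtain ⟨k, hk⟩ := odd_orderOf_mul hH hv hvH hz hzH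
  have h1 : (v * z) * c * (v * z)⁻¹ = c⁻¹ := by
    rw [← hinv, mul_inv_rev, mul_assoc v z c, hzc]; group
  have h2 : Commute ((v * z) ^ 2) c := by
    refine mul_inv_eq_iff_eq_mul.1 ?_
    calc (v * z) ^ 2 * c * ((v * z) ^ 2)⁻¹ = (v * z) * ((v * z) * c * (v * z)⁻¹) * (v * z)⁻¹ := by rw [pow_two]; group
      _ = ((v * z) * c * (v * z)⁻¹)⁻¹ := by rw [h1, ← conj_inv, h1]
      _ = c := by rw [h1, inv_inv]
  have h3 : Commute (v * z) c := by
    have e : ((v * z) ^ 2) ^ (k + 1) = v * z := by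
      rw [← pow_mul, show 2 * (k + 1) = (2 * k + 1) + 1 by ring, ← hk, pow_succ, pow_orderOf_eq_one, one_mul]
    exact e ▸ h2.pow_left (k + 1)
  rw [h3.eq, mul_inv_cancel_right] at h1
  have h4 : c ^ 2 = 1 := by rw [pow_two, mul_eq_one_iff_eq_inv]; exact h1
  exact orderOf_eq_one_iff.1 (Nat.eq_one_of_dvd_coprimes (Nat.coprime_two_right.2 hc) dvd_rfl
    (orderOf_dvd_of_pow_eq_one h4))

theorem smul_mk_eq_mk_iff (g : G) : g • (QuotientGroup.mk 1 : G ⧸ H) = QuotientGroup.mk 1 ↔ g ∈ H := by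
  rw [MulAction.Quotient.smul_mk, QuotientGroup.eq]
  simp

/-- Two involutions swapping the same pair give an element of `H ∩ vHv⁻¹` inverted by either. -/
theorem inverted_of_swap (hH : Cfsg.IsStronglyEmbedded H) {w₁ w₂ : G} {y : G ⧸ H} (hy : y ≠ QuotientGroup.mk 1)
    (h1 : orderOf w₁ = 2) (e1 : w₁ • (QuotientGroup.mk 1 : G ⧸ H) = y)
    (h2 : orderOf w₂ = 2) (e2 : w₂ • (QuotientGroup.mk 1 : G ⧸ H) = y) :
    w₁ ∉ H ∧ w₁ * w₂ ∈ H ⊓ H.map (MulAut.conj w₁).toMonoidHom ∧ Odd (orderOf (w₁ * w₂)) ∧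
      w₁ * (w₁ * w₂) * w₁⁻¹ = (w₁ * w₂)⁻¹ := by
  have hn : w₁ ∉ H := fun h => hy (e1.symm.trans ((smul_mk_eq_mk_iff w₁).2 h))
  have hc : w₁ * w₂ ∈ H := by
    rw [← smul_mk_eq_mk_iff, mul_smul, e2, ← e1, ← mul_smul, involution_mul_self h1, one_smul]
  have hi : w₁ * (w₁ * w₂) * w₁⁻¹ = (w₁ * w₂)⁻¹ := by
    rw [mul_inv_rev, involution_inv h1, involution_inv h2, ← mul_assoc w₁ w₁, involution_mul_self h1, one_mul]
  have hD : w₁ * w₂ ∈ H ⊓ H.map (MulAut.conj w₁).toMonoidHom := by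
    refine Subgroup.mem_inf.2 ⟨hc, (w₁ * w₂)⁻¹, inv_mem hc, ?_⟩
    show w₁ * (w₁ * w₂)⁻¹ * w₁⁻¹ = w₁ * w₂
    rw [← conj_inv, hi, inv_inv]
  exact ⟨hn, hD, (hH.2.2 w₁ hn).of_dvd_nat (Subgroup.orderOf_dvd_natCard _ hD), hi⟩

/-- For `y ≠ H`, the map attached to an involution `v` swapping `H` and `y`. -/
theorem swapMap_injective (hH : Cfsg.IsStronglyEmbedded H) {y : G ⧸ H} (hy : y ≠ QuotientGroup.mk 1)
    {z v : G} (hz : orderOf z = 2) (hzH : z ∈ H) (hv : orderOf v = 2) :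
    Function.Injective fun w : {i : G // orderOf i = 2 ∧ i • (QuotientGroup.mk 1 : G ⧸ H) = y} =>
      (v * w.1) * z * (v * w.1)⁻¹ := by
  rintro ⟨w₁, h1, e1⟩ ⟨w₂, h2, e2⟩ he
  obtain ⟨hn, -, hodd, hi⟩ := inverted_of_swap hH hy h1 e1 h2 e2
  have hcz : z * (w₁ * w₂) = w₁ * w₂ * z := by
    have he' : v * w₁ * z * (v * w₁)⁻¹ = v * w₂ * z * (v * w₂)⁻¹ := he
    rw [mul_inv_rev, mul_inv_rev, involution_inv hv, involution_inv h1, involution_inv h2] at he'
    have h5 : w₁ * z * w₁ = w₂ * z * w₂ := by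
      have := congrArg (fun a => v * a * v) he'
      simpa [mul_assoc, ← mul_assoc v v, involution_mul_self hv] using this
    calc z * (w₁ * w₂) = (w₁ * w₁) * z * (w₁ * w₂) := by rw [involution_mul_self h1, one_mul]
      _ = w₁ * (w₁ * z * w₁) * w₂ := by group
      _ = w₁ * (w₂ * z * w₂) * w₂ := by rw [h5]
      _ = w₁ * w₂ * z * (w₂ * w₂) := by group
      _ = w₁ * w₂ * z := by rw [involution_mul_self h2, mul_one]
  have := eq_one_of_inverted_of_centralized hH h1 hn hz hzH hodd hi hcz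
  refine Subtype.ext ?_
  show w₁ = w₂
  calc w₁ = w₁ * (w₁ * w₂) := by rw [this, mul_one]
    _ = w₂ := by rw [← mul_assoc, involution_mul_self h1, one_mul]

theorem exists_involution_mem (hH : Cfsg.IsStronglyEmbedded H) : ∃ z : G, orderOf z = 2 ∧ z ∈ H := by
  haveI : Fact (Nat.Prime 2) := ⟨Nat.prime_two⟩
  obtain ⟨⟨t, htH⟩, ht⟩ := exists_prime_orderOf_dvd_card' (G := ↥H) 2 (even_iff_two_dvd.1 hH.2.1)
  exact ⟨t, (Subgroup.orderOf_mk t htH).symm.trans ht, htH⟩

/-- Each pair of distinct cosets is swapped by as many involutions as lie in `H`. -/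
theorem card_swap (hH : Cfsg.IsStronglyEmbedded H) {y : G ⧸ H} (hy : y ≠ QuotientGroup.mk 1) :
    Nat.card {i : G // orderOf i = 2 ∧ i • (QuotientGroup.mk 1 : G ⧸ H) = y} =
      Nat.card {t : G // orderOf t = 2 ∧ t ∈ H} := by
  classical
  haveI : Fintype (G ⧸ H) := Fintype.ofFinite _
  obtain ⟨z, hz, hzH⟩ := exists_involution_mem hH
  let j := Nat.card {t : G // orderOf t = 2 ∧ t ∈ H}
  let m : G ⧸ H → ℕ := fun y => Nat.card {i : G // orderOf i = 2 ∧ i • (QuotientGroup.mk 1 : G ⧸ H) = y}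
  have hle : ∀ y : G ⧸ H, y ≠ QuotientGroup.mk 1 → m y ≤ j := by
    intro y hy
    rcases isEmpty_or_nonempty {i : G // orderOf i = 2 ∧ i • (QuotientGroup.mk 1 : G ⧸ H) = y} with h | ⟨⟨v, hv, ev⟩⟩
    · exact (Nat.card_eq_zero.2 (Or.inl h)).trans_le (Nat.zero_le _)
    refine Nat.card_le_card_of_injective (fun w => ⟨(v * w.1) * z * (v * w.1)⁻¹,
      (orderOf_conj_two _ z).trans hz, ?_⟩) (fun a b hab =>
        swapMap_injective hH hy hz hzH hv (congrArg Subtype.val hab))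
    have hd := (Subgroup.mem_inf.1 (inverted_of_swap hH hy hv ev w.2.1 w.2.2).2.1).1
    exact mul_mem (mul_mem hd hzH) (inv_mem hd)
  have hone : m (QuotientGroup.mk 1) = j :=
    Nat.card_congr (Equiv.subtypeEquivRight fun i => and_congr_right fun _ => smul_mk_eq_mk_iff i)
  have hsum : ∑ y, m y = Nat.card {i : G // orderOf i = 2} := by
    rw [← Nat.card_sigma]
    exact Nat.card_congr ⟨fun a => ⟨a.2.1, a.2.2.1⟩, fun i => ⟨_, i.1, i.2, rfl⟩,
      fun a => by obtain ⟨y, i, hi, rfl⟩ := a; rfl, fun i => rfl⟩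
  have htot : Nat.card {i : G // orderOf i = 2} = Fintype.card (G ⧸ H) * j := by
    have h1 : Nat.card {i : G // orderOf i = 2} = ∑ y : G ⧸ H, Nat.card {i : G // orderOf i = 2 ∧ i • y = y} := by
      rw [← Nat.card_sigma]
      have hfix : ∀ i : {i : G // orderOf i = 2}, ∃ y : G ⧸ H, i.1 • y = y := by
        intro i
        obtain ⟨g, hg⟩ := isConj_iff.1 (stronglyEmbedded_isConj hH hz i.2)
        refine ⟨QuotientGroup.mk g, ?_⟩
        rw [MulAction.Quotient.smul_mk, QuotientGroup.eq, ← hg]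
        have : (g * z * g⁻¹ * g)⁻¹ * g = z⁻¹ := by group
        rw [smul_eq_mul, this]; exact inv_mem hzH
      refine (Nat.card_eq_of_bijective (fun a : Σ y : G ⧸ H, {i : G // orderOf i = 2 ∧ i • y = y} =>
        (⟨a.2.1, a.2.2.1⟩ : {i : G // orderOf i = 2})) ⟨?_, ?_⟩).symm
      · rintro ⟨y, i, hi, hy⟩ ⟨y', i', hi', hy'⟩ he
        obtain rfl : i = i' := congrArg Subtype.val he
        obtain ⟨g, rfl⟩ := QuotientGroup.mk_surjective y
        obtain ⟨g', rfl⟩ := QuotientGroup.mk_surjective y'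
        have a1 : g⁻¹ * i * g ∈ H := by
          rw [MulAction.Quotient.smul_mk, QuotientGroup.eq, smul_eq_mul, mul_inv_rev, involution_inv hi] at hy
          exact hy
        have a2 : g'⁻¹ * i * g' ∈ H := by
          rw [MulAction.Quotient.smul_mk, QuotientGroup.eq, smul_eq_mul, mul_inv_rev, involution_inv hi] at hy'
          exact hy'
        have hgg : g⁻¹ * g' ∈ H := stronglyEmbedded_mem hH
          (show orderOf (g⁻¹ * i * g) = 2 by simpa using (orderOf_conj_two g⁻¹ i).trans hi) a1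
          (by convert a2 using 1; group)
        have hq : (QuotientGroup.mk g : G ⧸ H) = QuotientGroup.mk g' := QuotientGroup.eq.2 hgg
        exact Sigma.subtype_ext hq rfl
      · intro i
        obtain ⟨y, hy⟩ := hfix i
        exact ⟨⟨y, i.1, i.2, hy⟩, rfl⟩
    rw [h1, Finset.sum_congr rfl (fun y _ => ?_), Finset.sum_const, Finset.card_univ, smul_eq_mul]
    obtain ⟨g, rfl⟩ := QuotientGroup.mk_surjective y
    refine Nat.card_congr (Equiv.subtypeEquiv (MulAut.conj g⁻¹).toEquiv fun i => ?_)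
    show _ ↔ orderOf (g⁻¹ * i * g⁻¹⁻¹) = 2 ∧ g⁻¹ * i * g⁻¹⁻¹ ∈ H
    rw [inv_inv]
    refine Iff.and (by rw [show g⁻¹ * i * g = g⁻¹ * i * g⁻¹⁻¹ by group, orderOf_conj_two]) ?_
    rw [MulAction.Quotient.smul_mk, QuotientGroup.eq, smul_eq_mul, mul_inv_rev,
      show g⁻¹ * i * g = (g⁻¹ * i⁻¹ * g)⁻¹ by group, Subgroup.inv_mem_iff]
  have hrest := Finset.add_sum_erase Finset.univ m (Finset.mem_univ (QuotientGroup.mk 1 : G ⧸ H))
  rw [hsum, htot, hone] at hrest
  have hconst : ∑ _y ∈ Finset.univ.erase (QuotientGroup.mk 1 : G ⧸ H), j = ∑ y ∈ Finset.univ.erase (QuotientGroup.mk 1 : G ⧸ H), m y := by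
    rw [Finset.sum_const, Finset.card_erase_of_mem (Finset.mem_univ _), Finset.card_univ, smul_eq_mul]
    have hp : 0 < Fintype.card (G ⧸ H) := Fintype.card_pos
    obtain ⟨n, hn⟩ := Nat.exists_eq_add_of_le hp
    rw [hn] at hrest ⊢
    simp only [Nat.succ_eq_add_one, zero_add, Nat.add_sub_cancel_left, add_mul, one_mul] at hrest ⊢
    omega
  exact ((Finset.sum_eq_sum_iff_of_le fun y hy => hle y (Finset.mem_erase.1 hy).1).1 hconst.symm y
    (Finset.mem_erase.2 ⟨hy, Finset.mem_univ _⟩))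

/-- `H ∩ uHu⁻¹` is transitive on the involutions of `H`. -/
theorem inf_conj_transitive (hH : Cfsg.IsStronglyEmbedded H) {u s t : G} (hu : orderOf u = 2) (huH : u ∉ H)
    (hs : orderOf s = 2) (hsH : s ∈ H) (ht : orderOf t = 2) (htH : t ∈ H) :
    ∃ d ∈ H ⊓ H.map (MulAut.conj u).toMonoidHom, d * s * d⁻¹ = t := by
  classical
  set y := u • (QuotientGroup.mk 1 : G ⧸ H) with hy0
  have hy : y ≠ QuotientGroup.mk 1 := fun h => huH ((smul_mk_eq_mk_iff u).1 h)
  have hmem : ∀ w : {i : G // orderOf i = 2 ∧ i • (QuotientGroup.mk 1 : G ⧸ H) = y},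
      u * w.1 ∈ H ⊓ H.map (MulAut.conj u).toMonoidHom := fun w => (inverted_of_swap hH hy hu rfl w.2.1 w.2.2).2.1
  let f : {i : G // orderOf i = 2 ∧ i • (QuotientGroup.mk 1 : G ⧸ H) = y} → {t : G // orderOf t = 2 ∧ t ∈ H} :=
    fun w => ⟨(u * w.1) * s * (u * w.1)⁻¹, (orderOf_conj_two _ s).trans hs,
      mul_mem (mul_mem (Subgroup.mem_inf.1 (hmem w)).1 hsH) (inv_mem (Subgroup.mem_inf.1 (hmem w)).1)⟩
  have hbij : Function.Bijective f := Function.Injective.bijective_of_nat_card_le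
    (fun a b hab => swapMap_injective hH hy hs hsH hu (congrArg Subtype.val hab)) (card_swap hH hy).ge
  obtain ⟨w, hw⟩ := hbij.2 ⟨t, ht, htH⟩
  exact ⟨u * w.1, hmem w, congrArg Subtype.val hw⟩

end Cfsg.Agent.Inv
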