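import Cfsg.Agent.Lib.Inv.Conj
import Cfsg.Prelude.Def_Involutions
import Mathlib.GroupTheory.Sylow
import Mathlib.Algebra.Group.Subgroup.Pointwise

/-!
# Strongly embedded subgroups: first properties
-/

namespace Cfsg.Agent.Inv

variable {G : Type*} [Group G] [Finite G] {H : Subgroup G}

/-- An involution of `H` in a conjugate `gHg⁻¹` forces `g ∈ H`. -/
theorem stronglyEmbedded_mem (hH : Cfsg.IsStronglyEmbedded H) {t g : G} (ht : orderOf t = 2)
    (htH : t ∈ H) (htg : g⁻¹ * t * g ∈ H) : g ∈ H := by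
  by_contra hg
  have h := hH.2.2 g hg
  have hm : t ∈ H ⊓ H.map (MulAut.conj g).toMonoidHom := by
    refine ⟨htH, g⁻¹ * t * g, htg, ?_⟩
    simp [mul_assoc]
  have hd : 2 ∣ Nat.card ↥(H ⊓ H.map (MulAut.conj g).toMonoidHom) :=
    ht ▸ Subgroup.orderOf_dvd_natCard _ hm
  exact Nat.not_even_iff_odd.2 h (even_iff_two_dvd.2 hd)

theorem stronglyEmbedded_centralizer_le (hH : Cfsg.IsStronglyEmbedded H) {t : G}
    (ht : orderOf t = 2) (htH : t ∈ H) : Subgroup.centralizer ({t} : Set G) ≤ H := by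
  intro c hc
  refine stronglyEmbedded_mem hH ht htH ?_
  rw [mul_assoc, ← Subgroup.mem_centralizer_singleton_iff.1 hc, inv_mul_cancel_left]
  exact htH

/-- Criterion for strong embedding. -/
theorem isStronglyEmbedded_of (hH : H ≠ ⊤) (heven : Even (Nat.card H))
    (h : ∀ g t : G, orderOf t = 2 → t ∈ H → g⁻¹ * t * g ∈ H → g ∈ H) :
    Cfsg.IsStronglyEmbedded H := by
  haveI : Fact (Nat.Prime 2) := ⟨Nat.prime_two⟩
  refine ⟨hH, heven, fun g hg => ?_⟩
  by_contra hodd
  obtain ⟨⟨t, htH, ⟨s, hs, hst⟩⟩, ht⟩ := exists_prime_orderOf_dvd_card'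
    (G := ↥(H ⊓ H.map (MulAut.conj g).toMonoidHom)) 2
    (even_iff_two_dvd.1 (Nat.not_odd_iff_even.1 hodd))
  replace ht : orderOf t = 2 := (Subgroup.orderOf_coe _).trans ht
  refine hg (h g t ht htH ?_)
  rw [← hst]
  simpa [mul_assoc] using hs

/-- Some involution lies outside a strongly embedded subgroup. -/
theorem exists_involution_notMem (hH : Cfsg.IsStronglyEmbedded H) :
    ∃ t : G, orderOf t = 2 ∧ t ∉ H := by
  haveI : Fact (Nat.Prime 2) := ⟨Nat.prime_two⟩
  obtain ⟨⟨t, htH⟩, ht⟩ := exists_prime_orderOf_dvd_card' (G := ↥H) 2 (even_iff_two_dvd.1 hH.2.1)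
  rw [Subgroup.orderOf_mk] at ht
  obtain ⟨g, hg⟩ : ∃ g, g ∉ H := by
    by_contra! h
    exact hH.1 (eq_top_iff.2 fun g _ => h g)
  refine ⟨g⁻¹ * t * g, ?_, fun h => hg (stronglyEmbedded_mem hH ht htH h)⟩
  rw [← ht]
  simpa using orderOf_conj g⁻¹ t

/-- All involutions of a group with a strongly embedded subgroup are conjugate. -/
theorem stronglyEmbedded_isConj (hH : Cfsg.IsStronglyEmbedded H) {s t : G} (hs : orderOf s = 2)
    (ht : orderOf t = 2) : IsConj s t := by
  have key : ∀ a b : G, orderOf a = 2 → orderOf b = 2 → a ∈ H → b ∉ H → IsConj a b := by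
    intro a b ha hb haH hbH
    by_contra hne
    obtain ⟨u, hu, -, -, hua, hub⟩ := exists_commuting_of_not_isConj ha hb hne
    have huH : u ∈ H :=
      stronglyEmbedded_centralizer_le hH ha haH (Subgroup.mem_centralizer_singleton_iff.2 hua.eq)
    exact hbH (stronglyEmbedded_centralizer_le hH hu huH
      (Subgroup.mem_centralizer_singleton_iff.2 hub.eq.symm))
  obtain ⟨r, hr, hrH⟩ := exists_involution_notMem hH
  obtain ⟨a, ha, haH⟩ : ∃ a : G, orderOf a = 2 ∧ a ∈ H := by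
    haveI : Fact (Nat.Prime 2) := ⟨Nat.prime_two⟩
    obtain ⟨⟨a, haH⟩, ha⟩ := exists_prime_orderOf_dvd_card' (G := ↥H) 2
      (even_iff_two_dvd.1 hH.2.1)
    exact ⟨a, (Subgroup.orderOf_mk a haH).symm.trans ha, haH⟩
  have all : ∀ b : G, orderOf b = 2 → IsConj a b := by
    intro b hb
    by_cases hbH : b ∈ H
    · exact (key a r ha hr haH hrH).trans (key b r hb hr hbH hrH).symm
    · exact key a b ha hb haH hbH
  exact (all s hs).symm.trans (all t ht)

end Cfsg.Agent.Inv
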