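import Mathlib
import Cfsg.Agent.Lib.Inv.StronglyEmbeddedCount
import Cfsg.Agent.S1226

/-!
Groups in which every involution centralizer is an elementary abelian 2-group.
-/

set_option autoImplicit false

universe u

namespace Cfsg.Agent.Inv.EACentralizer

open Subgroup MulAction

variable {G : Type u} [Group G] [Finite G]

/-- The standing hypothesis. -/
structure Hyp (T : Sylow 2 G) : Prop where
  nc : ¬ IsCyclic (T : Subgroup G)
  nn : ¬ (T : Subgroup G).Normal
  cent : ∀ t : G, orderOf t = 2 → IsMulCommutative (Subgroup.centralizer ({t} : Set G)) ∧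
    ∀ c ∈ Subgroup.centralizer ({t} : Set G), c ^ 2 = 1

variable {T : Sylow 2 G}

/-- The normalizer of the Sylow subgroup. -/
abbrev NT (T : Sylow 2 G) : Subgroup G := normalizer ((T : Subgroup G) : Set G)

/-- The intersection of `N(T)` with its conjugate by `u`. -/
abbrev Dsub (T : Sylow 2 G) (u : G) : Subgroup G := NT T ⊓ (NT T).map (MulAut.conj u).toMonoidHom

/-- The base point. -/
abbrev base (T : Sylow 2 G) : G ⧸ NT T := QuotientGroup.mk 1

theorem Hyp.se (h : Hyp T) : Cfsg.IsStronglyEmbedded (NT T) :=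
  Cfsg.Agent.S1226.result T h.nc h.nn h.cent

theorem Hyp.exists_central (h : Hyp T) : ∃ z ∈ (T : Subgroup G), orderOf z = 2 ∧
    (T : Subgroup G) ≤ Subgroup.centralizer ({z} : Set G) := by
  haveI : Fact (Nat.Prime 2) := ⟨Nat.prime_two⟩
  haveI hTn : Nontrivial (T : Subgroup G) := by
    by_contra hh
    rw [not_nontrivial_iff_subsingleton] at hh
    exact h.nc inferInstance
  haveI := T.isPGroup'.center_nontrivial
  obtain ⟨m, hm, hmcard⟩ :=
    (T.isPGroup'.to_subgroup (Subgroup.center _)).nontrivial_iff_card.1 ‹_›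
  obtain ⟨⟨⟨z, hzT⟩, hzc⟩, hz⟩ :=
    exists_prime_orderOf_dvd_card' (G := Subgroup.center (T : Subgroup G)) 2
      (by rw [hmcard]; exact dvd_pow_self 2 hm.ne')
  rw [Subgroup.orderOf_mk, Subgroup.orderOf_mk] at hz
  exact ⟨z, hzT, hz, fun x hx => Subgroup.mem_centralizer_singleton_iff.2
      (congrArg Subtype.val (Subgroup.mem_center_iff.1 hzc ⟨x, hx⟩))⟩

theorem Hyp.sq_eq_one (h : Hyp T) {x : G} (hx : x ∈ T) : x ^ 2 = 1 := by
  obtain ⟨z, -, hz, hle⟩ := h.exists_central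
  exact (h.cent z hz).2 x (hle hx)

theorem Hyp.comm (h : Hyp T) {x y : G} (hx : x ∈ T) (hy : y ∈ T) : Commute x y := by
  obtain ⟨z, -, hz, hle⟩ := h.exists_central
  haveI := (h.cent z hz).1
  exact congrArg Subtype.val (IsMulCommutative.is_comm.comm
    (⟨x, hle hx⟩ : Subgroup.centralizer ({z} : Set G)) ⟨y, hle hy⟩)

theorem Hyp.orderOf_eq_two (h : Hyp T) {x : G} (hx : x ∈ T) (h1 : x ≠ 1) : orderOf x = 2 :=
  haveI : Fact (Nat.Prime 2) := ⟨Nat.prime_two⟩
  orderOf_eq_prime (h.sq_eq_one hx) h1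

theorem Hyp.mem_T_of_commute (h : Hyp T) {t x : G} (ht : t ∈ T) (ht1 : t ≠ 1) (hx : Commute x t) :
    x ∈ T := by
  have h2 := h.orderOf_eq_two ht ht1
  have hp : IsPGroup 2 ↥(Subgroup.centralizer ({t} : Set G)) := fun c =>
    ⟨1, Subtype.ext (by simpa using (h.cent t h2).2 c.1 c.2)⟩
  have := T.is_maximal' hp fun y hy => Subgroup.mem_centralizer_singleton_iff.2 (h.comm hy ht).eq
  exact this.le (Subgroup.mem_centralizer_singleton_iff.2 hx.eq)

theorem Hyp.mem_T (h : Hyp T) {i : G} (hi : orderOf i = 2) (hiH : i ∈ NT T) : i ∈ T := by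
  have hp : IsPGroup 2 ↥(Subgroup.zpowers i) :=
    IsPGroup.of_card (n := 1) (by rw [Nat.card_zpowers, hi, pow_one])
  have hs : IsPGroup 2 ↥((T : Subgroup G) ⊔ Subgroup.zpowers i) :=
    T.isPGroup'.to_sup_of_normal_left' hp (Subgroup.zpowers_le.2 hiH)
  exact (T.is_maximal' hs le_sup_left).le (Subgroup.mem_sup_right (Subgroup.mem_zpowers i))

theorem Hyp.four_le (h : Hyp T) : 4 ≤ Nat.card ↥(T : Subgroup G) := by
  haveI : Fact (Nat.Prime 2) := ⟨Nat.prime_two⟩
  obtain ⟨n, hn⟩ := T.isPGroup'.exists_card_eq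
  rcases n with _ | _ | n
  · exact absurd (isCyclic_of_card_dvd_prime (p := 2) (by rw [hn]; norm_num)) h.nc
  · exact absurd (isCyclic_of_card_dvd_prime (p := 2) (by rw [hn]; norm_num)) h.nc
  · calc 4 ≤ 2 ^ (n + 1 + 1) := by rw [pow_succ, pow_succ]; nlinarith [Nat.one_le_two_pow (n := n)]
      _ = Nat.card ↥(T : Subgroup G) := hn.symm

theorem Hyp.card_invol (h : Hyp T) :
    Nat.card {t : G // orderOf t = 2 ∧ t ∈ NT T} + 1 = Nat.card ↥(T : Subgroup G) := by
  classical
  haveI : Fintype G := Fintype.ofFinite G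
  let e : {t : G // orderOf t = 2 ∧ t ∈ NT T} ≃ {t : ↥(T : Subgroup G) // t ≠ 1} :=
    { toFun := fun t => ⟨⟨t.1, h.mem_T t.2.1 t.2.2⟩, fun e => by
        have h2 := t.2.1
        rw [show t.1 = 1 from congrArg Subtype.val e, orderOf_one] at h2
        omega⟩
      invFun := fun t => ⟨t.1.1, h.orderOf_eq_two t.1.2 fun e => t.2 (Subtype.ext e), le_normalizer t.1.2⟩
      left_inv := fun t => rfl
      right_inv := fun t => rfl }
  rw [Nat.card_congr e, Nat.card_eq_fintype_card, Nat.card_eq_fintype_card, Fintype.card_subtype_compl,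
    Fintype.card_subtype_eq]
  have : 0 < Fintype.card ↥(T : Subgroup G) := Fintype.card_pos
  omega

theorem mem_Dsub {u : G} (hu : orderOf u = 2) {d : G} :
    d ∈ Dsub T u ↔ d • base T = base T ∧ d • (u • base T) = u • base T := by
  rw [Subgroup.mem_inf, Subgroup.mem_map_equiv, MulAut.conj_symm_apply, smul_mk_eq_mk_iff]
  refine and_congr Iff.rfl ?_
  rw [← smul_mk_eq_mk_iff (H := NT T), mul_smul, mul_smul, inv_smul_eq_iff]

section u

variable (h : Hyp T) {u : G} (hu : orderOf u = 2) (huH : u ∉ NT T)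
include h hu huH

theorem ne_base : u • base T ≠ base T := fun e => huH ((smul_mk_eq_mk_iff u).1 e)

theorem eq_one_of_mem_inter {x : G} (hxT : x ∈ T) (hxD : x ∈ Dsub T u) : x = 1 := by
  by_contra h1
  have := (h.se.2.2 u huH).of_dvd_nat (Subgroup.orderOf_dvd_natCard _ hxD)
  rw [h.orderOf_eq_two hxT h1] at this
  exact absurd this (by decide)

theorem conj_bij {t : G} (ht : t ∈ T) (ht1 : t ≠ 1) : Function.Bijective
    (fun d : ↥(Dsub T u) => (⟨(d : G) * t * (d : G)⁻¹, (orderOf_conj_two _ t).trans (h.orderOf_eq_two ht ht1),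
      le_normalizer ((mem_normalizer_iff.1 d.2.1 t).1 ht)⟩ : {t : G // orderOf t = 2 ∧ t ∈ NT T})) := by
  constructor
  · intro a b e
    have e' : (a : G) * t * (a : G)⁻¹ = b * t * (b : G)⁻¹ := congrArg Subtype.val e
    have hc : Commute ((b : G)⁻¹ * a) t := by
      rw [commute_iff_eq]
      calc (b : G)⁻¹ * a * t = (b : G)⁻¹ * (a * t * (a : G)⁻¹) * a := by group
        _ = t * ((b : G)⁻¹ * a) := by rw [e']; group
    have := eq_one_of_mem_inter h hu huH (h.mem_T_of_commute ht ht1 hc) (mul_mem (inv_mem b.2) a.2)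
    exact Subtype.ext (inv_mul_eq_one.1 this).symm
  · rintro ⟨s, hs, hsH⟩
    obtain ⟨d, hd, e⟩ := inf_conj_transitive h.se hu huH (h.orderOf_eq_two ht ht1) (le_normalizer ht) hs hsH
    exact ⟨⟨d, hd⟩, Subtype.ext e⟩

theorem card_Dsub : Nat.card ↥(Dsub T u) + 1 = Nat.card ↥(T : Subgroup G) := by
  obtain ⟨z, hzT, hz, -⟩ := h.exists_central
  have hz1 : z ≠ 1 := fun e => by rw [e, orderOf_one] at hz; omega
  rw [Nat.card_eq_of_bijective _ (conj_bij h hu huH hzT hz1), h.card_invol]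

theorem exists_decomp {x : G} (hx : x ∈ NT T) : ∃ d ∈ Dsub T u, ∃ t ∈ T, x = d * t := by
  obtain ⟨z, hzT, hz, -⟩ := h.exists_central
  have hz1 : z ≠ 1 := fun e => by rw [e, orderOf_one] at hz; omega
  obtain ⟨d, hd, e⟩ := inf_conj_transitive h.se hu huH hz (le_normalizer hzT)
    ((orderOf_conj_two x z).trans hz) (le_normalizer ((mem_normalizer_iff.1 hx z).1 hzT))
  refine ⟨d, hd, d⁻¹ * x, h.mem_T_of_commute hzT hz1 ?_, by group⟩
  rw [commute_iff_eq]
  calc d⁻¹ * x * z = d⁻¹ * (x * z * x⁻¹) * x := by group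
    _ = z * (d⁻¹ * x) := by rw [← e]; group

theorem isComplement :
    IsComplement' ((Dsub T u).subgroupOf (NT T)) ((T : Subgroup G).subgroupOf (NT T)) := by
  refine isComplement'_of_disjoint_and_mul_eq_univ ?_ ?_
  · rw [disjoint_def]
    intro x hxD hxT
    exact Subtype.ext (eq_one_of_mem_inter h hu huH hxT hxD)
  · rw [Set.eq_univ_iff_forall]
    rintro ⟨x, hx⟩
    obtain ⟨d, hd, t, ht, rfl⟩ := exists_decomp h hu huH hx
    exact Set.mem_mul.2 ⟨⟨d, hd.1⟩, hd, ⟨t, le_normalizer ht⟩, ht, rfl⟩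

theorem card_NT : Nat.card ↥(NT T) = Nat.card ↥(T : Subgroup G) * (Nat.card ↥(T : Subgroup G) - 1) := by
  rw [← (isComplement h hu huH).card_mul, Nat.card_congr (subgroupOfEquivOfLe inf_le_left).toEquiv,
    Nat.card_congr (subgroupOfEquivOfLe le_normalizer).toEquiv]
  have := card_Dsub h hu huH
  rw [mul_comm]
  congr 1
  change Nat.card ↥(Dsub T u) = _
  omega

theorem swap_bij : Function.Bijective
    (fun w : {i : G // orderOf i = 2 ∧ i • base T = u • base T} =>
      (⟨u * w.1, (inverted_of_swap h.se (ne_base h hu huH) hu rfl w.2.1 w.2.2).2.1⟩ : ↥(Dsub T u))) := by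
  refine Function.Injective.bijective_of_nat_card_le
    (fun a b e => Subtype.ext (mul_left_cancel (congrArg Subtype.val e))) ?_
  rw [card_swap h.se (ne_base h hu huH)]
  have h1 := h.card_invol
  have h2 := card_Dsub h hu huH
  omega

theorem inverts {d : G} (hd : d ∈ Dsub T u) : u * d * u⁻¹ = d⁻¹ := by
  obtain ⟨w, hw⟩ := (swap_bij h hu huH).2 ⟨d, hd⟩
  obtain rfl : u * w.1 = d := congrArg Subtype.val hw
  exact (inverted_of_swap h.se (ne_base h hu huH) hu rfl w.2.1 w.2.2).2.2.2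

theorem Dsub_comm {a b : G} (ha : a ∈ Dsub T u) (hb : b ∈ Dsub T u) : Commute a b := by
  have h1 := inverts h hu huH ha
  have h2 := inverts h hu huH hb
  have h3 := inverts h hu huH (mul_mem ha hb)
  have h4 : u * (a * b) * u⁻¹ = (u * a * u⁻¹) * (u * b * u⁻¹) := by group
  rw [h1, h2, h3, mul_inv_rev] at h4
  have h5 := congrArg (·⁻¹) h4
  simp only [mul_inv_rev, inv_inv] at h5
  exact h5

theorem mem_of_commute {d x : G} (hd : d ∈ Dsub T u) (hd1 : d ≠ 1) (hx : x ∈ NT T) (hc : Commute x d) :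
    x ∈ Dsub T u := by
  obtain ⟨e, he, t, ht, rfl⟩ := exists_decomp h hu huH hx
  have htd : Commute t d := by
    have : Commute (e⁻¹ * (e * t)) d := (Dsub_comm h hu huH he hd).inv_left.mul_left hc
    rwa [inv_mul_cancel_left] at this
  by_cases ht1 : t = 1
  · rw [ht1, mul_one]; exact he
  · exact absurd (eq_one_of_mem_inter h hu huH (h.mem_T_of_commute ht ht1 htd.symm) hd) hd1

theorem Dsub_eq {w : G} (hw : orderOf w = 2) (hwH : w ∉ NT T) {d : G} (hd : d ∈ Dsub T u) (hd1 : d ≠ 1)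
    (hdw : d ∈ Dsub T w) : Dsub T w = Dsub T u := by
  refine Subgroup.eq_of_le_of_card_ge (fun x hx => mem_of_commute h hu huH hd hd1 hx.1
    (Dsub_comm h hw hwH hx hdw)) ?_
  have h1 := card_Dsub h hu huH
  have h2 := card_Dsub h hw hwH
  omega

theorem exists_ne_one : ∃ d ∈ Dsub T u, d ≠ 1 := by
  by_contra hh
  push Not at hh
  have hb : Dsub T u = ⊥ := (Subgroup.eq_bot_iff_forall _).2 hh
  have h1 := card_Dsub h hu huH
  have h2 := h.four_le
  rw [hb, Subgroup.card_bot] at h1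
  omega

theorem not_mem_of_inverts {i : G} (hi : orderOf i = 2) (hinv : ∀ d ∈ Dsub T u, i * d * i⁻¹ = d⁻¹) :
    i ∉ NT T := by
  intro hiH
  obtain ⟨d, hd, hd1⟩ := exists_ne_one h hu huH
  have hiT := h.mem_T hi hiH
  have h1 : i * (d * i⁻¹ * d⁻¹) = (d⁻¹) ^ 2 := by
    rw [← mul_assoc, ← mul_assoc, hinv d hd, pow_two]
  have h2 : i * (d * i⁻¹ * d⁻¹) ∈ T := mul_mem hiT ((mem_normalizer_iff.1 hd.1 _).1 (inv_mem hiT))
  rw [h1] at h2
  have h3 := eq_one_of_mem_inter h hu huH h2 (pow_mem (inv_mem hd) 2)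
  have ho := (h.se.2.2 u huH).of_dvd_nat (Subgroup.orderOf_dvd_natCard _ hd)
  rw [inv_pow, inv_eq_one] at h3
  exact hd1 (orderOf_eq_one_iff.1 (Nat.eq_one_of_dvd_coprimes (Nat.coprime_two_right.2 ho) dvd_rfl
    (orderOf_dvd_of_pow_eq_one h3)))

/-- Only two points are fixed by all of `Dsub T u`. -/
theorem fixed_points {y : G ⧸ NT T} (hy : ∀ d ∈ Dsub T u, d • y = y) :
    y = base T ∨ y = u • base T := by
  classical
  haveI : Fintype G := Fintype.ofFinite G
  haveI : Fintype (G ⧸ NT T) := Fintype.ofFinite _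
  obtain ⟨d0, hd0, hd01⟩ := exists_ne_one h hu huH
  set D := Dsub T u with hD
  let Ω := {y : G ⧸ NT T // ∀ d ∈ D, d • y = y}
  set C := centralizer (D : Set G) with hC
  -- every fixed point other than the base gives involutions inverting `D`
  have hswap : ∀ z : Ω, z.1 ≠ base T → ∀ w : G, orderOf w = 2 → w • base T = z.1 →
      ∀ d ∈ D, w * d * w⁻¹ = d⁻¹ := by
    intro z hz w hw hwz d hd
    have hwH : w ∉ NT T := fun e => hz (hwz.symm.trans ((smul_mk_eq_mk_iff w).2 e))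
    have hd0' : d0 ∈ Dsub T w := (mem_Dsub hw).2 ⟨((mem_Dsub hu).1 hd0).1, by rw [hwz]; exact z.2 d0 hd0⟩
    have hd' : d ∈ Dsub T w := by rw [Dsub_eq h hu huH hw hwH hd0 hd01 hd0']; exact hd
    exact inverts h hw hwH hd'
  have hfix : ∀ i : G, orderOf i = 2 → (∀ d ∈ D, i * d * i⁻¹ = d⁻¹) →
      ∀ z : Ω, (∀ d ∈ D, d • (i • z.1) = i • z.1) := by
    intro i hi hinv z d hd
    have : d * i = i * d⁻¹ := by
      have := hinv d⁻¹ (inv_mem hd)
      rw [inv_inv, mul_inv_eq_iff_eq_mul] at this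
      exact this.symm
    rw [← mul_smul, this, mul_smul, z.2 d⁻¹ (inv_mem hd)]
  let a : Ω := ⟨base T, fun d hd => ((mem_Dsub hu).1 hd).1⟩
  have huinv : ∀ d ∈ D, u * d * u⁻¹ = d⁻¹ := fun d hd => inverts h hu huH hd
  -- the inverting involutions
  let I := {i : G // orderOf i = 2 ∧ ∀ d ∈ D, i * d * i⁻¹ = d⁻¹}
  let eI : I ≃ (Σ z : {z : Ω // z.1 ≠ base T}, {i : G // orderOf i = 2 ∧ i • base T = z.1.1}) :=
    { toFun := fun i => ⟨⟨⟨i.1 • base T, hfix i.1 i.2.1 i.2.2 a⟩,
          fun e => not_mem_of_inverts h hu huH i.2.1 i.2.2 ((smul_mk_eq_mk_iff i.1).1 e)⟩, i.1, i.2.1, rfl⟩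
      invFun := fun z => ⟨z.2.1, z.2.2.1, hswap z.1.1 z.1.2 z.2.1 z.2.2.1 z.2.2.2⟩
      left_inv := fun i => rfl
      right_inv := fun z => by
        obtain ⟨⟨⟨y, hy⟩, hne⟩, i, hi, e⟩ := z
        cases e
        rfl }
  set j := Nat.card {t : G // orderOf t = 2 ∧ t ∈ NT T}
  have hj : Nat.card ↥D = j := by
    have := card_Dsub h hu huH
    have := h.card_invol
    change Nat.card ↥(Dsub T u) = Nat.card {t : G // orderOf t = 2 ∧ t ∈ NT T}
    omega
  set m := Fintype.card {z : Ω // z.1 ≠ base T} with hm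
  have hI : Nat.card I = m * Nat.card ↥D := by
    rw [Nat.card_congr eI, Nat.card_sigma, Finset.sum_congr rfl (fun z _ => card_swap h.se z.2),
      Finset.sum_const, Finset.card_univ, smul_eq_mul, hj]
  have hIC : Nat.card I ≤ Nat.card ↥C := by
    refine Nat.card_le_card_of_injective (fun i : I => (⟨u * i.1, fun d hd => ?_⟩ : ↥C))
      (fun a b e => Subtype.ext (mul_left_cancel (congrArg Subtype.val e)))
    have e : u * i.1 * d * (u * i.1)⁻¹ = d := by
      calc u * i.1 * d * (u * i.1)⁻¹ = u * (i.1 * d * i.1⁻¹) * u⁻¹ := by group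
        _ = u * d⁻¹ * u⁻¹ := by rw [i.2.2 d hd]
        _ = d := by rw [huinv d⁻¹ (inv_mem hd), inv_inv]
    exact (mul_inv_eq_iff_eq_mul.1 e).symm
  -- the centralizer has odd order
  have hCodd : Odd (Nat.card ↥C) := by
    rw [← Nat.not_even_iff_odd, even_iff_two_dvd]
    intro h2
    haveI : Fact (Nat.Prime 2) := ⟨Nat.prime_two⟩
    obtain ⟨⟨i, hiC⟩, hi⟩ := exists_prime_orderOf_dvd_card' 2 h2
    rw [Subgroup.orderOf_mk] at hi
    have := (h.cent i hi).2 d0 (Subgroup.mem_centralizer_singleton_iff.2 (hiC d0 hd0))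
    have ho := (h.se.2.2 u huH).of_dvd_nat (Subgroup.orderOf_dvd_natCard _ hd0)
    exact hd01 (orderOf_eq_one_iff.1 (Nat.eq_one_of_dvd_coprimes (Nat.coprime_two_right.2 ho) dvd_rfl
      (orderOf_dvd_of_pow_eq_one this)))
  letI : MulAction ↥C Ω :=
    { smul := fun c z => ⟨(c : G) • z.1, fun d hd => by
        rw [← mul_smul, c.2 d hd, mul_smul, z.2 d hd]⟩
      one_smul := fun z => Subtype.ext (one_smul G z.1)
      mul_smul := fun c c' z => Subtype.ext (mul_smul (c : G) c' z.1) }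
  have hstab : ∀ z : Ω, Nat.card (stabilizer (↥C) z) = Nat.card ↥D := by
    intro z
    have hDC : ∀ d ∈ D, d ∈ C := fun d hd e he => (Dsub_comm h hu huH he hd).eq
    have key : ∀ c : ↥C, c • z = z → (c : G) ∈ D := by
      intro c hc
      have hc' : (c : G) • z.1 = z.1 := congrArg Subtype.val hc
      by_cases hz : z.1 = base T
      · rw [hz, smul_mk_eq_mk_iff] at hc'
        exact mem_of_commute h hu huH hd0 hd01 hc' (c.2 d0 hd0).symm
      · haveI : Nonempty {i : G // orderOf i = 2 ∧ i • base T = z.1} := by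
          refine (Nat.card_pos_iff.1 ?_).1
          rw [card_swap h.se hz]
          exact lt_of_lt_of_eq Nat.card_pos hj
        obtain ⟨w, hw, hwz⟩ := Classical.arbitrary {i : G // orderOf i = 2 ∧ i • base T = z.1}
        have hwinv := hswap z hz w hw hwz
        have h1 : w⁻¹ * (c : G) * w ∈ NT T := by
          rw [← smul_mk_eq_mk_iff, mul_smul, mul_smul, hwz, hc', inv_smul_eq_iff, hwz]
        have h2 : Commute (w⁻¹ * (c : G) * w) d0 := by
          have hd' : w * d0 * w⁻¹ ∈ D := by rw [hwinv d0 hd0]; exact inv_mem hd0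
          have e := c.2 _ hd'
          rw [commute_iff_eq]
          calc w⁻¹ * (c : G) * w * d0 = w⁻¹ * ((c : G) * (w * d0 * w⁻¹)) * w := by group
            _ = w⁻¹ * ((w * d0 * w⁻¹) * (c : G)) * w := by rw [← e]
            _ = d0 * (w⁻¹ * (c : G) * w) := by group
        have h3 := mem_of_commute h hu huH hd0 hd01 h1 h2
        have h4 : w * (w⁻¹ * (c : G) * w) * w⁻¹ ∈ D := by rw [hwinv _ h3]; exact inv_mem h3
        convert h4 using 1
        group
    exact Nat.card_congr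
      { toFun := fun c => ⟨c.1.1, key c.1 c.2⟩
        invFun := fun d => ⟨⟨d.1, hDC d.1 d.2⟩, Subtype.ext (z.2 d.1 d.2)⟩
        left_inv := fun c => rfl
        right_inv := fun d => rfl }
  -- all orbits have the same size
  obtain ⟨r, hr, hrall⟩ : ∃ r, r * Nat.card ↥D = Nat.card ↥C ∧
      ∀ z : Ω, Nat.card (orbit (↥C) z) = r := by
    have e : ∀ z : Ω, Nat.card (orbit (↥C) z) * Nat.card ↥D = Nat.card ↥C := by
      intro z
      rw [← hstab z, ← Nat.card_prod, Nat.card_congr (orbitProdStabilizerEquivGroup (↥C) z)]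
    exact ⟨_, e a, fun z => Nat.eq_of_mul_eq_mul_right Nat.card_pos ((e z).trans (e a).symm)⟩
  have hdvd : r ∣ Nat.card Ω := by
    rw [Nat.card_congr (selfEquivSigmaOrbits (↥C) Ω), Nat.card_sigma]
    exact Finset.dvd_sum fun ω _ => (hrall _).symm ▸ dvd_rfl
  have hΩ : Nat.card Ω = m + 1 := by
    rw [Nat.card_eq_fintype_card, hm]
    have := Fintype.card_subtype_compl (fun z : Ω => z = a)
    rw [Fintype.card_subtype_eq] at this
    have e : Fintype.card {z : Ω // z.1 ≠ base T} = Fintype.card {z : Ω // ¬ z = a} :=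
      Fintype.card_congr (Equiv.subtypeEquivRight fun z => not_congr (Subtype.ext_iff (a1 := z) (a2 := a)).symm)
    have : 0 < Fintype.card Ω := Fintype.card_pos_iff.2 ⟨a⟩
    omega
  -- `u` has no fixed point on `Ω`
  have heven : 2 ∣ Nat.card Ω := by
    haveI : Fact (Nat.Prime 2) := ⟨Nat.prime_two⟩
    let σ : Equiv.Perm Ω := Function.Involutive.toPerm
      (fun z => (⟨u • z.1, hfix u hu huinv z⟩ : Ω))
      (fun z => Subtype.ext (by show u • u • z.1 = z.1; rw [← mul_smul, involution_mul_self hu, one_smul]))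
    by_contra h2
    obtain ⟨z, hz⟩ := Equiv.Perm.exists_fixed_point_of_prime (p := 2) (n := 1)
      (by rwa [← Nat.card_eq_fintype_card]) (σ := σ) (by
        rw [pow_one, pow_two]
        exact Equiv.ext fun z => Subtype.ext
          (by show u • u • z.1 = z.1; rw [← mul_smul, involution_mul_self hu, one_smul]))
    have hz' : u • z.1 = z.1 := congrArg Subtype.val hz
    by_cases hza : z.1 = base T
    · rw [hza] at hz'; exact ne_base h hu huH hz'
    · haveI : Nonempty {i : G // orderOf i = 2 ∧ i • base T = z.1} := by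
        refine (Nat.card_pos_iff.1 ?_).1
        rw [card_swap h.se hza]
        exact lt_of_lt_of_eq Nat.card_pos hj
      obtain ⟨w, hw, hwz⟩ := Classical.arbitrary {i : G // orderOf i = 2 ∧ i • base T = z.1}
      have hwinv := hswap z hza w hw hwz
      refine not_mem_of_inverts h hu huH (i := w⁻¹ * u * w⁻¹⁻¹) ((orderOf_conj_two _ u).trans hu) ?_ ?_
      · intro d hd
        have e1 : w * d * w⁻¹ = d⁻¹ := hwinv d hd
        have e2 : u * d⁻¹ * u⁻¹ = d := by rw [huinv _ (inv_mem hd), inv_inv]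
        have e3 : w⁻¹ * d * w = d⁻¹ := by
          rw [involution_inv hw] at e1 ⊢
          exact e1
        calc w⁻¹ * u * w⁻¹⁻¹ * d * (w⁻¹ * u * w⁻¹⁻¹)⁻¹
            = w⁻¹ * (u * (w * d * w⁻¹) * u⁻¹) * w := by group
          _ = d⁻¹ := by rw [e1, e2, e3]
      · rw [inv_inv, ← smul_mk_eq_mk_iff, mul_smul, mul_smul, hwz, hz', inv_smul_eq_iff, hwz]
  have hm1 : 1 ≤ m := Fintype.card_pos_iff.2 ⟨⟨⟨u • base T, hfix u hu huinv a⟩, ne_base h hu huH⟩⟩
  have hrm : m ≤ r := by
    have h5 := hIC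
    rw [hI, ← hr] at h5
    exact Nat.le_of_mul_le_mul_right h5 Nat.card_pos
  have hrodd : Odd r := by
    rw [← hr] at hCodd
    exact (Nat.odd_mul.1 hCodd).1
  have hm_eq : m = 1 := by
    rw [hΩ] at hdvd heven
    obtain ⟨k, hk⟩ := hdvd
    rcases k with _ | _ | k
    · omega
    · obtain ⟨l, hl⟩ := hrodd; obtain ⟨l', hl'⟩ := heven; omega
    · nlinarith
  by_contra hne
  push Not at hne
  have : 1 < m := Fintype.one_lt_card_iff.2 ⟨⟨⟨u • base T, hfix u hu huinv a⟩, ne_base h hu huH⟩,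
    ⟨⟨y, hy⟩, hne.1⟩, fun e => hne.2 (congrArg (fun z : {z : Ω // z.1 ≠ base T} => z.1.1) e).symm⟩
  omega

theorem normalizer_Dsub : normalizer ((Dsub T u : Subgroup G) : Set G) = Dsub T u ⊔ zpowers u := by
  refine le_antisymm ?_ (sup_le le_normalizer (zpowers_le.2 ?_))
  · intro g hg
    have key : ∀ x ∈ normalizer ((Dsub T u : Subgroup G) : Set G), x ∈ NT T → x ∈ Dsub T u := by
      intro x hx hxH
      obtain ⟨e, he, t, ht, rfl⟩ := exists_decomp h hu huH hxH
      by_cases ht1 : t = 1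
      · rw [ht1, mul_one]; exact he
      · exfalso
        obtain ⟨d, hd, hd1⟩ := exists_ne_one h hu huH
        have htN : t ∈ normalizer ((Dsub T u : Subgroup G) : Set G) := by
          have := mul_mem (inv_mem (le_normalizer he)) hx
          rwa [inv_mul_cancel_left] at this
        have h1 : t * (d * t⁻¹ * d⁻¹) ∈ T := mul_mem ht ((mem_normalizer_iff.1 hd.1 _).1 (inv_mem ht))
        have h2 : t * (d * t⁻¹ * d⁻¹) ∈ Dsub T u := by
          rw [show t * (d * t⁻¹ * d⁻¹) = (t * d * t⁻¹) * d⁻¹ by group]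
          exact mul_mem ((mem_normalizer_iff.1 htN d).1 hd) (inv_mem hd)
        have h3 := eq_one_of_mem_inter h hu huH h1 h2
        have h4 : Commute d t := by
          rw [show t * (d * t⁻¹ * d⁻¹) = (t * d) * (d * t)⁻¹ by group, mul_inv_eq_one] at h3
          exact h3.symm
        exact hd1 (eq_one_of_mem_inter h hu huH (h.mem_T_of_commute ht ht1 h4) hd)
    rcases fixed_points h hu huH (y := g • base T) (fun d hd => by
        have h5 : g⁻¹ * d * g ∈ Dsub T u := (mem_normalizer_iff''.1 hg d).1 hd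
        have := ((mem_Dsub hu).1 h5).1
        rw [mul_smul, mul_smul, inv_smul_eq_iff] at this
        exact this) with e | e
    · exact mem_sup_left (key g hg ((smul_mk_eq_mk_iff g).1 e))
    · have h6 : u * g ∈ NT T := by
        rw [← smul_mk_eq_mk_iff, mul_smul, e, ← mul_smul, involution_mul_self hu, one_smul]
      have h7 : u ∈ normalizer ((Dsub T u : Subgroup G) : Set G) := by
        rw [mem_normalizer_iff]
        intro d
        refine ⟨fun hd => by rw [inverts h hu huH hd]; exact inv_mem hd, fun hd => ?_⟩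
        have := inverts h hu huH hd
        rw [show d = u⁻¹ * (u * d * u⁻¹) * u by group, involution_inv hu]
        rw [involution_inv hu] at this hd
        rw [this]; exact inv_mem hd
      have h8 := key (u * g) (mul_mem h7 hg) h6
      rw [show g = u * (u * g) by rw [← mul_assoc, involution_mul_self hu, one_mul]]
      exact mul_mem (mem_sup_right (mem_zpowers u)) (mem_sup_left h8)
  · rw [mem_normalizer_iff]
    intro d
    refine ⟨fun hd => by rw [inverts h hu huH hd]; exact inv_mem hd, fun hd => ?_⟩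
    have := inverts h hu huH hd
    rw [show d = u⁻¹ * (u * d * u⁻¹) * u by group, involution_inv hu]
    rw [involution_inv hu] at this hd
    rw [this]; exact inv_mem hd

end u

theorem exists_swap (h : Hyp T) {y : G ⧸ NT T} (hy : y ≠ base T) :
    ∃ w : G, orderOf w = 2 ∧ w ∉ NT T ∧ w • base T = y := by
  obtain ⟨z, hz, hzH⟩ := exists_involution_mem h.se
  haveI : Nonempty {t : G // orderOf t = 2 ∧ t ∈ NT T} := ⟨⟨z, hz, hzH⟩⟩
  have hpos : 0 < Nat.card {i : G // orderOf i = 2 ∧ i • base T = y} := by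
    rw [card_swap h.se hy]; exact Nat.card_pos
  obtain ⟨⟨w, hw, hwy⟩⟩ := (Nat.card_pos_iff.1 hpos).1
  exact ⟨w, hw, fun e => hy (hwy.symm.trans ((smul_mk_eq_mk_iff w).2 e)), hwy⟩

theorem T_free (h : Hyp T) {y : G ⧸ NT T} (hy : y ≠ base T) {t : G} (ht : t ∈ T) (hty : t • y = y) :
    t = 1 := by
  obtain ⟨w, hw, hwH, hwy⟩ := exists_swap h hy
  exact eq_one_of_mem_inter h hw hwH ht
    ((mem_Dsub hw).2 ⟨(smul_mk_eq_mk_iff t).2 (le_normalizer ht), by rw [hwy]; exact hty⟩)

theorem card_points (h : Hyp T) : Nat.card {y : G ⧸ NT T // y ≠ base T} ≤ Nat.card ↥(T : Subgroup G) := by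
  classical
  haveI : Fintype G := Fintype.ofFinite G
  haveI : Fintype (G ⧸ NT T) := Fintype.ofFinite _
  choose w hw hwH hwy using fun y : {y : G ⧸ NT T // y ≠ base T} => exists_swap h y.2
  obtain ⟨v, hv, hvH⟩ := exists_involution_notMem h.se
  -- pairs (point, nontrivial element fixing it) inject into `NT T` minus `T`
  let f : (Σ y : {y : G ⧸ NT T // y ≠ base T}, {d : ↥(Dsub T (w y)) // d ≠ 1}) →
      {x : ↥(NT T) // (x : G) ∉ T} :=
    fun p => ⟨⟨(p.2.1 : G), p.2.1.2.1⟩, fun hT => p.2.2 (Subtype.ext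
      (eq_one_of_mem_inter h (hw p.1) (hwH p.1) hT p.2.1.2))⟩
  have hf : Function.Injective f := by
    rintro ⟨y, ⟨d, hd⟩, hd1⟩ ⟨y', ⟨d', hd'⟩, hd1'⟩ e
    have e' : d = d' := congrArg (fun x => ((x.1 : ↥(NT T)) : G)) e
    subst e'
    have hne : d ≠ 1 := fun e => hd1 (Subtype.ext e)
    have heq := Dsub_eq h (hw y) (hwH y) (hw y') (hwH y') hd hne hd'
    have hyy : y' = y := by
      rcases fixed_points h (hw y) (hwH y) (y := y'.1) (fun x hx => by
        rw [← heq, mem_Dsub (hw y'), hwy y'] at hx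
        exact hx.2) with e1 | e1
      · exact absurd e1 y'.2
      · exact Subtype.ext (e1.trans (hwy y))
    subst hyy
    rfl
  have hcard := Nat.card_le_card_of_injective f hf
  have h1 : ∀ y, Nat.card {d : ↥(Dsub T (w y)) // d ≠ 1} = Nat.card ↥(T : Subgroup G) - 2 := by
    intro y
    have := card_Dsub h (hw y) (hwH y)
    rw [Nat.card_eq_fintype_card, Fintype.card_subtype_compl, Fintype.card_subtype_eq, ← Nat.card_eq_fintype_card]
    omega
  rw [Nat.card_sigma, Finset.sum_congr rfl (fun y _ => h1 y), Finset.sum_const, Finset.card_univ, smul_eq_mul,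
    ← Nat.card_eq_fintype_card] at hcard
  have h2 : Nat.card {x : ↥(NT T) // (x : G) ∉ T} = Nat.card ↥(T : Subgroup G) * (Nat.card ↥(T : Subgroup G) - 1) - Nat.card ↥(T : Subgroup G) := by
    rw [Nat.card_eq_fintype_card, Fintype.card_subtype_compl, ← Nat.card_eq_fintype_card,
      ← Nat.card_eq_fintype_card, card_NT h hv hvH]
    congr 1
    exact Nat.card_congr (subgroupOfEquivOfLe (le_normalizer (H := (T : Subgroup G)))).toEquiv
  rw [h2] at hcard
  have h4 := h.four_le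
  obtain ⟨k, hk⟩ : ∃ k, Nat.card ↥(T : Subgroup G) = k + 4 := ⟨Nat.card ↥(T : Subgroup G) - 4, by omega⟩
  rw [hk] at hcard ⊢
  simp only [show k + 4 - 2 = k + 2 from rfl, show k + 4 - 1 = k + 3 from rfl] at hcard
  have e : (k + 4) * (k + 3) - (k + 4) = (k + 4) * (k + 2) := by
    rw [show (k + 4) * (k + 3) = (k + 4) * (k + 2) + (k + 4) by ring, Nat.add_sub_cancel]
  rw [e] at hcard
  exact Nat.le_of_mul_le_mul_right hcard (by omega)

theorem T_regular (h : Hyp T) {x y : G ⧸ NT T} (hx : x ≠ base T) (hy : y ≠ base T) :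
    ∃! t : G, t ∈ T ∧ t • x = y := by
  have hne : ∀ t : ↥(T : Subgroup G), (t : G) • x ≠ base T := by
    intro t e
    apply hx
    rw [← inv_smul_smul (t : G) x, e, inv_smul_eq_iff, (smul_mk_eq_mk_iff (t : G)).2 (le_normalizer t.2)]
  let f : ↥(T : Subgroup G) → {y : G ⧸ NT T // y ≠ base T} := fun t => ⟨(t : G) • x, hne t⟩
  have hinj : Function.Injective f := by
    intro a b e
    have e' : (a : G) • x = (b : G) • x := congrArg Subtype.val e
    have := T_free h hx (mul_mem (inv_mem b.2) a.2) (by rw [mul_smul, e', inv_smul_smul])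
    exact Subtype.ext (inv_mul_eq_one.1 this).symm
  obtain ⟨t, ht⟩ := (hinj.bijective_of_nat_card_le (card_points h)).2 ⟨y, hy⟩
  refine ⟨t, ⟨t.2, congrArg Subtype.val ht⟩, fun s hs => ?_⟩
  exact congrArg Subtype.val (hinj (a₁ := ⟨s, hs.1⟩) (a₂ := t)
    (Subtype.ext (hs.2.trans (congrArg Subtype.val ht).symm)))

theorem to_base (h : Hyp T) {u : G} (hu : orderOf u = 2) (huH : u ∉ NT T) (x₁ x₂ : G ⧸ NT T) (hne : x₁ ≠ x₂) :
    ∃ g : G, g • x₁ = base T ∧ g • x₂ = u • base T := by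
  obtain ⟨g, rfl⟩ := QuotientGroup.mk_surjective x₁
  have h1 : g⁻¹ • (QuotientGroup.mk g : G ⧸ NT T) = base T := by
    rw [MulAction.Quotient.smul_mk, smul_eq_mul, inv_mul_cancel]
  have h2 : g⁻¹ • x₂ ≠ base T := fun e => hne (smul_left_cancel g⁻¹ (h1.trans e.symm))
  obtain ⟨t, ⟨ht, hte⟩, -⟩ := T_regular h h2 (ne_base h hu huH)
  refine ⟨t * g⁻¹, ?_, by rw [mul_smul, hte]⟩
  rw [mul_smul, h1, (smul_mk_eq_mk_iff t).2 (le_normalizer ht)]

theorem sharp (h : Hyp T) {g : G} {x₁ x₂ x₃ : G ⧸ NT T} (h12 : x₁ ≠ x₂) (h13 : x₁ ≠ x₃) (h23 : x₂ ≠ x₃)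
    (e1 : g • x₁ = x₁) (e2 : g • x₂ = x₂) (e3 : g • x₃ = x₃) : g = 1 := by
  obtain ⟨u, hu, huH⟩ := exists_involution_notMem h.se
  obtain ⟨c, hc1, hc2⟩ := to_base h hu huH x₁ x₂ h12
  set d := c * g * c⁻¹ with hd
  have hfix : ∀ x : G ⧸ NT T, g • x = x → d • (c • x) = c • x := fun x hx => by
    rw [hd, mul_smul, mul_smul, inv_smul_smul, hx]
  have hdD : d ∈ Dsub T u := (mem_Dsub hu).2 ⟨hc1 ▸ hfix x₁ e1, hc2 ▸ hfix x₂ e2⟩
  by_contra hg
  have hd1 : d ≠ 1 := fun e => hg (conj_eq_one_iff.1 e)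
  have h3a : c • x₃ ≠ base T := fun e => h13 (smul_left_cancel c (hc1.trans e.symm))
  have h3b : c • x₃ ≠ u • base T := fun e => h23 (smul_left_cancel c (hc2.trans e.symm))
  obtain ⟨w, hw, hwH, hwy⟩ := exists_swap h h3a
  have hdw : d ∈ Dsub T w := (mem_Dsub hw).2 ⟨((mem_Dsub hu).1 hdD).1, by rw [hwy]; exact hfix x₃ e3⟩
  have heq := Dsub_eq h hu huH hw hwH hdD hd1 hdw
  rcases fixed_points h hu huH (y := c • x₃) (fun x hx => by
    rw [← heq, mem_Dsub hw, hwy] at hx
    exact hx.2) with e | e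
  · exact h3a e
  · exact h3b e

theorem triply (h : Hyp T) {x₁ x₂ x₃ y₁ y₂ y₃ : G ⧸ NT T} (h12 : x₁ ≠ x₂) (h13 : x₁ ≠ x₃) (h23 : x₂ ≠ x₃)
    (k12 : y₁ ≠ y₂) (k13 : y₁ ≠ y₃) (k23 : y₂ ≠ y₃) :
    ∃ g : G, g • x₁ = y₁ ∧ g • x₂ = y₂ ∧ g • x₃ = y₃ := by
  classical
  haveI : Fintype (G ⧸ NT T) := Fintype.ofFinite _
  obtain ⟨u, hu, huH⟩ := exists_involution_notMem h.se
  obtain ⟨c, hc1, hc2⟩ := to_base h hu huH x₁ x₂ h12
  obtain ⟨b, hb1, hb2⟩ := to_base h hu huH y₁ y₂ k12
  let P := {y : G ⧸ NT T // y ≠ base T ∧ y ≠ u • base T}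
  let z : P := ⟨c • x₃, fun e => h13 (smul_left_cancel c (hc1.trans e.symm)),
    fun e => h23 (smul_left_cancel c (hc2.trans e.symm))⟩
  have hmem : ∀ d : ↥(Dsub T u), (d : G) • z.1 ≠ base T ∧ (d : G) • z.1 ≠ u • base T := fun d =>
    ⟨fun e => z.2.1 (smul_left_cancel (d : G) (e.trans ((mem_Dsub hu).1 d.2).1.symm)),
      fun e => z.2.2 (smul_left_cancel (d : G) (e.trans ((mem_Dsub hu).1 d.2).2.symm))⟩
  let f : ↥(Dsub T u) → P := fun d => ⟨(d : G) • z.1, hmem d⟩
  have hinj : Function.Injective f := by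
    intro d d' e
    have e' : (d : G) • z.1 = (d' : G) • z.1 := congrArg Subtype.val e
    have hD := (mem_Dsub hu).1 (mul_mem (inv_mem d'.2) d.2)
    have := sharp h (g := (d' : G)⁻¹ * d) (x₁ := base T) (x₂ := u • base T) (x₃ := z.1)
      (fun e => ne_base h hu huH e.symm) (fun e => z.2.1 e.symm) (fun e => z.2.2 e.symm) hD.1 hD.2
      (by rw [mul_smul, e', inv_smul_smul])
    exact Subtype.ext (inv_mul_eq_one.1 this).symm
  have hcard : Nat.card P ≤ Nat.card ↥(Dsub T u) := by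
    have h1 := card_points h
    have h2 := card_Dsub h hu huH
    have : Nat.card P + 1 ≤ Nat.card {y : G ⧸ NT T // y ≠ base T} := by
      rw [← Finite.card_option]
      refine Nat.card_le_card_of_injective
        (fun o : Option P => o.elim ⟨u • base T, ne_base h hu huH⟩ fun p => ⟨p.1, p.2.1⟩) ?_
      rintro (_ | p) (_ | p') e
      · rfl
      · exact absurd (congrArg Subtype.val e).symm p'.2.2
      · exact absurd (congrArg Subtype.val e) p.2.2
      · exact congrArg some (Subtype.ext (congrArg (fun q : {y : G ⧸ NT T // y ≠ base T} => q.1) e))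
    omega
  obtain ⟨d, hd⟩ := (hinj.bijective_of_nat_card_le hcard).2 ⟨b • y₃,
    fun e => k13 (smul_left_cancel b (hb1.trans e.symm)), fun e => k23 (smul_left_cancel b (hb2.trans e.symm))⟩
  have hd' : (d : G) • c • x₃ = b • y₃ := congrArg Subtype.val hd
  refine ⟨b⁻¹ * d * c, ?_, ?_, ?_⟩
  · rw [mul_smul, mul_smul, hc1, ((mem_Dsub hu).1 d.2).1, ← hb1, inv_smul_smul]
  · rw [mul_smul, mul_smul, hc2, ((mem_Dsub hu).1 d.2).2, ← hb2, inv_smul_smul]
  · rw [mul_smul, mul_smul, hd', inv_smul_smul]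

end Cfsg.Agent.Inv.EACentralizer
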