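import Cfsg.Agent.Lib.Inv.RankOne
import Cfsg.Agent.Lib.Char.Generalized
import Cfsg.Agent.Lib.Char.Linear
import Cfsg.Agent.Lib.Block.Omega

/-!
# Exceptional characters for groups of 2-rank one
-/

set_option autoImplicit false

open Cfsg Cfsg.Agent.Char Finset
open scoped ComplexConjugate

namespace Cfsg.Agent.Inv

open Cfsg.Agent.Block

universe u

variable {G : Type u} [Group G]

/-- The trivial character as an element of `IrrCharacter`. -/
noncomputable def trivChar (G : Type u) [Group G] [Finite G] : IrrCharacter G :=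
  ⟨fun _ => 1, isIrrCharacter_one⟩

@[simp] theorem trivChar_apply [Finite G] (g : G) : (trivChar G : G → ℂ) g = 1 := rfl

theorem TwoRankOne.odd_orderOf_mul [Finite G] (h : TwoRankOne G) {s t : G} (hs : orderOf s = 2)
    (ht : orderOf t = 2) : Odd (orderOf (s * t)) := by
  by_contra hn
  obtain ⟨h2, hc1, hc2⟩ := S0209.result s t hs ht (Nat.not_odd_iff_even.1 hn)
  have e : s = t := (h _ s h2 hs hc1).symm.trans (h _ t h2 ht hc2)
  rw [e, mul_self_of_orderOf_two ht, orderOf_one] at hn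
  exact hn odd_one

theorem sum_coeff_mul_generalized [Fintype G] [Fintype (IrrCharacter G)] {Φ : G → ℂ}
    (hΦ : IsGeneralizedCharacter G Φ) (a : MonoidAlgebra ℂ G) :
    ∑ χ : IrrCharacter G, classInner Φ (χ : G → ℂ) *
      ((χ : G → ℂ) 1 * omega (χ : G → ℂ) a) = ∑ g, a.coeff g * Φ g := by
  conv_rhs => rw [IsClassFunction.eq_sum (IsGeneralizedCharacter.isClassFunction hΦ)]
  simp only [Finset.sum_apply, Pi.smul_apply, smul_eq_mul, Finset.mul_sum]
  rw [Finset.sum_comm]
  refine Finset.sum_congr rfl fun χ _ => ?_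
  rw [omega_eq_sum, mul_div_cancel₀ _ (IsIrrCharacter.apply_one_ne_zero χ.2), Finset.mul_sum]
  exact Finset.sum_congr rfl fun g _ => by ring

/-- The quadratic identity: products of two involutions have odd order. -/
theorem key_identity [Fintype G] [Fintype (IrrCharacter G)] (h : TwoRankOne G) {z : G}
    (hz : orderOf z = 2) {Φ : G → ℂ} (hΦ : IsGeneralizedCharacter G Φ)
    (hodd : ∀ g, Odd (orderOf g) → Φ g = 0) :
    ∑ χ : IrrCharacter G, classInner Φ (χ : G → ℂ) * ((χ : G → ℂ) z ^ 2 / (χ : G → ℂ) 1) = 0 := by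
  classical
  have h0 : ∀ g, (classSum z * classSum z).coeff g * Φ g = 0 := by
    intro g
    rcases eq_or_ne (Φ g) 0 with h1 | h1
    · rw [h1, mul_zero]
    have hne : ¬ Odd (orderOf g) := fun ho => h1 (hodd g ho)
    rw [MonoidAlgebra.coeff_mul_apply_left, Finsupp.sum_fintype _ _ (by simp),
      Finset.sum_eq_zero, zero_mul]
    intro x _
    simp only [classSum, coeff_mkA]
    by_cases hx : IsConj z x
    · by_cases hy : IsConj z (x⁻¹ * g)
      · exfalso
        obtain ⟨c, rfl⟩ := isConj_iff.1 hx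
        obtain ⟨d, hd⟩ := isConj_iff.1 hy
        have := h.odd_orderOf_mul ((orderOf_conj c z).trans hz)
          (show orderOf ((c * z * c⁻¹)⁻¹ * g) = 2 by rw [← hd]; exact (orderOf_conj d z).trans hz)
        rw [mul_inv_cancel_left] at this
        exact hne this
      · rw [if_neg hy, mul_zero]
    · rw [if_neg hx, zero_mul]
  have hs := sum_coeff_mul_generalized hΦ (classSum z * classSum z)
  rw [Finset.sum_eq_zero fun g _ => h0 g] at hs
  set n : ℂ := ((Subgroup.centralizer ({z} : Set G)).index : ℂ) with hn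
  have hn0 : n ^ 2 ≠ 0 := pow_ne_zero 2 (Nat.cast_ne_zero.2 Subgroup.index_ne_zero_of_finite)
  refine (mul_eq_zero.1 (?_ : n ^ 2 * _ = 0)).resolve_left hn0
  rw [← hs, Finset.mul_sum]
  refine Finset.sum_congr rfl fun χ _ => ?_
  have h1 := IsIrrCharacter.apply_one_ne_zero χ.2
  rw [omega_mul χ (isCentralElt_classSum z) (isCentralElt_classSum z), omega_classSum, centralChar,
    ← hn]
  field_simp

/-- Character values at involutions are real. -/
theorem conj_apply_involution [Finite G] (χ : IrrCharacter G) {z : G} (hz : orderOf z = 2) :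
    conj ((χ : G → ℂ) z) = (χ : G → ℂ) z := by
  rw [← IsCharacter.map_inv (IsIrrCharacter.isCharacter χ.2), inv_eq_self_of_orderOf_two hz]

theorem apply_one_re [Finite G] (χ : IrrCharacter G) :
    ((((χ : G → ℂ) 1).re : ℝ) : ℂ) = (χ : G → ℂ) 1 ∧ 1 ≤ ((χ : G → ℂ) 1).re := by
  obtain ⟨n, hn, hne⟩ := IsIrrCharacter.degree_pos χ.2
  rw [hne]
  exact ⟨by simp, by simp only [Complex.natCast_re]; exact_mod_cast hn⟩

/-- In a simple group a noncentral involution is not in the centre of a nontrivial character. -/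
theorem norm_apply_lt [Finite G] [IsSimpleGroup G] {χ : IrrCharacter G} (hne : χ ≠ trivChar G)
    {z : G} (hz : z ∉ Subgroup.center G) : ‖(χ : G → ℂ) z‖ < ((χ : G → ℂ) 1).re := by
  obtain ⟨n, ρ, hρ, hχ⟩ := χ.2
  haveI := hρ
  rw [← hχ, ρ.char_one, Complex.natCast_re]
  refine lt_of_le_of_ne (norm_character_le ρ z) fun heq => ?_
  rcases (MonoidHom.normal_ker ρ).eq_bot_or_eq_top with hb | ht
  · have hinj : Function.Injective ρ := by
      intro a b hab
      have : a⁻¹ * b ∈ MonoidHom.ker ρ := by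
        rw [MonoidHom.mem_ker, map_mul, ← hab, ← map_mul, inv_mul_cancel, map_one]
      rw [hb, Subgroup.mem_bot] at this
      exact inv_mul_eq_one.1 this
    obtain ⟨ω, hω⟩ := (norm_character_eq_iff ρ z).1 heq
    exact hz (Subgroup.mem_center_iff.2 fun g => (comm_of_rep_eq_smul ρ hω hinj g).symm)
  · haveI := Fintype.ofFinite G
    refine hne (Subtype.ext ?_)
    by_contra hne'
    have h0 := IsIrrCharacter.classInner_eq_zero χ.2 (trivChar G).2 hne'
    rw [classInner, mul_eq_zero, inv_eq_zero] at h0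
    have h1 : ∀ g, (χ : G → ℂ) g = (χ : G → ℂ) 1 := fun g => by
      have hg : ρ g = 1 := by
        have : g ∈ MonoidHom.ker ρ := ht ▸ Subgroup.mem_top g
        exact this
      rw [← hχ]
      simp [Representation.character, hg]
    rcases h0 with h0 | h0
    · exact Nat.card_pos.ne' (Nat.cast_eq_zero.1 h0)
    · simp only [trivChar_apply, map_one, mul_one, h1, Finset.sum_const, Finset.card_univ,
        nsmul_eq_mul, mul_eq_zero, Nat.cast_eq_zero] at h0
      exact h0.elim Fintype.card_ne_zero (IsIrrCharacter.apply_one_ne_zero χ.2)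

/-- Decomposition of a generalized character of small norm with trivial component `1`. -/
theorem exists_signed_support [Fintype G] [Fintype (IrrCharacter G)] [DecidableEq (IrrCharacter G)]
    {Φ : G → ℂ} (hΦ : IsGeneralizedCharacter G Φ) {n : ℕ} (hn : n ≤ 3)
    (h1 : classInner Φ (trivChar G : G → ℂ) = 1) (hnorm : classInner Φ Φ = ((n + 1 : ℕ) : ℂ)) :
    ∃ (S : Finset (IrrCharacter G)) (e : IrrCharacter G → ℤ), trivChar G ∉ S ∧ S.card = n ∧
      (∀ χ ∈ S, e χ = 1 ∨ e χ = -1) ∧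
      (∀ χ : IrrCharacter G, classInner Φ (χ : G → ℂ) = e χ) ∧
      ∀ f : IrrCharacter G → ℂ, ∑ χ : IrrCharacter G, classInner Φ (χ : G → ℂ) * f χ =
        f (trivChar G) + ∑ χ ∈ S, (e χ : ℂ) * f χ := by
  obtain ⟨e, -, he⟩ := IsGeneralizedCharacter.exists_intCoeff hΦ
  rw [IsGeneralizedCharacter.classInner_self_eq_sum_sq hΦ e he] at hnorm
  have hn' : ∑ χ, e χ ^ 2 = ((n + 1 : ℕ) : ℤ) := by exact_mod_cast hnorm
  have he1 : e (trivChar G) = 1 := by exact_mod_cast (he _).symm.trans h1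
  set S := (Finset.univ.erase (trivChar G)).filter fun χ => e χ ≠ 0 with hS
  have hsum : ∑ χ ∈ S, e χ ^ 2 = n := by
    rw [hS, Finset.sum_filter_of_ne (p := fun χ => e χ ≠ 0) (fun χ _ hne h0 => hne (by simp [h0]))]
    rw [← Finset.add_sum_erase _ _ (Finset.mem_univ (trivChar G)), he1] at hn'
    push_cast at hn'
    linarith
  have hpm : ∀ χ ∈ S, e χ = 1 ∨ e χ = -1 := by
    intro χ hχ
    have hle : e χ ^ 2 ≤ 3 := (Finset.single_le_sum (fun k _ => sq_nonneg (e k)) hχ).trans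
      (by rw [hsum]; exact_mod_cast hn)
    have h0 : e χ ≠ 0 := (Finset.mem_filter.1 hχ).2
    have h2 : -2 < e χ ∧ e χ < 2 := ⟨by nlinarith, by nlinarith⟩
    omega
  refine ⟨S, e, by simp [hS], ?_, hpm, he, fun f => ?_⟩
  · have : ∑ χ ∈ S, e χ ^ 2 = ∑ χ ∈ S, (1 : ℤ) := Finset.sum_congr rfl fun χ hχ => by
      rcases hpm χ hχ with h | h <;> simp [h]
    rw [hsum, Finset.sum_const, nsmul_eq_mul, mul_one] at this
    exact_mod_cast this.symm
  · rw [← Finset.add_sum_erase _ _ (Finset.mem_univ (trivChar G)), h1, one_mul, hS,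
      Finset.sum_filter_of_ne (p := fun χ => e χ ≠ 0) (fun χ _ hne h0 => hne (by simp [h0]))]
    simp only [he]

/-! ## Linear characters on the centraliser of `x` -/

theorem conj_units_eq_inv [Finite G] (l : G →* ℂˣ) (g : G) :
    conj (l g : ℂ) = ((l g)⁻¹ : ℂˣ) := by
  have h : ((l g : ℂ)) ^ orderOf g = 1 := by
    rw [← Units.val_pow_eq_pow_val, ← map_pow, pow_orderOf_eq_one, map_one, Units.val_one]
  rw [Units.val_inv_eq_inv_val,
    Complex.inv_eq_conj (Complex.norm_eq_one_of_pow_eq_one h (orderOf_pos g).ne')]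

theorem sum_units_hom_eq_zero [Fintype G] {l : G →* ℂˣ} (hl : l ≠ 1) :
    ∑ g, (l g : ℂ) = 0 := by
  obtain ⟨a, ha⟩ : ∃ a, l a ≠ 1 := by
    by_contra! hall
    exact hl (MonoidHom.ext fun g => by simpa using hall g)
  have hsum : (l a : ℂ) * ∑ g, (l g : ℂ) = ∑ g, (l g : ℂ) := by
    rw [Finset.mul_sum]
    exact Fintype.sum_equiv (Equiv.mulLeft a) _ _ fun g => by simp
  by_contra h0
  exact ha (Units.ext (by simpa using mul_right_cancel₀ h0 (hsum.trans (one_mul _).symm)))

namespace CycData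

variable [Fintype G] (D : CycData G)

/-- `1 - λ`. -/
noncomputable def theta (lam : Subgroup.centralizer ({D.x} : Set G) →* ℂˣ) :
    Subgroup.centralizer ({D.x} : Set G) → ℂ := fun c => 1 - (lam c : ℂ)

theorem isGeneralized_theta (lam : Subgroup.centralizer ({D.x} : Set G) →* ℂˣ) :
    IsGeneralizedCharacter (Subgroup.centralizer ({D.x} : Set G)) (D.theta lam) :=
  isGeneralizedCharacter_sub isGeneralizedCharacter_one
    (IsIrrCharacter.isGeneralized (isIrrCharacter_monoidHom lam))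

variable {lam : Subgroup.centralizer ({D.x} : Set G) →* ℂˣ}

omit [Fintype G] in
theorem theta_eq_zero
    (hlam : ∀ c : Subgroup.centralizer ({D.x} : Set G), ¬ 4 ∣ orderOf (c : G) → lam c = 1)
    {c : Subgroup.centralizer ({D.x} : Set G)} (hc : ¬ 4 ∣ orderOf (c : G)) :
    D.theta lam c = 0 := by
  simp [theta, hlam c hc]

theorem indFun_theta_eq_zero
    (hlam : ∀ c : Subgroup.centralizer ({D.x} : Set G), ¬ 4 ∣ orderOf (c : G) → lam c = 1)
    {g : G} (hg : ¬ 4 ∣ orderOf g) :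
    indFun (Subgroup.centralizer ({D.x} : Set G)) (D.theta lam) g = 0 := by
  rw [indFun_apply, Finset.sum_eq_zero, mul_zero]
  intro t _
  by_cases hm : t⁻¹ * g * t ∈ Subgroup.centralizer ({D.x} : Set G)
  · rw [extendByZero_of_mem _ _ hm]
    refine D.theta_eq_zero hlam ?_
    rwa [show ((⟨t⁻¹ * g * t, hm⟩ : Subgroup.centralizer ({D.x} : Set G)) : G) =
      t⁻¹ * g * (t⁻¹)⁻¹ by rw [inv_inv], orderOf_conj]
  · exact extendByZero_of_notMem _ _ hm

theorem indFun_theta_coe (h : TwoRankOne G)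
    (hlam : ∀ c : Subgroup.centralizer ({D.x} : Set G), ¬ 4 ∣ orderOf (c : G) → lam c = 1)
    (hy : ∀ c : Subgroup.centralizer ({D.x} : Set G),
      lam ⟨D.y * (c : G) * D.y⁻¹, D.conj_mem c.2⟩ = (lam c)⁻¹)
    (c : Subgroup.centralizer ({D.x} : Set G)) :
    indFun (Subgroup.centralizer ({D.x} : Set G)) (D.theta lam) (c : G) =
      2 - (lam c : ℂ) - ((lam c)⁻¹ : ℂˣ) := by
  classical
  by_cases h4 : 4 ∣ orderOf (c : G)
  swap
  · rw [indFun_theta_eq_zero D hlam h4, hlam c h4]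
    norm_num
  have hyC : D.y ∉ (Subgroup.centralizer ({D.x} : Set G)) := fun hm => D.y_not_commute (Subgroup.mem_centralizer_singleton_iff.1 hm)
  have hxc : D.x ∈ Subgroup.zpowers (c : G) :=
    h.mem_zpowers_of_four_dvd D.orderOf_x (Subgroup.mem_centralizer_singleton_iff.1 c.2) h4
  have hconjc : ∀ (u v : (Subgroup.centralizer ({D.x} : Set G))), lam (u * v * u⁻¹) = lam v := fun u v => by
    rw [map_mul, map_mul, map_inv, mul_comm (lam u), mul_inv_cancel_right]
  have hterm : ∀ t : G, extendByZero (Subgroup.centralizer ({D.x} : Set G)) (D.theta lam) (t⁻¹ * (c : G) * t) =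
      (if t ∈ (Subgroup.centralizer ({D.x} : Set G)) then 1 - (lam c : ℂ) else 0) +
        if D.y * t ∈ (Subgroup.centralizer ({D.x} : Set G)) then 1 - (((lam c)⁻¹ : ℂˣ) : ℂ) else 0 := by
    intro t
    by_cases ht : t ∈ (Subgroup.centralizer ({D.x} : Set G))
    · have hyt : D.y * t ∉ (Subgroup.centralizer ({D.x} : Set G)) := fun hm => hyC (by simpa using (Subgroup.centralizer ({D.x} : Set G)).mul_mem hm ((Subgroup.centralizer ({D.x} : Set G)).inv_mem ht))
      rw [if_pos ht, if_neg hyt, add_zero,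
        show t⁻¹ * (c : G) * t = (((⟨t, ht⟩ : (Subgroup.centralizer ({D.x} : Set G)))⁻¹ * c * ((⟨t, ht⟩ : (Subgroup.centralizer ({D.x} : Set G)))⁻¹)⁻¹ : (Subgroup.centralizer ({D.x} : Set G))) : G) by simp,
        extendByZero_coe, theta, hconjc]
    rw [if_neg ht, zero_add]
    by_cases hyt : D.y * t ∈ (Subgroup.centralizer ({D.x} : Set G))
    · rw [if_pos hyt, ← hy c,
        show t⁻¹ * (c : G) * t = (((⟨D.y * t, hyt⟩ : (Subgroup.centralizer ({D.x} : Set G)))⁻¹ * ⟨D.y * (c : G) * D.y⁻¹, D.conj_mem c.2⟩ *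
          ((⟨D.y * t, hyt⟩ : (Subgroup.centralizer ({D.x} : Set G)))⁻¹)⁻¹ : (Subgroup.centralizer ({D.x} : Set G))) : G) by simp; group,
        extendByZero_coe, theta, hconjc]
    · rw [if_neg hyt]
      by_cases hm : t⁻¹ * (c : G) * t ∈ (Subgroup.centralizer ({D.x} : Set G))
      swap
      · exact extendByZero_of_notMem _ _ hm
      rw [extendByZero_of_mem _ _ hm]
      exfalso
      have hm4 : 4 ∣ orderOf (t⁻¹ * (c : G) * t) := by
        rwa [show t⁻¹ * (c : G) * t = t⁻¹ * c * (t⁻¹)⁻¹ by rw [inv_inv], orderOf_conj]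
      have hx2 := h.mem_zpowers_of_four_dvd D.orderOf_x
        (Subgroup.mem_centralizer_singleton_iff.1 hm) hm4
      have hcase := conj_four_eq (t := t⁻¹) D.orderOf_x hxc (by rwa [inv_inv])
      rw [inv_inv] at hcase
      rcases hcase with e | e
      · exact ht (Subgroup.mem_centralizer_singleton_iff.2 (mul_inv_eq_iff_eq_mul.1 e))
      · refine hyt (Subgroup.mem_centralizer_singleton_iff.2 (mul_inv_eq_iff_eq_mul.1 ?_))
        rw [show D.y * t * D.x * (D.y * t)⁻¹ = D.y * (t * D.x * t⁻¹) * D.y⁻¹ by group, e,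
          ← conj_inv, D.y_inv, inv_inv]
  have e1 : (∑ t : G, if t ∈ (Subgroup.centralizer ({D.x} : Set G)) then 1 - (lam c : ℂ) else 0) =
      (Nat.card (Subgroup.centralizer ({D.x} : Set G)) : ℂ) * (1 - (lam c : ℂ)) := by
    rw [← Finset.sum_filter, Finset.sum_const, nsmul_eq_mul, ← Fintype.card_subtype,
      ← Nat.card_eq_fintype_card]
  have e2 : (∑ t : G, if D.y * t ∈ (Subgroup.centralizer ({D.x} : Set G)) then 1 - (((lam c)⁻¹ : ℂˣ) : ℂ) else 0) =
      (Nat.card (Subgroup.centralizer ({D.x} : Set G)) : ℂ) * (1 - (((lam c)⁻¹ : ℂˣ) : ℂ)) := by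
    rw [← Finset.sum_filter, Finset.sum_const, nsmul_eq_mul, ← Fintype.card_subtype,
      ← Nat.card_eq_fintype_card,
      Nat.card_congr ((Equiv.mulLeft D.y).subtypeEquiv (p := fun t => D.y * t ∈ (Subgroup.centralizer ({D.x} : Set G)))
        (q := fun t => t ∈ (Subgroup.centralizer ({D.x} : Set G))) fun t => Iff.rfl)]
  rw [indFun_apply, Finset.sum_congr rfl fun t _ => hterm t, Finset.sum_add_distrib, e1, e2]
  have hC0 : (Nat.card (Subgroup.centralizer ({D.x} : Set G)) : ℂ) ≠ 0 := Nat.cast_ne_zero.2 Nat.card_pos.ne'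
  field_simp
  ring

theorem classInner_indFun_theta_one (hne : lam ≠ 1) :
    classInner (indFun (Subgroup.centralizer ({D.x} : Set G)) (D.theta lam))
      (trivChar G : G → ℂ) = 1 := by
  haveI := Fintype.ofFinite (Subgroup.centralizer ({D.x} : Set G))
  rw [classInner_indFun _ _ (IsCharacter.isClassFunction
    (IsIrrCharacter.isCharacter (trivChar G).2)), classInner]
  simp only [trivChar_apply, map_one, mul_one, theta, Finset.sum_sub_distrib,
    sum_units_hom_eq_zero hne, sub_zero, Finset.sum_const, Finset.card_univ, nsmul_eq_mul]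
  rw [← Nat.card_eq_fintype_card, inv_mul_cancel₀ (Nat.cast_ne_zero.2 Nat.card_pos.ne')]

open Classical in
theorem classInner_indFun_theta_self (h : TwoRankOne G)
    (hlam : ∀ c : Subgroup.centralizer ({D.x} : Set G), ¬ 4 ∣ orderOf (c : G) → lam c = 1)
    (hy : ∀ c : Subgroup.centralizer ({D.x} : Set G),
      lam ⟨D.y * (c : G) * D.y⁻¹, D.conj_mem c.2⟩ = (lam c)⁻¹)
    (hne : lam ≠ 1) :
    classInner (indFun (Subgroup.centralizer ({D.x} : Set G)) (D.theta lam))
      (indFun (Subgroup.centralizer ({D.x} : Set G)) (D.theta lam)) =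
      ((if lam ^ 2 = 1 then 3 else 2 : ℕ) + 1 : ℕ) := by
  haveI := Fintype.ofFinite (Subgroup.centralizer ({D.x} : Set G))
  rw [classInner_indFun _ _ (isClassFunction_indFun _ _), classInner]
  have hterm : ∀ c, D.theta lam c *
      conj (indFun (Subgroup.centralizer ({D.x} : Set G)) (D.theta lam) (c : G)) =
      3 - 3 * (lam c : ℂ) - ((lam⁻¹) c : ℂ) + ((lam ^ 2) c : ℂ) := fun c => by
    rw [indFun_theta_coe D h hlam hy, map_sub, map_sub, conj_units_eq_inv]
    have : conj (((lam c)⁻¹ : ℂˣ) : ℂ) = (lam c : ℂ) := by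
      rw [← conj_units_eq_inv lam c, Complex.conj_conj]
    rw [this, map_ofNat, theta, MonoidHom.inv_apply, MonoidHom.pow_apply, Units.val_pow_eq_pow_val]
    have h1 : (lam c : ℂ) * (((lam c)⁻¹ : ℂˣ) : ℂ) = 1 := Units.mul_inv _
    linear_combination h1
  rw [Finset.sum_congr rfl fun c _ => hterm c, Finset.sum_add_distrib, Finset.sum_sub_distrib,
    Finset.sum_sub_distrib, ← Finset.mul_sum, sum_units_hom_eq_zero hne,
    sum_units_hom_eq_zero (l := lam⁻¹)
      (fun h => hne (MonoidHom.ext fun g => inv_eq_one.1 (DFunLike.congr_fun h g))), Finset.sum_const, Finset.card_univ, nsmul_eq_mul,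
    ← Nat.card_eq_fintype_card]
  have hc0 : (Nat.card (Subgroup.centralizer ({D.x} : Set G)) : ℂ) ≠ 0 :=
    Nat.cast_ne_zero.2 Nat.card_pos.ne'
  split_ifs with h2
  · simp only [h2, MonoidHom.one_apply, Units.val_one, Finset.sum_const, Finset.card_univ,
      nsmul_eq_mul, ← Nat.card_eq_fintype_card]
    field_simp
    push_cast
    ring
  · rw [sum_units_hom_eq_zero h2]
    field_simp
    push_cast
    ring

end CycData

theorem false_of_two_moments {W₁ W₂ c₁ c₂ : ℝ} (hW : 1 + W₁ + W₂ = 0) (hc : 1 + c₁ + c₂ = 0)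
    (hQ : 1 + c₁ ^ 2 / W₁ + c₂ ^ 2 / W₂ = 0) (h1 : |c₁| < |W₁|) (h2 : |c₂| < |W₂|) : False := by
  have n1 : W₁ ≠ 0 := fun h => by rw [h, abs_zero] at h1; exact absurd h1 (not_lt.2 (abs_nonneg _))
  have n2 : W₂ ≠ 0 := fun h => by rw [h, abs_zero] at h2; exact absurd h2 (not_lt.2 (abs_nonneg _))
  field_simp at hQ
  rw [show W₂ = -1 - W₁ by linarith, show c₂ = -1 - c₁ by linarith] at hQ
  have h0 : (W₁ - c₁) ^ 2 = 0 := by linarith
  rw [pow_eq_zero_iff two_ne_zero, sub_eq_zero] at h0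
  exact absurd h1 (h0 ▸ lt_irrefl _)

theorem abs_re_eq_norm {w : ℂ} (h : conj w = w) : |w.re| = ‖w‖ := by
  obtain ⟨r, rfl⟩ := Complex.conj_eq_iff_real.1 h
  simp

/-- No simple group of 2-rank one has a cyclic 2-subgroup of order at least 8 of this kind. -/
theorem false_of_eight [Finite G] [IsSimpleGroup G] (h : TwoRankOne G) (D : CycData G)
    (h8 : 8 ≤ orderOf D.a) (hcen : D.x ^ 2 ∉ Subgroup.center G) : False := by
  classical
  haveI := Fintype.ofFinite G
  haveI := Fintype.ofFinite (IrrCharacter G)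
  obtain ⟨lam, -, hlam, hy, hord, -⟩ := D.exists_lambda h
  have hne2 : lam ^ 2 ≠ 1 := fun he => by
    have h1 : lam ⟨D.a, D.mem_centralizer_a⟩ ^ 2 = 1 := by
      rw [← MonoidHom.pow_apply, he, MonoidHom.one_apply]
    have h2 := Nat.le_of_dvd two_pos (orderOf_dvd_of_pow_eq_one h1)
    rw [hord] at h2
    omega
  have hne : lam ≠ 1 := fun he => hne2 (MonoidHom.ext fun g => by rw [MonoidHom.pow_apply, he]; simp)
  set Φ := indFun (Subgroup.centralizer ({D.x} : Set G)) (D.theta lam)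
  have hgen : IsGeneralizedCharacter G Φ := isGeneralizedCharacter_indFun _ (D.isGeneralized_theta lam)
  have hnorm := D.classInner_indFun_theta_self h hlam hy hne
  rw [if_neg hne2] at hnorm
  obtain ⟨S, e, htS, hcard, hpm, -, hsum⟩ := exists_signed_support hgen (by norm_num)
    (D.classInner_indFun_theta_one hne) hnorm
  obtain ⟨χ₁, χ₂, h12, rfl⟩ := Finset.card_eq_two.1 hcard
  set z := D.x ^ 2
  have hz2 : orderOf z = 2 := orderOf_sq_of_four D.orderOf_x
  have hzero : ∀ g : G, ¬ 4 ∣ orderOf g → Φ g = 0 := fun g hg => D.indFun_theta_eq_zero hlam hg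
  have hval : ∀ g : G, Φ g = 1 + ((e χ₁ : ℂ) * (χ₁ : G → ℂ) g + (e χ₂ : ℂ) * (χ₂ : G → ℂ) g) := by
    intro g
    have h0 := hsum fun χ => (χ : G → ℂ) g
    rw [Finset.sum_pair h12, trivChar_apply] at h0
    rw [← h0]
    conv_lhs => rw [IsClassFunction.eq_sum (IsGeneralizedCharacter.isClassFunction hgen)]
    simp [Finset.sum_apply]
  have hkey := key_identity h hz2 hgen fun g hg => hzero g fun h4 =>
    Nat.not_even_iff_odd.2 hg (even_iff_two_dvd.2 ((show 2 ∣ 4 by norm_num).trans h4))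
  rw [hsum, Finset.sum_pair h12, trivChar_apply, trivChar_apply] at hkey
  have e1 := hval 1
  rw [hzero 1 (by rw [orderOf_one]; norm_num)] at e1
  have e2 := hval z
  rw [hzero z (by rw [hz2]; norm_num)] at e2
  have hb : ∀ χ : IrrCharacter G, ((((χ : G → ℂ) z).re : ℝ) : ℂ) = (χ : G → ℂ) z := fun χ =>
    Complex.conj_eq_iff_re.1 (conj_apply_involution χ hz2)
  rw [← (apply_one_re χ₁).1, ← (apply_one_re χ₂).1] at e1 hkey
  rw [← hb χ₁, ← hb χ₂] at e2 hkey
  have hmem : ∀ χ ∈ ({χ₁, χ₂} : Finset (IrrCharacter G)),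
      |(e χ : ℝ) * ((χ : G → ℂ) z).re| < |(e χ : ℝ) * ((χ : G → ℂ) 1).re| := by
    intro χ hχ
    have h3 := norm_apply_lt (fun he => htS (he ▸ hχ)) hcen
    rw [← abs_re_eq_norm (conj_apply_involution χ hz2)] at h3
    have h4 : 0 < |(e χ : ℝ)| := by rcases hpm χ hχ with h | h <;> simp [h]
    rw [abs_mul, abs_mul, abs_of_nonneg (zero_le_one.trans (apply_one_re χ).2)]
    exact mul_lt_mul_of_pos_left h3 h4
  have sq : ∀ χ ∈ ({χ₁, χ₂} : Finset (IrrCharacter G)), ∀ b f : ℝ,
      (e χ : ℝ) * (b ^ 2 / f) = ((e χ : ℝ) * b) ^ 2 / ((e χ : ℝ) * f) := by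
    intro χ hχ b f
    rcases hpm χ hχ with h | h <;> simp [h, div_neg, neg_div]
  refine false_of_two_moments (W₁ := (e χ₁ : ℝ) * ((χ₁ : G → ℂ) 1).re)
    (W₂ := (e χ₂ : ℝ) * ((χ₂ : G → ℂ) 1).re) (c₁ := (e χ₁ : ℝ) * ((χ₁ : G → ℂ) z).re)
    (c₂ := (e χ₂ : ℝ) * ((χ₂ : G → ℂ) z).re) ?_ ?_ ?_ (hmem _ (by simp)) (hmem _ (by simp))
  · rw [add_assoc]; exact_mod_cast e1.symm
  · rw [add_assoc]; exact_mod_cast e2.symm
  · rw [← sq _ (by simp), ← sq _ (by simp), add_assoc]
    have : ((1 + ((e χ₁ : ℝ) * (((χ₁ : G → ℂ) z).re ^ 2 / ((χ₁ : G → ℂ) 1).re) +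
        (e χ₂ : ℝ) * (((χ₂ : G → ℂ) z).re ^ 2 / ((χ₂ : G → ℂ) 1).re)) : ℝ) : ℂ) = 0 := by
      push_cast
      simpa using hkey
    exact_mod_cast this

end Cfsg.Agent.Inv
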