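import Cfsg.Agent.Lib.Classical.SL2
import Cfsg.Agent.Lib.Suzuki.LieSz
import Cfsg.Agent.Lib.Classical.SL2Char2
import Cfsg.Agent.S0280
import Mathlib.LinearAlgebra.Matrix.GeneralLinearGroup.Card

/-!
# Simple sections of Bender type in `GL(5, 2)`
-/

set_option autoImplicit false

namespace Cfsg.Agent.Inv.GL52

open Matrix

theorem card_gl : Nat.card (GL (Fin 5) (ZMod 2)) = 9999360 := by
  haveI : Fact (Nat.Prime 2) := ⟨Nat.prime_two⟩
  rw [Matrix.card_GL_field]
  simp [Fin.prod_univ_succ, ZMod.card]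

def matA : Matrix (Fin 5) (Fin 5) (ZMod 2) :=
  !![0,1,0,0,0; 1,1,0,0,0; 0,0,1,0,0; 0,0,0,1,0; 0,0,0,0,1]

def matB : Matrix (Fin 5) (Fin 5) (ZMod 2) :=
  !![1,0,0,0,0; 0,1,0,0,0; 0,0,0,1,0; 0,0,1,1,0; 0,0,0,0,1]

theorem matA_cube : matA * (matA * matA) = 1 := by decide
theorem matA_cube' : matA * matA * matA = 1 := by decide
theorem matB_cube : matB * (matB * matB) = 1 := by decide
theorem matB_cube' : matB * matB * matB = 1 := by decide
theorem matAB : matA * matB = matB * matA := by decide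
theorem matA_ne : matA ≠ 1 := by decide
theorem matB_ne : (1 : Matrix (Fin 5) (Fin 5) (ZMod 2)) ≠ matB := by decide
theorem matA_ne_B : matA ≠ matB := by decide
theorem matA2_ne_B : matA * matA ≠ matB := by decide

/-- No element of order nine. -/
theorem no_nine (g : GL (Fin 5) (ZMod 2)) : orderOf g ≠ 9 := by
  intro hg
  haveI : Fact (Nat.Prime 2) := ⟨Nat.prime_two⟩
  haveI : Fact (Nat.Prime 3) := ⟨Nat.prime_three⟩
  let a : GL (Fin 5) (ZMod 2) := ⟨matA, matA * matA, matA_cube, matA_cube'⟩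
  let b : GL (Fin 5) (ZMod 2) := ⟨matB, matB * matB, matB_cube, matB_cube'⟩
  have ha : a ^ 3 = 1 := Units.ext (by rw [pow_succ, pow_succ, pow_one]; exact matA_cube')
  have hb : b ^ 3 = 1 := Units.ext (by rw [pow_succ, pow_succ, pow_one]; exact matB_cube')
  have hab : Commute a b := Units.ext matAB
  have ha1 : a ≠ 1 := fun e => absurd (congrArg Units.val e) matA_ne
  have hbn : b ∉ Subgroup.zpowers a := by
    intro h
    have hoa : orderOf a = 3 := orderOf_eq_prime ha ha1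
    obtain ⟨k, hk, e⟩ : ∃ k < 3, a ^ k = b := by
      obtain ⟨k, hk⟩ := (isOfFinOrder_of_finite a).mem_zpowers_iff_mem_range_orderOf.1 h |>
        Finset.mem_image.1
      exact ⟨k, hoa ▸ Finset.mem_range.1 hk.1, hk.2⟩
    interval_cases k
    · exact absurd (congrArg Units.val e) matB_ne
    · exact absurd (congrArg Units.val ((pow_one a).symm.trans e)) matA_ne_B
    · exact absurd (congrArg Units.val ((sq a).symm.trans e)) matA2_ne_B
  let E : Subgroup (GL (Fin 5) (ZMod 2)) := Subgroup.zpowers a ⊔ Subgroup.zpowers b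
  have hEeq : E = Subgroup.closure {a, b} := by
    rw [show ({a, b} : Set (GL (Fin 5) (ZMod 2))) = {a} ∪ {b} from rfl, Subgroup.closure_union,
      ← Subgroup.zpowers_eq_closure, ← Subgroup.zpowers_eq_closure]
  haveI : IsMulCommutative ↥(Subgroup.closure ({a, b} : Set (GL (Fin 5) (ZMod 2)))) := by
    refine Subgroup.isMulCommutative_closure ?_
    rintro u (rfl | rfl) v (rfl | rfl)
    exacts [rfl, hab.eq, hab.symm.eq, rfl]
  have hE3 : ∀ x ∈ E, x ^ 3 = 1 := by
    intro x hx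
    rw [hEeq] at hx
    induction hx using Subgroup.closure_induction with
    | mem x hx => rcases hx with rfl | rfl <;> assumption
    | one => exact one_pow 3
    | mul x y hx' hy' h1 h2 =>
      have : Commute x y := congrArg Subtype.val
        (mul_comm' (⟨x, hx'⟩ : ↥(Subgroup.closure _)) ⟨y, hy'⟩)
      rw [this.mul_pow, h1, h2, one_mul]
    | inv x _ h1 => rw [inv_pow, h1, inv_one]
  have hEp : IsPGroup 3 ↥E := fun x => ⟨1, Subtype.ext (by simpa using hE3 x x.2)⟩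
  obtain ⟨P, hEP⟩ := hEp.exists_le_sylow
  have hP9 : Nat.card (P : Subgroup (GL (Fin 5) (ZMod 2))) = 3 ^ 2 := by
    rw [Sylow.card_eq_multiplicity, card_gl]
    congr 1
    rw [show 9999360 = 3 ^ 2 * 1111040 by norm_num,
      Nat.factorization_mul (by norm_num) (by norm_num), Finsupp.add_apply,
      Nat.Prime.factorization_pow Nat.prime_three, Finsupp.single_eq_same,
      Nat.factorization_eq_zero_of_not_dvd (by norm_num)]
  have hP3 : ∀ x ∈ (P : Subgroup (GL (Fin 5) (ZMod 2))), x ^ 3 = 1 := by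
    have hEP' : E = (P : Subgroup (GL (Fin 5) (ZMod 2))) := by
      refine Subgroup.eq_of_le_of_card_ge hEP ?_
      obtain ⟨k, hk⟩ := hEp.exists_card_eq
      have hlt : Subgroup.zpowers a < E := lt_of_le_of_ne le_sup_left fun e =>
        hbn (e.symm ▸ Subgroup.mem_sup_right (Subgroup.mem_zpowers b))
      have h3 : Nat.card (Subgroup.zpowers a) = 3 := by
        rw [Nat.card_zpowers]; exact orderOf_eq_prime ha ha1
      have hlt' : 3 < Nat.card E := by
        rw [← h3]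
        exact (Subgroup.card_le_of_le hlt.le).lt_of_ne fun e =>
          hlt.ne (Subgroup.eq_of_le_of_card_ge hlt.le e.ge)
      rw [hP9, hk]
      rw [hk] at hlt'
      refine Nat.pow_le_pow_right (by norm_num) ?_
      by_contra hk2
      interval_cases k <;> omega
    exact hEP' ▸ hE3
  have hg9 : Nat.card (Subgroup.zpowers g) = 3 ^ 2 := by rw [Nat.card_zpowers, hg]; norm_num
  obtain ⟨Q, hgQ⟩ := (IsPGroup.of_card hg9).exists_le_sylow
  obtain ⟨c, hc⟩ := MulAction.exists_smul_eq (GL (Fin 5) (ZMod 2)) P Q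
  have hmem : g ∈ (Q : Subgroup (GL (Fin 5) (ZMod 2))) := hgQ (Subgroup.mem_zpowers g)
  rw [← hc, Sylow.coe_subgroup_smul, Subgroup.mem_pointwise_smul_iff_inv_smul_mem] at hmem
  have h3 := hP3 _ hmem
  rw [← smul_pow', inv_smul_eq_iff, smul_one] at h3
  have := orderOf_dvd_of_pow_eq_one h3
  rw [hg] at this
  norm_num at this

theorem sl2_eight_nine {F : Type*} [Field F] [Fintype F] (hF : Fintype.card F = 8) :
    ∃ x : ProjectiveSpecialLinearGroup (Fin 2) F, orderOf x = 9 := by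
  haveI : Fact (Nat.Prime 2) := ⟨Nat.prime_two⟩
  haveI : CharP F 2 := charP_of_card_eq_prime_pow (f := 3) (by rw [hF]; norm_num)
  have h2 : (2 : F) = 0 := by exact_mod_cast CharP.cast_eq_zero F 2
  obtain ⟨s, hs0, hs1⟩ : ∃ s : F, s ≠ 0 ∧ s ≠ 1 := by
    by_contra h
    push Not at h
    classical
    have : (Finset.univ : Finset F) ⊆ {0, 1} := fun s _ => by
      rcases eq_or_ne s 0 with rfl | h0
      · simp
      · simp [h s h0]
    have h' := Finset.card_le_card this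
    rw [Finset.card_univ, hF] at h'
    have := h'.trans (Finset.card_insert_le _ _)
    simp at this
  have h7 : s ^ 7 = 1 := by simpa [hF] using FiniteField.pow_card_sub_one_eq_one s hs0
  have hprod : (s ^ 3 + s + 1) * (s ^ 3 + s ^ 2 + 1) = 0 := by
    refine (mul_eq_zero.1 ?_).resolve_left (sub_ne_zero.2 hs1)
    show (s - 1) * ((s ^ 3 + s + 1) * (s ^ 3 + s ^ 2 + 1)) = 0
    linear_combination h7 + (s ^ 4 - s ^ 3) * h2
  obtain ⟨t, ht⟩ : ∃ t : F, t ^ 3 + t + 1 = 0 := by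
    rcases mul_eq_zero.1 hprod with h | h
    · exact ⟨s, h⟩
    · refine ⟨s⁻¹, ?_⟩
      field_simp
      linear_combination h
  let g : SpecialLinearGroup (Fin 2) F := ⟨!![0, 1; 1, t], by
    rw [Matrix.det_fin_two_of]; linear_combination -h2⟩
  have hg3 : (g ^ 3).1 = !![t, t ^ 2 + 1; t ^ 2 + 1, t ^ 3] := by
    rw [show g ^ 3 = g * g * g by simp [pow_succ]]
    show (!![0, 1; 1, t] : Matrix (Fin 2) (Fin 2) F) * !![0, 1; 1, t] * !![0, 1; 1, t] = _
    ext i j
    fin_cases i <;> fin_cases j <;> simp [Matrix.mul_apply, Fin.sum_univ_two]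
    all_goals first | linear_combination t * h2 | ring
  have hg9 : g ^ 9 = 1 := by
    refine Subtype.ext ?_
    rw [show g ^ 9 = g ^ 3 * g ^ 3 * g ^ 3 by rw [← pow_add, ← pow_add]]
    show (g ^ 3).1 * (g ^ 3).1 * (g ^ 3).1 = 1
    rw [hg3]
    ext i j
    fin_cases i <;> fin_cases j <;> simp [Matrix.mul_apply, Fin.sum_univ_two]
    · linear_combination ((3) * t ^ 0 + (-1) * t ^ 1 + (3) * t ^ 2 + (1) * t ^ 4 : F) * ht + ((-2) * t ^ 0 + (-1) * t ^ 2 : F) * h2
    · linear_combination ((-1) * t ^ 0 + (3) * t ^ 1 + (-1) * t ^ 2 + (2) * t ^ 3 + (1) * t ^ 5 : F) * ht + ((1) * t ^ 0 + (-1) * t ^ 1 + (1) * t ^ 2 : F) * h2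
    · linear_combination ((-1) * t ^ 0 + (3) * t ^ 1 + (-1) * t ^ 2 + (2) * t ^ 3 + (1) * t ^ 5 : F) * ht + ((1) * t ^ 0 + (-1) * t ^ 1 + (1) * t ^ 2 : F) * h2
    · linear_combination ((1) * t ^ 0 + (4) * t ^ 2 + (-1) * t ^ 3 + (1) * t ^ 4 + (1) * t ^ 6 : F) * ht + ((-1) * t ^ 0 + (-2) * t ^ 2 : F) * h2
  have hg3ne : g ^ 3 ≠ 1 := fun e => by
    have e1 := congrFun (congrFun (hg3.symm.trans (congrArg Subtype.val e)) 0) 0
    simp at e1
    rw [e1] at ht
    exact one_ne_zero (α := F) (by linear_combination ht - h2)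
  haveI : Fact (Nat.Prime 3) := ⟨Nat.prime_three⟩
  refine ⟨Cfsg.Agent.Classical.SL2Two.proj g, ?_⟩
  rw [orderOf_injective _ (Cfsg.Agent.Classical.SL2Two.proj_injective_two h2)]
  exact orderOf_eq_prime_pow (p := 3) (n := 1) (by simpa using hg3ne) (by simpa using hg9)

theorem result {H : Subgroup (GL (Fin 5) (ZMod 2))} {K : Subgroup ↥H} [K.Normal]
    (hX : (∃ (n : ℕ) (F : Type) (_ : Field F) (_ : Fintype F), 2 ≤ n ∧ Fintype.card F = 2 ^ n ∧
        Nonempty (↥H ⧸ K ≃* Matrix.ProjectiveSpecialLinearGroup (Fin 2) F)) ∨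
      (∃ (m : ℕ) (F : Type) (_ : Field F) (_ : Fintype F), 1 ≤ m ∧ Fintype.card F = 2 ^ (2 * m + 1) ∧
        Nonempty (↥H ⧸ K ≃* ↥(Cfsg.Lie.Sz F (2 ^ (m + 1))))) ∨
      (∃ (n : ℕ) (F : Type) (_ : Field F) (_ : Fintype F), 2 ≤ n ∧ Fintype.card F = 4 ^ n ∧
        Nonempty (↥H ⧸ K ≃* Cfsg.PSU 3 F (2 ^ n)))) :
    ∃ (F : Type) (_ : Field F) (_ : Fintype F), Fintype.card F = 4 ∧
      Nonempty (↥H ⧸ K ≃* Matrix.ProjectiveSpecialLinearGroup (Fin 2) F) := by
  have hdvd : Nat.card (↥H ⧸ K) ∣ 9999360 := by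
    rw [← card_gl]
    exact (Subgroup.card_quotient_dvd_card K).trans (Subgroup.card_subgroup_dvd_card H)
  have hbound : ∀ k : ℕ, 2 ^ k ∣ 9999360 → k ≤ 10 := by
    intro k hk
    by_contra h
    exact absurd ((pow_dvd_pow 2 (show 11 ≤ k by omega)).trans hk) (by norm_num)
  rcases hX with ⟨n, F, iF, iFt, hn, hF, ⟨e⟩⟩ | ⟨m, F, iF, iFt, hm, hF, ⟨e⟩⟩ |
      ⟨n, F, iF, iFt, hn, hF, ⟨e⟩⟩
  · letI := iF
    letI := iFt
    rw [Nat.card_congr e.toEquiv] at hdvd
    have hc := Cfsg.Agent.Classical.SL2.card_PSL2_mul (F := F)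
    have hg : Nat.gcd 2 (Fintype.card F - 1) = 1 := by
      refine (Nat.coprime_two_left.2 ?_)
      rw [hF]
      exact Nat.Even.sub_odd Nat.one_le_two_pow (Nat.even_pow.2 ⟨even_two, by omega⟩) odd_one
    rw [hg, one_mul, hF] at hc
    rw [hc] at hdvd
    have := hbound n ((dvd_mul_right _ _).trans hdvd)
    interval_cases n
    · exact ⟨F, iF, iFt, hF, ⟨e⟩⟩
    · exfalso
      obtain ⟨x, hx⟩ := sl2_eight_nine (F := F) hF
      obtain ⟨h, hh⟩ := QuotientGroup.mk'_surjective K (e.symm x)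
      have h9 : 9 ∣ orderOf (h : GL (Fin 5) (ZMod 2)) := by
        rw [Subgroup.orderOf_coe, ← hx, ← MulEquiv.orderOf_eq e.symm x, ← hh]
        exact orderOf_map_dvd _ h
      obtain ⟨k, hk⟩ := h9
      refine no_nine ((h : GL (Fin 5) (ZMod 2)) ^ k) ?_
      have hk0 : k ≠ 0 := fun e => by
        have := orderOf_pos (h : GL (Fin 5) (ZMod 2))
        rw [hk, e, mul_zero] at this
        omega
      rw [orderOf_pow' _ hk0, hk, Nat.gcd_mul_left_left, Nat.mul_div_cancel _ (Nat.pos_of_ne_zero hk0)]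
    all_goals norm_num at hdvd
  · letI := iF
    letI := iFt
    exfalso
    have hs : Cfsg.Agent.Suzuki.SzHyp F m := ⟨hm, hF⟩
    rw [Nat.card_congr e.toEquiv, Nat.card_congr hs.lieEquiv.toEquiv, hs.card_sz] at hdvd
    have h2 := hbound ((2 * m + 1) * 2) (by
      rw [pow_mul]; exact ((dvd_mul_right _ _).trans (dvd_mul_right _ _)).trans hdvd)
    have hm2 : m ≤ 2 := by omega
    interval_cases m <;> norm_num at hdvd
  · letI := iF
    letI := iFt
    exfalso
    rw [Nat.card_congr e.toEquiv] at hdvd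
    have hc := Cfsg.Agent.S0280.result (F := F) (q := 2 ^ n)
      (by rw [hF, ← pow_mul, mul_comm, pow_mul]; norm_num) 3 (by norm_num)
    set N := Nat.card (Cfsg.PSU 3 F (2 ^ n)) with hN
    simp [Finset.prod_range_succ] at hc
    have h3 : (2 ^ n) ^ 3 ∣ 3 * ((2 ^ n + 1) * 9999360) := by
      have h1 : (2 ^ n) ^ 3 ∣ Nat.gcd 3 (2 ^ n + 1) * ((2 ^ n + 1) * N) := by
        rw [hc]; exact ⟨_, rfl⟩
      exact h1.trans (mul_dvd_mul (Nat.gcd_dvd_left 3 _) (mul_dvd_mul_left _ hdvd))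
    have hodd : Nat.Coprime ((2 ^ n) ^ 3) (3 * (2 ^ n + 1)) := by
      refine Nat.Coprime.pow_left 3 (Nat.Coprime.pow_left n (Nat.coprime_two_left.2 ?_))
      exact (by decide : Odd 3).mul ((Nat.even_pow.2 ⟨even_two, by omega⟩).add_odd odd_one)
    rw [← mul_assoc] at h3
    have h5 : 2 ^ (n * 3) ∣ 9999360 := by
      rw [pow_mul]; exact hodd.dvd_of_dvd_mul_left h3
    have := hbound _ h5
    have hn3 : n ≤ 3 := by omega
    interval_cases n <;> norm_num at hc
    · rw [show N = 62400 by omega] at hdvd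
      norm_num at hdvd
    · rw [show N = 5515776 by omega] at hdvd
      norm_num at hdvd

end Cfsg.Agent.Inv.GL52
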