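import Mathlib.GroupTheory.Sylow

/-!
# Sylow subgroups inside a subgroup
-/

set_option autoImplicit false

namespace Cfsg.Agent.Inv

variable {G : Type*} [Group G] [Finite G] {p : ℕ} [Fact p.Prime]

/-- Conjugation action on Sylow subgroups, membership form. -/
theorem mem_smul_sylow {g x : G} {P : Sylow p G} :
    x ∈ (g • P : Sylow p G) ↔ g⁻¹ * x * g ∈ P := by
  constructor
  · rintro ⟨y, hy, rfl⟩
    simpa [mul_assoc] using hy
  · intro h
    exact ⟨_, h, by simp [mul_assoc]⟩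

/-- A `p`-subgroup of `L` is contained in a conjugate by an element of `L` of any Sylow
`p`-subgroup contained in `L`. -/
theorem exists_le_smul_sylow {L R : Subgroup G} (hR : IsPGroup p R) (hRL : R ≤ L) {P : Sylow p G}
    (hP : (P : Subgroup G) ≤ L) : ∃ k ∈ L, R ≤ ((k • P : Sylow p G) : Subgroup G) := by
  obtain ⟨Q, hQ⟩ := (hR.of_equiv (Subgroup.subgroupOfEquivOfLe hRL).symm).exists_le_sylow
  obtain ⟨k, hk⟩ := MulAction.exists_smul_eq L (P.subtype hP) Q
  refine ⟨(k : G), k.2, fun x hx => mem_smul_sylow.2 ?_⟩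
  have h : (⟨x, hRL hx⟩ : L) ∈ (k • P.subtype hP : Sylow p L) := hk ▸ hQ hx
  exact (mem_smul_sylow.1 h : _)

/-- Two Sylow subgroups contained in `L` are conjugate by an element of `L`. -/
theorem exists_smul_sylow_eq {L : Subgroup G} {P Q : Sylow p G} (hP : (P : Subgroup G) ≤ L)
    (hQ : (Q : Subgroup G) ≤ L) : ∃ k ∈ L, k • P = Q := by
  obtain ⟨k, hk, hle⟩ := exists_le_smul_sylow Q.isPGroup' hQ hP
  exact ⟨k, hk, Sylow.ext (Q.is_maximal' (k • P).isPGroup' hle)⟩

end Cfsg.Agent.Inv
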