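import Cfsg.Agent.Lib.Inv.ZStar
import Cfsg.Agent.Lib.Inv.SylowIn
import Mathlib.GroupTheory.Perm.Cycle.Type

/-!
# Sylow subgroups invariant under an isolated involution
-/

set_option autoImplicit false

open Cfsg

namespace Cfsg.Agent.Inv

variable {G : Type*} [Group G] [Finite G] {p : ℕ} [Fact p.Prime] {z : G}

/-- The commutator form of `glauberman` on the other side. -/
theorem glauberman' (hz : IsIsolatedInvolution z) (g : G) : g * z * g⁻¹ * z ∈ oddCore G := by
  have h := inv_mem (glauberman hz g)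
  rw [mul_inv_rev, mul_inv_rev, mul_inv_rev, inv_inv, inv_inv,
    inv_eq_self_of_orderOf_two hz.1] at h
  simpa [mul_assoc] using h

/-- An isolated involution normalises a Sylow `p`-subgroup, `p` odd. -/
theorem exists_isolated_invariant_sylow (hz : IsIsolatedInvolution z) (hp : p ≠ 2) :
    ∃ P : Sylow p G, z • P = P := by
  classical
  obtain ⟨P⟩ := (inferInstance : Nonempty (Sylow p G))
  set K := oddCore G
  set L := (P : Subgroup G) ⊔ K
  have hodd : Odd (Nat.card L) := by
    have h := Solv.card_sup_dvd_of_normal K (P : Subgroup G)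
    rw [sup_comm] at h
    obtain ⟨k, hk⟩ := P.isPGroup'.exists_card_eq
    refine Odd.of_dvd_nat (Local.oddCore_card_odd.mul ?_) h
    rw [hk]
    exact ((Fact.out : p.Prime).odd_of_ne_two hp).pow
  have hinv := inv_eq_self_of_orderOf_two hz.1
  have hzz := mul_self_of_orderOf_two hz.1
  have hconjmem : ∀ x : G, x ∈ L → z * x * z⁻¹ ∈ L := by
    intro x hx
    have h : z * x * z⁻¹ * x⁻¹ ∈ L := Subgroup.mem_sup_right (glauberman hz x)
    simpa using mul_mem h hx
  have hPL : ((z • P : Sylow p G) : Subgroup G) ≤ L := fun x hx => by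
    have h := hconjmem _ (Subgroup.mem_sup_left (mem_smul_sylow.1 hx))
    simpa [mul_assoc] using h
  obtain ⟨l₀, hl₀, he⟩ := exists_smul_sylow_eq (le_sup_left : (P : Subgroup G) ≤ L) hPL
  set Ω := MulAction.orbit L P
  haveI : Fintype Ω := Fintype.ofFinite _
  have hmap : ∀ T ∈ Ω, z • T ∈ Ω := by
    rintro _ ⟨l, rfl⟩
    refine ⟨⟨z * l * z⁻¹ * l₀, mul_mem (hconjmem _ l.2) hl₀⟩, ?_⟩
    show (z * l * z⁻¹ * l₀) • P = z • ((l : G) • P)
    rw [mul_smul, he, smul_smul, smul_smul]
    congr 1
    group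
  let f : Ω → Ω := fun T => ⟨z • T.1, hmap _ T.2⟩
  have hf : Function.Involutive f := fun T => Subtype.ext (by
    show z • z • T.1 = T.1
    rw [smul_smul, hzz, one_smul])
  have hcard : ¬ 2 ∣ Fintype.card Ω := by
    intro h
    have h2 : Nat.card Ω ∣ Nat.card L := by
      rw [Nat.card_coe_set_eq, ← MulAction.index_stabilizer]
      exact Subgroup.index_dvd_card _
    rw [← Nat.card_eq_fintype_card] at h
    exact Nat.not_even_iff_odd.2 hodd (even_iff_two_dvd.2 (h.trans h2))
  haveI : Fact (Nat.Prime 2) := ⟨Nat.prime_two⟩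
  obtain ⟨T, hT⟩ := Equiv.Perm.exists_fixed_point_of_prime (p := 2) (n := 1) (σ := hf.toPerm f) hcard
    (by
      refine Equiv.ext fun T => ?_
      rw [pow_one, pow_two]
      exact hf T)
  exact ⟨T.1, congrArg Subtype.val hT⟩

/-- Invariant Sylow subgroups are conjugate under the centraliser. -/
theorem exists_centralizer_smul_eq (hz : IsIsolatedInvolution z) {P P' : Sylow p G}
    (hP : z • P = P) (hP' : z • P' = P') :
    ∃ c ∈ Subgroup.centralizer ({z} : Set G), c • P = P' := by
  obtain ⟨g, rfl⟩ := MulAction.exists_smul_eq G P P'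
  obtain ⟨-, -, hd⟩ := isolated_root hz g⁻¹
  set d := oddRoot (g⁻¹ * z * g⁻¹⁻¹ * z) with hdd
  have h1 : (g⁻¹ * z * g⁻¹⁻¹) • P = P := by
    rw [inv_inv, mul_smul, mul_smul, hP', inv_smul_smul]
  have hdP : d • P = P := by
    have hmem : d ∈ MulAction.stabilizer G P := by
      refine Subgroup.zpowers_le.2 ?_ (oddRoot_mem_zpowers _)
      rw [MulAction.mem_stabilizer_iff, mul_smul, hP, h1]
    exact hmem
  refine ⟨g * d, Subgroup.mem_centralizer_singleton_iff.2 ?_, by rw [mul_smul, hdP]⟩
  calc g * d * z = g * (d * z * d⁻¹) * d := by group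
    _ = z * (g * d) := by rw [hd]; group

end Cfsg.Agent.Inv
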