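import Mathlib
import Cfsg.Prelude.Def_Local
import Cfsg.Agent.Lib.Inv.BaerSuzuki

/-!
A Klein four-group all of whose conjugate involutions commute with one of its involutions.
-/

set_option autoImplicit false

universe u

namespace Cfsg.Agent.Inv.KleinCommuting

variable {G : Type u} [Group G] [Finite G]

theorem eq_one_of_pow_two_pow {x : G} (hx : Odd (orderOf x)) {k : ℕ} (h : x ^ (2 ^ k) = 1) : x = 1 :=
  orderOf_eq_one_iff.1 (Nat.eq_one_of_dvd_coprimes ((Nat.coprime_two_right.2 hx).pow_right k) dvd_rfl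
    (orderOf_dvd_of_pow_eq_one h))

theorem commute_of_commute_sq {x y : G} (hx : Odd (orderOf x)) (h : Commute (x ^ 2) y) : Commute x y := by
  obtain ⟨k, hk⟩ := hx
  have e : (x ^ 2) ^ (k + 1) = x := by
    rw [← pow_mul, show 2 * (k + 1) = (2 * k + 1) + 1 by ring, ← hk, pow_succ, pow_orderOf_eq_one, one_mul]
  exact e ▸ h.pow_left (k + 1)

omit [Finite G] in
theorem conj_fix_of_commute {e t w : G} (hee : e * e = 1) (het : Commute e t) (h : Commute e (w * t)) :
    e * w * e = w := by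
  have : Commute e w := by simpa using h.mul_right het.inv_right
  rw [this.eq, mul_assoc, hee, mul_one]

theorem odd_inverted {a x : G} (haa : a * a = 1) (hx : a * x * a = x⁻¹) (n : ℕ) :
    a * x ^ n * a = (x ^ n)⁻¹ := by
  have hai : a⁻¹ = a := inv_eq_of_mul_eq_one_right haa
  have h := conj_pow (a := a) (b := x) (i := n)
  rw [hai, hx, inv_pow] at h
  exact h.symm

theorem fixed_pow {a x : G} (haa : a * a = 1) (hx : a * x * a = x) (n : ℕ) : a * x ^ n * a = x ^ n := by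
  have hai : a⁻¹ = a := inv_eq_of_mul_eq_one_right haa
  have h := conj_pow (a := a) (b := x) (i := n)
  rw [hai, hx] at h
  exact h.symm

/-- The key contradiction. -/
theorem core {a b c x y : G} (haa : a * a = 1) (hbb : b * b = 1) (hcc : c * c = 1)
    (hab : Commute a b) (hac : Commute a c) (hbc : Commute b c)
    (hA : ∀ g : G, (∃ e, (e = a ∨ e = b ∨ e = c) ∧ Commute e (g * a * g⁻¹)) ∧
      (∃ e, (e = a ∨ e = b ∨ e = c) ∧ Commute e (g * c * g⁻¹)))
    (hxo : Odd (orderOf x)) (hx1 : x ≠ 1) (hxa : a * x * a = x⁻¹) (hxb : b * x * b = x) (hxc : c * x * c = x⁻¹)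
    (hyo : Odd (orderOf y)) (hy1 : y ≠ 1) (hya : a * y * a = y) (hyb : b * y * b = y⁻¹) (hyc : c * y * c = y⁻¹) :
    False := by
  have hai : a⁻¹ = a := inv_eq_of_mul_eq_one_right haa
  have hbi : b⁻¹ = b := inv_eq_of_mul_eq_one_right hbb
  have hci : c⁻¹ = c := inv_eq_of_mul_eq_one_right hcc
  have comm_y : Commute a y := by
    rw [commute_iff_eq]
    calc a * y = a * y * (a * a) := by rw [haa, mul_one]
      _ = (a * y * a) * a := by group
      _ = y * a := by rw [hya]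
  -- first: `x` commutes with `y`
  have hxy : Commute x y := by
    obtain ⟨⟨e, he, hec⟩, -⟩ := hA (y * x)
    set w := y * x ^ 2 * y⁻¹ with hw
    have hconj : y * x * a * (y * x)⁻¹ = w * a := by
      calc y * x * a * (y * x)⁻¹ = y * x * (a * x⁻¹ * a) * (a * y⁻¹) := by
            rw [show y * x * (a * x⁻¹ * a) * (a * y⁻¹) = y * x * a * x⁻¹ * (a * a) * y⁻¹ by group, haa]
            group
        _ = y * x * x * (a * y⁻¹) := by
            rw [show a * x⁻¹ * a = x by rw [← hxa]; simp [mul_assoc, haa, ← mul_assoc a a]]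
        _ = y * x ^ 2 * (y⁻¹ * a) := by rw [pow_two, comm_y.inv_right.eq]; group
        _ = w * a := by rw [hw]; group
    rw [hconj] at hec
    have hwfix : e * w * e = w := by
      rcases he with h0 | h0 | h0 <;> rw [h0] at hec ⊢
      · exact conj_fix_of_commute haa (Commute.refl _) hec
      · exact conj_fix_of_commute hbb hab.symm hec
      · exact conj_fix_of_commute hcc hac.symm hec
    have hxy' : ∀ t : G, t * t = 1 → t * w * t = (t * y * t) * (t * x ^ 2 * t) * (t * y * t)⁻¹ := by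
      intro t ht
      have hti : t⁻¹ = t := inv_eq_of_mul_eq_one_right ht
      have : t * w * t⁻¹ = (t * y * t⁻¹) * (t * x ^ 2 * t⁻¹) * (t * y * t⁻¹)⁻¹ := by rw [hw]; group
      rwa [hti] at this
    rcases he with h0 | h0 | h0 <;> rw [h0] at hwfix
    · -- `a` inverts `w`
      exfalso
      rw [hxy' a haa, hya, odd_inverted haa hxa] at hwfix
      have h3 : (x ^ 2)⁻¹ = x ^ 2 := by
        have := mul_left_cancel (mul_right_cancel (show y * (x ^ 2)⁻¹ * y⁻¹ = y * x ^ 2 * y⁻¹ from hwfix))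
        exact this
      exact hx1 (eq_one_of_pow_two_pow hxo (k := 2) (by
        rw [show (2 : ℕ) ^ 2 = 2 + 2 from rfl, pow_add]; nth_rw 1 [← h3]; rw [inv_mul_cancel]))
    · -- `b` centralizes `w`
      rw [hxy' b hbb, hyb, fixed_pow hbb hxb] at hwfix
      have h1 : Commute (y ^ 2) (x ^ 2) := by
        rw [commute_iff_eq]
        calc y ^ 2 * x ^ 2 = y * (y * x ^ 2 * y⁻¹) * y := by rw [pow_two y]; group
          _ = y * (y⁻¹ * x ^ 2 * y⁻¹⁻¹) * y := by rw [hwfix]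
          _ = x ^ 2 * y ^ 2 := by rw [pow_two y]; group
      exact commute_of_commute_sq hxo (commute_of_commute_sq hyo h1).symm
    · exfalso
      rw [hxy' c hcc, hyc, odd_inverted hcc hxc] at hwfix
      have h1 : y ^ 2 * x ^ 2 * (y ^ 2)⁻¹ = (x ^ 2)⁻¹ := by
        calc y ^ 2 * x ^ 2 * (y ^ 2)⁻¹ = y * (y * x ^ 2 * y⁻¹) * y⁻¹ := by rw [pow_two y]; group
          _ = y * (y⁻¹ * (x ^ 2)⁻¹ * y⁻¹⁻¹) * y⁻¹ := by rw [hwfix]
          _ = (x ^ 2)⁻¹ := by group
      have h2 : Commute ((y ^ 2) ^ 2) (x ^ 2) := by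
        refine mul_inv_eq_iff_eq_mul.1 ?_
        calc (y ^ 2) ^ 2 * x ^ 2 * ((y ^ 2) ^ 2)⁻¹ = y ^ 2 * (y ^ 2 * x ^ 2 * (y ^ 2)⁻¹) * (y ^ 2)⁻¹ := by
              rw [pow_two (y ^ 2)]; group
          _ = (y ^ 2 * x ^ 2 * (y ^ 2)⁻¹)⁻¹ := by rw [h1]; group; rw [show (y:G) ^ (2:ℤ) * x ^ (-2:ℤ) * y ^ (-2:ℤ) = (y ^ 2 * x ^ 2 * (y ^ 2)⁻¹)⁻¹ by group, h1]; group
          _ = x ^ 2 := by rw [h1, inv_inv]
      have hy2o : Odd (orderOf (y ^ 2)) := hyo.of_dvd_nat (orderOf_pow_dvd 2)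
      rw [(commute_of_commute_sq hy2o h2).eq, mul_inv_cancel_right] at h1
      exact hx1 (eq_one_of_pow_two_pow hxo (k := 2) (by
        rw [show (2 : ℕ) ^ 2 = 2 + 2 from rfl, pow_add]; nth_rw 1 [h1]; rw [inv_mul_cancel]))
  -- then a conjugate of `c` is bad
  obtain ⟨-, ⟨e, he, hec⟩⟩ := hA (x * y)
  set w := x ^ 2 * y ^ 2 with hw
  have hconj : x * y * c * (x * y)⁻¹ = w * c := by
    have h1 : c * (x * y)⁻¹ * c = x * y := by
      have : c * (x * y)⁻¹ * c⁻¹ = (c * y * c⁻¹)⁻¹ * (c * x * c⁻¹)⁻¹ := by group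
      rw [hci] at this
      rw [this, hxc, hyc, inv_inv, inv_inv, hxy.eq]
    calc x * y * c * (x * y)⁻¹ = x * y * (c * (x * y)⁻¹ * c) * c := by
          rw [show x * y * (c * (x * y)⁻¹ * c) * c = x * y * c * (x * y)⁻¹ * (c * c) by group, hcc, mul_one]
      _ = w * c := by rw [h1, ← pow_two, hxy.mul_pow]
  rw [hconj] at hec
  have hwfix : e * w * e = w := by
    rcases he with h0 | h0 | h0 <;> rw [h0] at hec ⊢
    · exact conj_fix_of_commute haa hac hec
    · exact conj_fix_of_commute hbb hbc hec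
    · exact conj_fix_of_commute hcc (Commute.refl _) hec
  have hsplit : ∀ t : G, t * t = 1 → t * w * t = (t * x ^ 2 * t) * (t * y ^ 2 * t) := by
    intro t ht
    rw [hw, show t * x ^ 2 * t * (t * y ^ 2 * t) = t * x ^ 2 * (t * t) * y ^ 2 * t by group, ht]
    group
  have key : ∀ z : G, Odd (orderOf z) → (z ^ 2)⁻¹ = z ^ 2 → z = 1 := fun z hz h3 =>
    eq_one_of_pow_two_pow hz (k := 2) (by
      rw [show (2 : ℕ) ^ 2 = 2 + 2 from rfl, pow_add]; nth_rw 1 [← h3]; rw [inv_mul_cancel])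
  rcases he with h0 | h0 | h0 <;> rw [h0] at hwfix
  · rw [hsplit a haa, odd_inverted haa hxa, fixed_pow haa hya] at hwfix
    exact hx1 (key x hxo (mul_right_cancel hwfix))
  · rw [hsplit b hbb, fixed_pow hbb hxb, odd_inverted hbb hyb] at hwfix
    exact hy1 (key y hyo (mul_left_cancel hwfix))
  · rw [hsplit c hcc, odd_inverted hcc hxc, odd_inverted hcc hyc] at hwfix
    have h1 : (x ^ 2) * (x ^ 2) = (y ^ 2)⁻¹ * (y ^ 2)⁻¹ := by
      have h2 := congrArg (fun z => x ^ 2 * z * (y ^ 2)⁻¹) hwfix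
      simpa [hw, mul_assoc] using h2.symm
    have h4 := congrArg (fun z => b * z * b) h1
    have h5 : b * (x ^ 2 * x ^ 2) * b = x ^ 2 * x ^ 2 := by rw [← pow_add]; exact fixed_pow hbb hxb _
    have h6 : b * ((y ^ 2)⁻¹ * (y ^ 2)⁻¹) * b = y ^ 2 * y ^ 2 := by
      rw [← mul_inv_rev, ← pow_add]
      have := odd_inverted hbb hyb (2 + 2)
      have e := congrArg (·⁻¹) this
      simpa [mul_assoc, hbi] using e
    simp only [h5, h6] at h4
    have h7 : x ^ (2 ^ 3) = 1 := by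
      rw [show (2 : ℕ) ^ 3 = (2 + 2) + (2 + 2) from rfl, pow_add, pow_add]
      nth_rw 1 [h1]
      rw [h4]
      group
    exact hx1 (eq_one_of_pow_two_pow hxo h7)

theorem exists_inverted (a : G) (haa : a * a = 1) (hna : a ∉ Cfsg.pCore 2 G) :
    ∃ x : G, Odd (orderOf x) ∧ x ≠ 1 ∧ a * x * a = x⁻¹ := by
  by_contra hno
  push Not at hno
  haveI : Fact (Nat.Prime 2) := ⟨Nat.prime_two⟩
  have hai : a⁻¹ = a := inv_eq_of_mul_eq_one_right haa
  have hX : IsPGroup 2 ↥(Subgroup.zpowers a) := by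
    rintro ⟨_, n, rfl⟩
    refine ⟨1, Subtype.ext ?_⟩
    show (a ^ n) ^ (2 ^ 1) = 1
    rw [pow_one, pow_two, ← (Commute.refl a).mul_zpow, haa, one_zpow]
  obtain ⟨N, hN, hNp, hle⟩ := baerSuzuki (Subgroup.zpowers a) hX fun g => by
    set d := a * (g * a * g⁻¹) with hd
    have hda : a * d * a = d⁻¹ := by
      rw [hd, mul_inv_rev, hai, ← mul_assoc a a, haa, one_mul]
      congr 1
      rw [mul_inv_rev, mul_inv_rev, inv_inv, hai, mul_assoc]
    have hpos : orderOf d ≠ 0 := (orderOf_pos d).ne'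
    have h2 : IsPGroup 2 ↥(Subgroup.zpowers d) := by
      obtain ⟨v, m, hm, e⟩ := Nat.exists_eq_two_pow_mul_odd hpos
      have hxo : orderOf (d ^ 2 ^ v) = m := by
        rw [orderOf_pow_of_dvd (by positivity) (e ▸ Dvd.intro m rfl), e, Nat.mul_div_cancel_left _ (by positivity)]
      have hx1 : d ^ 2 ^ v = 1 := by
        by_contra hne
        exact hno _ (hxo ▸ hm) hne (odd_inverted haa hda _)
      rw [hx1, orderOf_one] at hxo
      exact IsPGroup.of_card (n := v) (by rw [Nat.card_zpowers, e, ← hxo, mul_one])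
    have hnorm : Subgroup.zpowers a ≤ Subgroup.normalizer ((Subgroup.zpowers d : Subgroup G) : Set G) := by
      rw [Subgroup.zpowers_le, Subgroup.mem_normalizer_iff]
      intro z
      have key : ∀ z ∈ Subgroup.zpowers d, a * z * a⁻¹ ∈ Subgroup.zpowers d := by
        rintro _ ⟨n, rfl⟩
        show a * d ^ n * a⁻¹ ∈ _
        rw [← conj_zpow, hai, hda]
        exact zpow_mem (inv_mem (Subgroup.mem_zpowers d)) n
      refine ⟨key z, fun h => ?_⟩
      have := key _ h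
      rwa [show a * (a * z * a⁻¹) * a⁻¹ = (a * a) * z * (a * a)⁻¹ by group, haa, one_mul, inv_one, mul_one] at this
    refine (h2.to_sup_of_normal_left' hX hnorm).to_le (sup_le le_sup_right ?_)
    rintro _ ⟨z, ⟨n, rfl⟩, rfl⟩
    show g * a ^ n * g⁻¹ ∈ Subgroup.zpowers d ⊔ Subgroup.zpowers a
    rw [← conj_zpow, show g * a * g⁻¹ = a * d by rw [hd, ← mul_assoc, haa, one_mul]]
    exact zpow_mem (mul_mem (Subgroup.mem_sup_right (Subgroup.mem_zpowers a)) (Subgroup.mem_sup_left (Subgroup.mem_zpowers d))) n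
  exact hna ((le_sSup (show N ∈ {H : Subgroup G | H.Normal ∧ IsPGroup 2 H} from ⟨hN, hNp⟩) : N ≤ Cfsg.pCore 2 G)
    (hle (Subgroup.mem_zpowers a)))

theorem main (A : Subgroup G) (hA : IsKleinFour ↥A)
    (h : ∀ a ∈ A, a ≠ 1 → ∀ g : G, A ⊓ Subgroup.centralizer ({g * a * g⁻¹} : Set G) ≠ ⊥) :
    A ⊓ Cfsg.pCore 2 G ≠ ⊥ := by
  intro hbot
  classical
  have hno : ∀ a ∈ A, a ≠ 1 → a ∉ Cfsg.pCore 2 G := fun a ha ha1 hm =>
    ha1 (Subgroup.mem_bot.1 (hbot ▸ (⟨ha, hm⟩ : a ∈ A ⊓ Cfsg.pCore 2 G)))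
  have hsq : ∀ a ∈ A, a * a = 1 := fun a ha => congrArg Subtype.val (IsKleinFour.mul_self (⟨a, ha⟩ : ↥A))
  have hcomm : ∀ a ∈ A, ∀ b ∈ A, Commute a b := fun a ha b hb => by
    have h1 := hsq _ (mul_mem ha hb)
    rw [commute_iff_eq]
    calc a * b = (a * b)⁻¹ := (inv_eq_of_mul_eq_one_right h1).symm
      _ = b * a := by
          rw [mul_inv_rev, inv_eq_of_mul_eq_one_right (hsq a ha), inv_eq_of_mul_eq_one_right (hsq b hb)]
  -- for each involution an odd element, inverted by it and centralized by another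
  have step : ∀ a ∈ A, a ≠ 1 → ∃ x b, b ∈ A ∧ b ≠ 1 ∧ b ≠ a ∧ Odd (orderOf x) ∧ x ≠ 1 ∧
      a * x * a = x⁻¹ ∧ b * x * b = x ∧ (a * b) * x * (a * b) = x⁻¹ := by
    intro a ha ha1
    obtain ⟨x, hxo, hx1, hxa⟩ := exists_inverted a (hsq a ha) (hno a ha ha1)
    obtain ⟨⟨b, hb⟩, hb1'⟩ := Subgroup.ne_bot_iff_exists_ne_one.1 (h a ha ha1 x)
    have hb1 : b ≠ 1 := fun e => hb1' (Subtype.ext e)
    have hbc : Commute b (x * a * x⁻¹) := Subgroup.mem_centralizer_singleton_iff.1 hb.2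
    have hconj : x * a * x⁻¹ = x ^ 2 * a := by
      have e2 : a * x⁻¹ * a = x := by
        have := odd_inverted (hsq a ha) hxa 1
        have e := congrArg (·⁻¹) hxa
        simpa [mul_assoc, inv_eq_of_mul_eq_one_right (hsq a ha)] using e
      calc x * a * x⁻¹ = x * (a * x⁻¹ * a) * a := by
            rw [show x * (a * x⁻¹ * a) * a = x * a * x⁻¹ * (a * a) by group, hsq a ha, mul_one]
        _ = x ^ 2 * a := by rw [e2, pow_two]
    rw [hconj] at hbc
    have h1 : Commute b (x ^ 2) := by simpa using hbc.mul_right (hcomm b hb.1 a ha).inv_right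
    have h2 : Commute x b := commute_of_commute_sq hxo h1.symm
    have hbx : b * x * b = x := by rw [← h2.eq, mul_assoc, hsq b hb.1, mul_one]
    refine ⟨x, b, hb.1, hb1, ?_, hxo, hx1, hxa, hbx, ?_⟩
    · rintro rfl
      rw [hxa] at hbx
      exact hx1 (eq_one_of_pow_two_pow hxo (k := 1) (by rw [pow_one, pow_two]; nth_rw 1 [← hbx]; rw [inv_mul_cancel]))
    · calc a * b * x * (a * b) = a * (b * x * b) * a := by
            rw [(hcomm a ha b hb.1).eq]; nth_rw 1 [← (hcomm a ha b hb.1).eq]; group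
        _ = x⁻¹ := by rw [hbx, hxa]
  have hne : A ≠ ⊥ := by
    intro e
    have := hA.card_four
    rw [e, Subgroup.card_bot] at this
    omega
  obtain ⟨a, ha⟩ := Subgroup.ne_bot_iff_exists_ne_one.1 hne
  have ha1 : (a : G) ≠ 1 := fun e => ha (Subtype.ext e)
  obtain ⟨x, b, hb, hb1, hba, hxo, hx1, hxa, hxb, hxc⟩ := step a a.2 ha1
  obtain ⟨y, e, he, he1, heb, hyo, hy1, hyb, hye, hyc⟩ := step b hb hb1
  have hab : (a : G) * b ∈ A := mul_mem a.2 hb
  have hab1 : (a : G) * b ≠ 1 := fun h' => hba (by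
    rw [mul_eq_one_iff_inv_eq, inv_eq_of_mul_eq_one_right (hsq a a.2)] at h'
    exact h'.symm)
  have htriv : ∀ z ∈ A, z ≠ 1 → z = a ∨ z = b ∨ z = (a : G) * b := by
    intro z hz hz1
    by_contra hh
    push Not at hh
    obtain ⟨h1, h2, h3⟩ := hh
    have : Nat.card ↥({(1 : G), (a : G), b, (a : G) * b, z} : Finset G) ≤ Nat.card ↥A :=
      Nat.card_le_card_of_injective (fun w => (⟨w.1, by
        have := w.2
        simp only [Finset.mem_insert, Finset.mem_singleton] at this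
        rcases this with e | e | e | e | e <;> rw [e]
        exacts [one_mem _, a.2, hb, hab, hz]⟩ : ↥A)) (fun w w' e => Subtype.ext (congrArg Subtype.val e : _))
    rw [hA.card_four, Nat.card_eq_fintype_card, Fintype.card_coe] at this
    have hca : (a : G) * b ≠ a := fun e => hb1 (by simpa using e)
    have hcb : (a : G) * b ≠ b := fun e => ha1 (by simpa using e)
    rw [Finset.card_insert_of_notMem, Finset.card_insert_of_notMem, Finset.card_insert_of_notMem,
      Finset.card_insert_of_notMem, Finset.card_singleton] at this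
    · omega
    all_goals simp [Ne.symm ha1, Ne.symm hb1, Ne.symm hab1, Ne.symm hz1, Ne.symm h1, Ne.symm h2, Ne.symm h3,
      Ne.symm hba, Ne.symm hca, Ne.symm hcb]
  have hA' : ∀ p q r : G, (∀ z ∈ A, z ≠ 1 → z = p ∨ z = q ∨ z = r) → p ∈ A → p ≠ 1 → r ∈ A → r ≠ 1 →
      ∀ g : G, (∃ e, (e = p ∨ e = q ∨ e = r) ∧ Commute e (g * p * g⁻¹)) ∧
        (∃ e, (e = p ∨ e = q ∨ e = r) ∧ Commute e (g * r * g⁻¹)) := by
    intro p q r hpqr hp hp1 hr hr1 g
    have key : ∀ s ∈ A, s ≠ 1 → ∃ e, (e = p ∨ e = q ∨ e = r) ∧ Commute e (g * s * g⁻¹) := by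
      intro s hs hs1
      obtain ⟨z, hz⟩ := Subgroup.ne_bot_iff_exists_ne_one.1 (h s hs hs1 g)
      exact ⟨z, hpqr z z.2.1 (fun e => hz (Subtype.ext e)), Subgroup.mem_centralizer_singleton_iff.1 z.2.2⟩
    exact ⟨key p hp hp1, key r hr hr1⟩
  have c1 := hcomm a a.2 b hb
  have c2 := hcomm a a.2 _ hab
  have c3 := hcomm b hb _ hab
  rcases htriv e he he1 with rfl | rfl | rfl
  · rw [show b * (a : G) = a * b from c1.symm.eq] at hyc
    exact core (hsq a a.2) (hsq b hb) (hsq _ hab) c1 c2 c3 (hA' _ _ _ htriv a.2 ha1 hab hab1)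
      hxo hx1 hxa hxb hxc hyo hy1 hye hyb hyc
  · exact absurd rfl heb
  · have e1 : b * ((a : G) * b) = a := by
      rw [c1.eq, ← mul_assoc, hsq b hb, one_mul]
    rw [e1] at hyc
    exact core (a := (a : G) * b) (b := b) (c := (a : G)) (hsq _ hab) (hsq b hb) (hsq a a.2) c3.symm c2.symm c1.symm
      (hA' _ _ _ (fun z hz hz1 => by rcases htriv z hz hz1 with e | e | e <;> tauto) hab hab1 a.2 ha1)
      hxo hx1 hxc hxb hxa hyo hy1 hye hyb hyc

end Cfsg.Agent.Inv.KleinCommuting
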