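import Cfsg.Agent.Lib.Inv.ZStar
import Cfsg.Agent.Lib.Inv.SylowIn
import Mathlib.GroupTheory.Perm.Cycle.Type

/-!
# Involution classes with all products of `p`-power order
-/

set_option autoImplicit false

open Cfsg

namespace Cfsg.Agent.Inv

variable {G : Type*} [Group G] [Finite G]

/-- An involution normalising a subgroup of odd order normalises one of its Sylow subgroups. -/
theorem exists_invariant_sylow {K : Subgroup G} [K.Normal] (hK : Odd (Nat.card K)) (q : ℕ)
    [Fact q.Prime] {d : G} (hd : orderOf d = 2) :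
    ∃ Q : Sylow q K, ∀ x : K, x ∈ Q → (MulAut.conjNormal d : MulAut K) x ∈ Q := by
  classical
  haveI : Fintype (Sylow q K) := Fintype.ofFinite _
  let σ : Equiv.Perm (Sylow q K) := MulAction.toPermHom (MulAut K) (Sylow q K) (MulAut.conjNormal d)
  have hσ : σ ^ 2 ^ 1 = 1 := by
    rw [pow_one, ← map_pow, ← map_pow, show d ^ 2 = 1 from
      orderOf_dvd_iff_pow_eq_one.1 (dvd_of_eq hd), map_one, map_one]
  have hodd : ¬ 2 ∣ Fintype.card (Sylow q K) := by
    obtain ⟨P⟩ := (inferInstance : Nonempty (Sylow q K))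
    rw [← Nat.card_eq_fintype_card]
    intro h
    exact Nat.not_even_iff_odd.2 hK
      (even_iff_two_dvd.2 (h.trans (P.card_dvd_index.trans (Subgroup.index_dvd_card _))))
  haveI : Fact (Nat.Prime 2) := ⟨Nat.prime_two⟩
  obtain ⟨Q, hQ⟩ := Equiv.Perm.exists_fixed_point_of_prime (p := 2) (n := 1) hodd hσ
  refine ⟨Q, fun x hx => ?_⟩
  have h : (MulAut.conjNormal d : MulAut K) x ∈ ((MulAut.conjNormal d : MulAut K) • Q : Sylow q K) :=
    ⟨x, hx, rfl⟩
  rwa [show (MulAut.conjNormal d : MulAut K) • Q = Q from hQ] at h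

/-- If all products of two conjugates of an involution have `p`-power order, `p` odd, they lie in
`O_p`. -/
theorem products_mem_pCore {p : ℕ} (hp : p.Prime) (hp2 : p ≠ 2) {d : G} (hd : orderOf d = 2)
    (hprod : ∀ a ∈ conjugatesOf d, ∀ b ∈ conjugatesOf d, ∃ k : ℕ, orderOf (a * b) = p ^ k) :
    ∀ a ∈ conjugatesOf d, ∀ b ∈ conjugatesOf d, a * b ∈ pCore p G := by
  classical
  haveI := Fact.mk hp
  have hmem : ∀ g : G, g * d * g⁻¹ ∈ conjugatesOf d := fun g => isConj_iff.2 ⟨g, rfl⟩
  have hiso : IsIsolatedInvolution d := isolated_of_odd hd fun g => by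
    obtain ⟨k, hk⟩ := hprod d (IsConj.refl d) _ (hmem g)
    rw [hk]; exact (hp.odd_of_ne_two hp2).pow
  set K := oddCore G with hK
  have hKodd : Odd (Nat.card K) := Local.oddCore_card_odd
  have hinv := inv_eq_self_of_orderOf_two hd
  -- every conjugate is a conjugate under `K`
  have hKconj : ∀ g : G, ∃ k : K, g * d * g⁻¹ = k * d * (k : G)⁻¹ := by
    intro g
    obtain ⟨-, -, h⟩ := isolated_root hiso g
    refine ⟨⟨oddRoot (g * d * g⁻¹ * d), ?_⟩, h.symm⟩
    have h1 : g * d * g⁻¹ * d ∈ K := by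
      have := inv_mem (glauberman hiso g)
      rw [mul_inv_rev, mul_inv_rev, mul_inv_rev, inv_inv, inv_inv, hinv] at this
      simpa [mul_assoc] using this
    exact Subgroup.zpowers_le.2 h1 (oddRoot_mem_zpowers _)
  set C : Subgroup K := (Subgroup.centralizer ({d} : Set G)).subgroupOf K with hC
  -- the index of the centralizer in `K` is a power of `p`
  have hidx : ∀ q : ℕ, q.Prime → q ≠ p → ¬ q ∣ C.index := by
    intro q hq hqp
    haveI := Fact.mk hq
    obtain ⟨Q, hQ⟩ := exists_invariant_sylow hKodd q hd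
    have hle : (Q : Subgroup K) ≤ C := by
      intro x hx
      rw [hC, Subgroup.mem_subgroupOf, Subgroup.mem_centralizer_singleton_iff]
      have hy : x * (MulAut.conjNormal d : MulAut K) x⁻¹ ∈ Q := mul_mem hx (hQ _ (inv_mem hx))
      have hval : ((x * (MulAut.conjNormal d : MulAut K) x⁻¹ : K) : G) = (x : G) * d * (x : G)⁻¹ * d := by
        rw [Subgroup.coe_mul, MulAut.conjNormal_apply, Subgroup.coe_inv, hinv]
        simp only [mul_assoc]
      obtain ⟨k, hk⟩ := hprod _ (hmem x) d (IsConj.refl d)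
      obtain ⟨j, hj⟩ := IsPGroup.iff_orderOf.1 Q.isPGroup' ⟨_, hy⟩
      rw [← hval, Subgroup.orderOf_coe] at hk
      rw [← Subgroup.orderOf_coe, hk] at hj
      have h1 : orderOf (x * (MulAut.conjNormal d : MulAut K) x⁻¹) = 1 := by
        rw [hk]
        by_contra hne
        have hk0 : k ≠ 0 := fun h => hne (by rw [h, pow_zero])
        have hdv : p ∣ q ^ j := hj ▸ dvd_pow_self p hk0
        exact hqp ((Nat.prime_dvd_prime_iff_eq hp hq).1 (hp.dvd_of_dvd_pow hdv)).symm
      have h2 := congrArg Subtype.val (orderOf_eq_one_iff.1 h1)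
      rw [hval, Subgroup.coe_one] at h2
      have h3 := eq_inv_of_mul_eq_one_left h2
      rw [hinv] at h3
      exact mul_inv_eq_iff_eq_mul.1 h3
    intro h
    exact Q.not_dvd_index (h.trans (Subgroup.index_dvd_of_le hle))
  obtain ⟨P, hP⟩ := exists_invariant_sylow hKodd p hd
  -- `P` is transitive on the class
  have hsurj : ∀ k : K, ∃ x : K, x ∈ P ∧ (k : G) * d * (k : G)⁻¹ = x * d * (x : G)⁻¹ := by
    set D : Subgroup (P : Subgroup K) := C.subgroupOf P with hD
    let f : (P : Subgroup K) ⧸ D → K ⧸ C := Quotient.map' Subtype.val fun a b hab => by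
      rw [QuotientGroup.leftRel_apply] at hab ⊢
      exact hab
    have hf : Function.Injective f := by
      intro a b
      induction a using QuotientGroup.induction_on with | _ a => ?_
      induction b using QuotientGroup.induction_on with | _ b => ?_
      intro h
      have h' : (QuotientGroup.mk (a : K) : K ⧸ C) = QuotientGroup.mk (b : K) := h
      have h2 : (a : K)⁻¹ * (b : K) ∈ C := QuotientGroup.eq.1 h'
      exact QuotientGroup.eq.2 h2
    have hcard : C.index ≤ D.index := by
      refine Nat.le_of_dvd (Nat.pos_of_ne_zero Subgroup.index_ne_zero_of_finite) ?_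
      have hpw : ∃ a, C.index = p ^ a :=
        ⟨_, Nat.eq_prime_pow_of_unique_prime_dvd Subgroup.index_ne_zero_of_finite
          fun {q} hq hqd => by_contra fun hne => hidx q hq hne hqd⟩
      obtain ⟨a, ha⟩ := hpw
      obtain ⟨b, hb⟩ := P.isPGroup'.exists_card_eq
      obtain ⟨c, hc⟩ := (P.isPGroup'.to_subgroup D).exists_card_eq
      have h1 : p ^ (a + c) ∣ Nat.card K := by
        rw [pow_add, ← ha, ← hc, ← C.card_mul_index, mul_comm]
        refine mul_dvd_mul_right ?_ _
        rw [← Subgroup.card_subtype _ D]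
        refine Subgroup.card_dvd_of_le ?_
        rintro _ ⟨x, hx, rfl⟩
        exact hx
      have h2 : p ^ (a + c) ∣ Nat.card (P : Subgroup K) := P.pow_dvd_card_of_pow_dvd_card h1
      rw [ha]
      refine (Nat.mul_dvd_mul_iff_right (Nat.pos_of_ne_zero (pow_ne_zero c hp.ne_zero))).1 ?_
      rw [← pow_add, ← hc, mul_comm D.index, D.card_mul_index]
      exact h2
    have hbij := hf.bijective_of_nat_card_le hcard
    intro k
    obtain ⟨q, hq⟩ := hbij.2 (QuotientGroup.mk k)
    induction q using QuotientGroup.induction_on with | _ x => ?_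
    have h3 : (x : K)⁻¹ * k ∈ C := QuotientGroup.eq.1 hq
    refine ⟨x, x.2, ?_⟩
    rw [hC, Subgroup.mem_subgroupOf, Subgroup.mem_centralizer_singleton_iff] at h3
    simp only [Subgroup.coe_mul, Subgroup.coe_inv] at h3
    calc (k : G) * d * (k : G)⁻¹ = ((x : K) : G) * (((x : K) : G)⁻¹ * k * d) * (k : G)⁻¹ := by group
      _ = ((x : K) : G) * d * ((x : K) : G)⁻¹ := by rw [h3]; group
  -- all products lie in `P`
  set N := Subgroup.closure {g : G | ∃ a ∈ conjugatesOf d, ∃ b ∈ conjugatesOf d, g = a * b} with hN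
  have hNP : N ≤ (P : Subgroup K).map K.subtype := by
    rw [hN, Subgroup.closure_le]
    rintro _ ⟨a, ha, b, hb, rfl⟩
    obtain ⟨g, rfl⟩ := isConj_iff.1 ha
    obtain ⟨g', rfl⟩ := isConj_iff.1 hb
    obtain ⟨k, hk⟩ := hKconj g
    obtain ⟨k', hk'⟩ := hKconj g'
    obtain ⟨x, hx, hxe⟩ := hsurj k
    obtain ⟨y, hy, hye⟩ := hsurj k'
    rw [hk, hk', hxe, hye]
    refine ⟨x * (MulAut.conjNormal d : MulAut K) (x⁻¹ * y) * y⁻¹,
      mul_mem (mul_mem hx (hP _ (mul_mem (inv_mem hx) hy))) (inv_mem hy), ?_⟩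
    simp only [Subgroup.subtype_apply, Subgroup.coe_mul, MulAut.conjNormal_apply, Subgroup.coe_inv,
      hinv, mul_assoc]
  haveI : N.Normal := ⟨fun n hn g => by
    have hle : N ≤ N.comap (MulAut.conj g).toMonoidHom := by
      rw [hN, Subgroup.closure_le]
      rintro _ ⟨a, ha, b, hb, rfl⟩
      refine Subgroup.subset_closure ⟨g * a * g⁻¹, ha.trans (isConj_iff.2 ⟨g, rfl⟩),
        g * b * g⁻¹, hb.trans (isConj_iff.2 ⟨g, rfl⟩), ?_⟩
      show g * (a * b) * g⁻¹ = _
      group
    exact hle hn⟩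
  intro a ha b hb
  exact Solv.le_pCore ((P.isPGroup'.map K.subtype).to_le hNP)
    (Subgroup.subset_closure ⟨a, ha, b, hb, rfl⟩)

end Cfsg.Agent.Inv
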