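import Cfsg.Agent.Lib.Inv.Exceptional
import Cfsg.Agent.Lib.Inv.SectionBlock
import Cfsg.Agent.Lib.Block.RegVirtual

/-!
# The centraliser of the involution when the Sylow 2-subgroup is quaternion of order 8

In a group `G` with a central involution `z = x ^ 2`, all elements of order 4 conjugate to `x`,
we construct three generalised characters supported on the elements of even order.
-/

set_option autoImplicit false

open Cfsg Cfsg.Agent.Char Finset
open scoped ComplexConjugate

namespace Cfsg.Agent.Inv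

open Cfsg.Agent.Block

universe u

variable {G : Type u} [Group G]

/-! ## Small general lemmas -/

theorem rep_eq_smul_of_mem_center [Finite G] {n : ℕ} (ρ : Representation ℂ G (Fin n → ℂ))
    (hρ : ρ.IsIrreducible) {c : G} (hc : c ∈ Subgroup.center G) :
    ρ c = (ρ.character c / ρ.character 1) • (1 : Module.End ℂ (Fin n → ℂ)) := by
  have hcen : IsCentralElt (MonoidAlgebra.single c (1 : ℂ)) := (isCentralElt_iff_commute _).2 fun g => by
    rw [MonoidAlgebra.single_mul_single, MonoidAlgebra.single_mul_single,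
      Subgroup.mem_center_iff.1 hc g]
  have h := asAlgebraHom_central ρ hρ hcen
  rw [Representation.asAlgebraHom_single_one] at h
  rw [h]
  congr 1
  simp [omega]

theorem apply_central_mul [Finite G] (χ : IrrCharacter G) {c : G} (hc : c ∈ Subgroup.center G)
    (g : G) : (χ : G → ℂ) (c * g) = (χ : G → ℂ) c / (χ : G → ℂ) 1 * (χ : G → ℂ) g := by
  obtain ⟨n, ρ, hρ, hχ⟩ := χ.2
  rw [← hχ]
  conv_lhs => rw [Representation.character, map_mul, rep_eq_smul_of_mem_center ρ hρ hc,
    smul_mul_assoc, one_mul, map_smul, smul_eq_mul]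
  rfl

theorem central_involution_sign [Finite G] (χ : IrrCharacter G) {c : G}
    (hc : c ∈ Subgroup.center G) (hc2 : orderOf c = 2) :
    (∀ g, (χ : G → ℂ) (c * g) = (χ : G → ℂ) g) ∨ ∀ g, (χ : G → ℂ) (c * g) = -(χ : G → ℂ) g := by
  have h1 := IsIrrCharacter.apply_one_ne_zero χ.2
  have h := apply_central_mul χ hc c
  rw [mul_self_of_orderOf_two hc2] at h
  have hsq : ((χ : G → ℂ) c / (χ : G → ℂ) 1) ^ 2 = 1 := by
    rw [pow_two, div_mul_div_comm, div_eq_one_iff_eq (mul_ne_zero h1 h1)]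
    field_simp at h
    linear_combination -h
  rcases sq_eq_one_iff.1 hsq with e | e
  · exact Or.inl fun g => by rw [apply_central_mul χ hc, e, one_mul]
  · exact Or.inr fun g => by rw [apply_central_mul χ hc, e, neg_one_mul]

variable {M : Ideal AlgInt} [hMp : M.IsPrime]

theorem memLocalIdeal_pow_four_root_sub_one (hM : IsPModular 2 M) {w : ℂ} (hw : w ^ 4 = 1) :
    MemLocalIdeal M (w - 1) := by
  have hl : w ∈ locRing M :=
    isIntegral_mem_locRing (IsIntegral.of_pow (by norm_num : 0 < 4) (by rw [hw]; exact isIntegral_one))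
  have h4 : MemLocalIdeal M ((w - 1) ^ 4) := by
    have e : (w - 1) ^ 4 = ((2 : ℕ) : ℂ) * (1 - 2 * w ^ 3 + 3 * w ^ 2 - 2 * w) := by
      linear_combination hw
    rw [e]
    refine memLocalIdeal_mul_right ?_ ((memLocalIdeal_natCast_iff hM.1 hM.2.2 2).2 dvd_rfl)
    exact sub_mem (add_mem (sub_mem (one_mem _) (mul_mem (natCast_mem _ 2) (pow_mem hl 3)))
      (mul_mem (natCast_mem _ 3) (pow_mem hl 2))) (mul_mem (natCast_mem _ 2) hl)
  have hl' : w - 1 ∈ locRing M := sub_mem hl (one_mem _)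
  rw [show (w - 1) ^ 4 = (w - 1) ^ 2 * (w - 1) ^ 2 by ring] at h4
  rcases memLocalIdeal_of_mul (pow_mem hl' 2) (pow_mem hl' 2) h4 with h | h <;>
  · rw [pow_two] at h
    rcases memLocalIdeal_of_mul hl' hl' h with h | h <;> exact h

/-- Multiplying by a commuting element of order 4 does not change a character modulo `M`. -/
theorem char_congr_mul_four [Finite G] (hM : IsPModular 2 M) {χ : G → ℂ} (hχ : IsCharacter G χ)
    {g u : G} (hgu : Commute g u) (hu : orderOf u = 4) (hg : Odd (orderOf g)) :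
    MemLocalIdeal M (χ (g * u) - χ g) := by
  classical
  have hcop : Nat.Coprime (orderOf g) (orderOf u) := by
    rw [hu, show (4 : ℕ) = 2 ^ 2 from rfl]; exact (Nat.coprime_two_right.2 hg).pow_right 2
  set U := Subgroup.zpowers (g * u)
  have ho : orderOf (g * u) = orderOf g * orderOf u :=
    hgu.orderOf_mul_eq_mul_orderOf_of_coprime hcop
  have huU : u ∈ U := by
    have h1 : u ^ orderOf g ∈ U := by
      have : (g * u) ^ orderOf g = u ^ orderOf g := by
        rw [hgu.mul_pow, pow_orderOf_eq_one, one_mul]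
      rw [← this]; exact Subgroup.pow_mem _ (Subgroup.mem_zpowers _) _
    obtain ⟨a, b, hab⟩ := Int.isCoprime_iff_nat_coprime.2
      (show Nat.Coprime (Int.natAbs (orderOf g : ℤ)) (Int.natAbs (orderOf u : ℤ)) from hcop)
    have e : u = (u ^ orderOf g) ^ a := by
      rw [← zpow_natCast, ← zpow_mul, mul_comm,
        show a * (orderOf g : ℤ) = 1 - b * (orderOf u : ℤ) by linarith, zpow_sub, zpow_one,
        mul_comm b, zpow_mul, zpow_natCast, pow_orderOf_eq_one, one_zpow, inv_one, mul_one]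
    rw [e]; exact Subgroup.zpow_mem _ h1 _
  have hgU : g ∈ U := by
    simpa using U.mul_mem (Subgroup.mem_zpowers (g * u)) (U.inv_mem huU)
  haveI := Fintype.ofFinite U
  haveI := Fintype.ofFinite (IrrCharacter U)
  obtain ⟨c, hc, -⟩ := IsGeneralizedCharacter.exists_intCoeff
    (IsCharacter.isGeneralized (IsCharacter.restrict hχ U))
  have h1 := congrFun hc (⟨g, hgU⟩ * ⟨u, huU⟩)
  have h2 := congrFun hc ⟨g, hgU⟩
  simp only [Subgroup.coe_mul, Finset.sum_apply, Pi.smul_apply, smul_eq_mul] at h1 h2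
  rw [h1, h2, ← Finset.sum_sub_distrib]
  refine memLocalIdeal_sum _ _ fun μ _ => ?_
  obtain ⟨l, hl⟩ := IsCharacter.exists_monoidHom (IsIrrCharacter.isCharacter μ.2)
    (IsIrrCharacter.degree_one_of_comm μ.2 fun a b => Subtype.ext (by
      obtain ⟨_, i, rfl⟩ := a
      obtain ⟨_, j, rfl⟩ := b
      exact zpow_mul_comm (g * u) i j))
  rw [hl]
  simp only [map_mul, Units.val_mul]
  rw [show (c μ : ℂ) * ((l ⟨g, hgU⟩ : ℂ) * (l ⟨u, huU⟩ : ℂ)) - (c μ : ℂ) * (l ⟨g, hgU⟩ : ℂ) =
    (c μ : ℂ) * (l ⟨g, hgU⟩ : ℂ) * ((l ⟨u, huU⟩ : ℂ) - 1) by ring]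
  refine memLocalIdeal_mul_left (mul_mem (intCast_mem_locRing _) ?_)
    (memLocalIdeal_pow_four_root_sub_one hM ?_)
  · have := irr_mem_locRing (M := M) μ (⟨g, hgU⟩ : U)
    rwa [hl] at this
  · rw [← Units.val_pow_eq_pow_val, ← map_pow,
      show (⟨u, huU⟩ : U) ^ 4 = 1 from Subtype.ext (by simpa [← hu] using pow_orderOf_eq_one u),
      map_one, Units.val_one]

/-- Averaging a class function through conjugacy classes. -/
theorem avg_eq_sum_classes [Fintype G] [Fintype (ConjClasses G)] {f : G → ℂ}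
    (hf : IsClassFunction G f) :
    (Nat.card G : ℂ)⁻¹ * ∑ g, f g = ∑ C : ConjClasses G,
      f (classRep C) / (Nat.card (Subgroup.centralizer ({classRep C} : Set G)) : ℂ) := by
  classical
  rw [← Finset.sum_fiberwise Finset.univ ConjClasses.mk f, Finset.mul_sum]
  refine Finset.sum_congr rfl fun C _ => ?_
  have hfil : (Finset.univ.filter fun g : G => ConjClasses.mk g = C) =
      Finset.univ.filter fun g => IsConj (classRep C) g := by
    refine Finset.filter_congr fun g _ => ?_
    rw [← ConjClasses.mk_eq_mk_iff_isConj, mk_classRep, eq_comm]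
  rw [hfil, Finset.sum_congr rfl fun g hg =>
    IsClassFunction.apply_isConj hf (Finset.mem_filter.1 hg).2.symm, Finset.sum_const, nsmul_eq_mul,
    ← Fintype.card_subtype, ← Nat.card_eq_fintype_card, card_isConj_eq_index,
    ← Subgroup.card_mul_index (Subgroup.centralizer ({classRep C} : Set G)), Nat.cast_mul]
  have h1 : (Nat.card (Subgroup.centralizer ({classRep C} : Set G)) : ℂ) ≠ 0 :=
    Nat.cast_ne_zero.2 Nat.card_pos.ne'
  have h2 : ((Subgroup.centralizer ({classRep C} : Set G)).index : ℂ) ≠ 0 :=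
    Nat.cast_ne_zero.2 Subgroup.index_ne_zero_of_finite
  field_simp

/-- The local hypotheses: the centraliser of the involution in the order 8 quaternion case. -/
structure Q8Local (G : Type u) [Group G] (D : CycData G) : Prop where
  rankOne : TwoRankOne G
  ord : orderOf D.a = 4
  central : D.x ^ 2 ∈ Subgroup.center G
  fused : ∀ u : G, orderOf u = 4 → IsConj D.x u
  sixteen : ¬ 16 ∣ Nat.card G

namespace Q8Local

variable {D : CycData G} (L : Q8Local G D)
include L

omit L in
theorem x_eq (h : orderOf D.a = 4) : D.x = D.a := by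
  rw [CycData.x, h]; simp

theorem orderOf_z : orderOf (D.x ^ 2) = 2 := orderOf_sq_of_four D.orderOf_x

theorem eq_z {s : G} (hs : orderOf s = 2) : s = D.x ^ 2 :=
  L.rankOne s _ hs L.orderOf_z (Subgroup.mem_center_iff.1 L.central s)

theorem orderOf_z_mul_of_odd {g : G} (hg : Odd (orderOf g)) :
    orderOf (D.x ^ 2 * g) = 2 * orderOf g := by
  rw [(show Commute (D.x ^ 2) g from (Subgroup.mem_center_iff.1 L.central g).symm).orderOf_mul_eq_mul_orderOf_of_coprime
    (by rw [L.orderOf_z]; exact (Nat.coprime_two_left).2 hg), L.orderOf_z]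

variable [Finite G]

theorem z_eq_pow {g : G} (hg : Even (orderOf g)) : g ^ (orderOf g / 2) = D.x ^ 2 :=
  L.eq_z (orderOf_pow_half g hg)

theorem odd_orderOf_z_mul {g : G} (hg : Even (orderOf g)) (h4 : ¬ 4 ∣ orderOf g) :
    Odd (orderOf (D.x ^ 2 * g)) := by
  obtain ⟨m, hm⟩ := even_iff_two_dvd.1 hg
  have hmodd : Odd m := by
    rcases Nat.even_or_odd m with ⟨q, rfl⟩ | h
    · exact absurd ⟨q, by omega⟩ h4
    · exact h
  have e : D.x ^ 2 * g = g ^ (m + 1) := by
    rw [← L.z_eq_pow hg, hm, Nat.mul_div_cancel_left m two_pos, pow_succ]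
  rw [e]
  obtain ⟨q, hq⟩ := hmodd
  refine (Odd.of_dvd_nat (n := m) ⟨q, hq⟩ (orderOf_dvd_of_pow_eq_one ?_))
  rw [← pow_mul, show (m + 1) * m = orderOf g * (q + 1) by rw [hm, hq]; ring, pow_mul,
    pow_orderOf_eq_one, one_pow]

theorem four_dvd_z_mul {g : G} (h4 : 4 ∣ orderOf g) : 4 ∣ orderOf (D.x ^ 2 * g) := by
  by_contra h
  rcases Nat.even_or_odd (orderOf (D.x ^ 2 * g)) with he | ho
  · have h1 := L.odd_orderOf_z_mul he h
    rw [← mul_assoc, mul_self_of_orderOf_two L.orderOf_z, one_mul] at h1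
    exact Nat.not_even_iff_odd.2 h1 (even_iff_two_dvd.2 ((show 2 ∣ 4 by norm_num).trans h4))
  · have h1 := L.orderOf_z_mul_of_odd ho
    rw [← mul_assoc, mul_self_of_orderOf_two L.orderOf_z, one_mul] at h1
    obtain ⟨q, hq⟩ := h4
    exact Nat.not_even_iff_odd.2 ho ⟨q, by omega⟩

theorem four_dvd_z_mul_iff {g : G} : 4 ∣ orderOf (D.x ^ 2 * g) ↔ 4 ∣ orderOf g := by
  refine ⟨fun h => ?_, L.four_dvd_z_mul⟩
  have := L.four_dvd_z_mul h
  rwa [← mul_assoc, mul_self_of_orderOf_two L.orderOf_z, one_mul] at this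

/-- Splitting a sum by the 2-part. -/
theorem sum_split [Fintype G] (f : G → ℂ) :
    ∑ g, f g = ∑ g with Odd (orderOf g), f g + ∑ g with Odd (orderOf g), f (D.x ^ 2 * g) +
      ∑ g with 4 ∣ orderOf g, f g := by
  classical
  rw [← Finset.sum_filter_add_sum_filter_not Finset.univ (fun g : G => Odd (orderOf g)), add_assoc]
  congr 1
  rw [← Finset.sum_filter_add_sum_filter_not (Finset.univ.filter fun g : G => ¬ Odd (orderOf g))
    (fun g => ¬ 4 ∣ orderOf g), Finset.filter_filter, Finset.filter_filter]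
  have hz := mul_self_of_orderOf_two L.orderOf_z
  congr 1
  · refine Finset.sum_nbij' (fun g => D.x ^ 2 * g) (fun g => D.x ^ 2 * g) ?_ ?_
      (fun g _ => by rw [← mul_assoc, hz, one_mul]) (fun g _ => by rw [← mul_assoc, hz, one_mul])
      (fun g _ => by rw [← mul_assoc, hz, one_mul])
    · intro g hg
      simp only [Finset.coe_filter, Finset.mem_filter, Finset.mem_coe, Finset.mem_univ, true_and,
        Set.mem_setOf_eq] at hg ⊢
      exact L.odd_orderOf_z_mul (Nat.not_odd_iff_even.1 hg.1) hg.2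
    · intro g hg
      simp only [Finset.coe_filter, Finset.mem_filter, Finset.mem_coe, Finset.mem_univ, true_and,
        Set.mem_setOf_eq] at hg ⊢
      rw [L.orderOf_z_mul_of_odd hg]
      refine ⟨Nat.not_odd_iff_even.2 (even_two_mul _), fun h => ?_⟩
      obtain ⟨q, hq⟩ := h
      obtain ⟨r, hr⟩ := hg
      omega
  · refine Finset.sum_congr (Finset.filter_congr fun g _ => ?_) fun _ _ => rfl
    rw [not_not]
    exact ⟨fun h => h.2, fun h => ⟨fun ho => Nat.not_even_iff_odd.2 ho
      (even_iff_two_dvd.2 ((show 2 ∣ 4 by norm_num).trans h)), h⟩⟩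

theorem exists_characters (hM : IsPModular 2 M) [Fintype G] :
    ∃ (S : Finset (IrrCharacter G)) (e : IrrCharacter G → ℤ),
      S.card = 3 ∧ trivChar G ∉ S ∧
      4 * (Finset.univ.filter fun g : G => 4 ∣ orderOf g).card = Nat.card G ∧
      IsGeneralizedCharacter G (fun g => if 4 ∣ orderOf g then (4 : ℂ) else 0) ∧
      (1 + ∑ ψ ∈ S, (e ψ : ℂ) * (ψ : G → ℂ) 1 = 0) ∧
      ∀ ψ ∈ S, (e ψ = 1 ∨ e ψ = -1) ∧ (∀ g : G, (ψ : G → ℂ) (D.x ^ 2 * g) = (ψ : G → ℂ) g) ∧
        ∀ g : G, 4 ∣ orderOf g → (ψ : G → ℂ) g = (e ψ : ℂ) := by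
  classical
  haveI := Fintype.ofFinite (IrrCharacter G)
  obtain ⟨lam, K, hlam, hy, hord, hsq, hKC, hKn, hKodd, hdec⟩ := D.exists_lambda L.rankOne
  have hxa : D.x = D.a := x_eq L.ord
  set xC : Subgroup.centralizer ({D.x} : Set G) := ⟨D.a, D.mem_centralizer_a⟩ with hxC
  rw [L.ord] at hord
  have hne : lam ≠ 1 := fun he => by
    rw [he, MonoidHom.one_apply, orderOf_one] at hord
    omega
  have hsq' : ∀ c, lam c ^ 2 = 1 := hsq L.ord
  have hsq1 : lam ^ 2 = 1 := MonoidHom.ext fun c => by rw [MonoidHom.pow_apply, hsq']; rfl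
  set Φ := indFun (Subgroup.centralizer ({D.x} : Set G)) (D.theta lam) with hΦ
  have hgen : IsGeneralizedCharacter G Φ := isGeneralizedCharacter_indFun _ (D.isGeneralized_theta lam)
  have hlamx : (lam xC : ℂ) = -1 := by
    have h1 : (lam xC : ℂ) ^ 2 = 1 := by rw [← Units.val_pow_eq_pow_val, hsq']; rfl
    refine (sq_eq_one_iff.1 h1).resolve_left fun h2 => ?_
    have h2' : lam xC = 1 := Units.ext h2
    rw [show lam ⟨D.a, D.mem_centralizer_a⟩ = 1 from h2', orderOf_one] at hord
    omega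
  -- normal form of elements of order divisible by 4
  have hnorm4 : ∀ g : G, 4 ∣ orderOf g → ∃ (c : G) (t k : G), c * g * c⁻¹ = t * k ∧
      (t = D.x ∨ t = D.x⁻¹) ∧ k ∈ K ∧ c * g * c⁻¹ ∈ Subgroup.centralizer ({D.x} : Set G) := by
    intro g h4
    have hu : orderOf (g ^ (orderOf g / 4)) = 4 := by
      rw [orderOf_pow_of_dvd (Nat.div_pos (Nat.le_of_dvd (orderOf_pos g) h4) (by norm_num)).ne'
        (Nat.div_dvd_of_dvd h4), Nat.div_div_self h4 (orderOf_pos g).ne']
    obtain ⟨c, hc⟩ := isConj_iff.1 (L.fused _ hu).symm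
    rw [← conj_pow] at hc
    have hmem : c * g * c⁻¹ ∈ Subgroup.centralizer ({D.x} : Set G) := by
      rw [Subgroup.mem_centralizer_singleton_iff, ← hc]
      exact (Commute.self_pow _ _).eq
    obtain ⟨t, ht, k, hk, e⟩ := hdec _ hmem
    refine ⟨c, t, k, e, ?_, hk, hmem⟩
    have h4' : 4 ∣ orderOf (t * k) := by rw [← e, orderOf_conj]; exact h4
    have hct : Commute t k := by
      have hk' := Subgroup.mem_centralizer_singleton_iff.1 (hKC hk)
      rw [hxa] at hk'
      obtain ⟨n, rfl⟩ := Subgroup.mem_zpowers_iff.1 ht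
      exact (Commute.zpow_left (show Commute D.a k from hk'.symm) n)
    have ht4 : orderOf t = 4 := by
      have hd : orderOf t ∣ 4 := L.ord ▸ orderOf_dvd_of_mem_zpowers ht
      by_contra hne4
      have h2 : orderOf t ∣ 2 := by
        obtain ⟨j, hj, he⟩ := (Nat.dvd_prime_pow Nat.prime_two).1 (show orderOf t ∣ 2 ^ 2 from hd)
        rcases j with _ | _ | _ | j
        · rw [he]; norm_num
        · rw [he]; norm_num
        · exact absurd he hne4
        · omega
      have h5 : (4 : ℕ) ∣ 2 * Nat.card K := by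
        refine h4'.trans (hct.orderOf_mul_dvd_lcm.trans (Nat.lcm_dvd (h2.trans (dvd_mul_right _ _))
          ((Subgroup.orderOf_dvd_natCard _ hk).trans (dvd_mul_left _ _))))
      exact hKodd (Nat.dvd_of_mul_dvd_mul_left two_pos (show 2 * 2 ∣ 2 * Nat.card K from h5))
    exact eq_or_inv_of_four D.orderOf_x ht4 (hxa ▸ Subgroup.mem_zpowers D.a) ht
  have hlamK : ∀ k (hk : k ∈ K), lam ⟨k, hKC hk⟩ = 1 := fun k hk => hlam _ fun h4 =>
    hKodd ((show 2 ∣ 4 by norm_num).trans (h4.trans (Subgroup.orderOf_dvd_natCard _ hk)))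
  have hΦ4 : ∀ g : G, Φ g = if 4 ∣ orderOf g then 4 else 0 := by
    intro g
    split_ifs with h4
    · obtain ⟨c, t, k, e, ht, hk, hmem⟩ := hnorm4 g h4
      rw [← IsGeneralizedCharacter.isClassFunction hgen g c]
      have h := D.indFun_theta_coe L.rankOne hlam hy ⟨_, hmem⟩
      rw [← hΦ] at h
      rw [h]
      have htC : t ∈ Subgroup.centralizer ({D.x} : Set G) := by
        rcases ht with rfl | rfl
        · exact Subgroup.mem_centralizer_singleton_iff.2 rfl
        · exact inv_mem (Subgroup.mem_centralizer_singleton_iff.2 rfl)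
      have h1 : lam ⟨_, hmem⟩ = lam ⟨t, htC⟩ := by
        rw [show (⟨_, hmem⟩ : Subgroup.centralizer ({D.x} : Set G)) = ⟨t, htC⟩ * ⟨k, hKC hk⟩ from
          Subtype.ext e, map_mul, hlamK k hk, mul_one]
      have h2 : (lam ⟨t, htC⟩ : ℂ) = -1 := by
        rcases ht with rfl | rfl
        · rw [← hlamx]; congr 2; exact Subtype.ext hxa
        · rw [show (⟨D.x⁻¹, htC⟩ : Subgroup.centralizer ({D.x} : Set G)) = xC⁻¹ from
            Subtype.ext (by simp only [Subgroup.coe_inv, hxC]; exact congrArg (·⁻¹) hxa), map_inv, Units.val_inv_eq_inv_val,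
            hlamx]
          norm_num
      rw [h1, Units.val_inv_eq_inv_val, h2]
      norm_num
    · exact D.indFun_theta_eq_zero hlam h4
  have hone := D.classInner_indFun_theta_one hne
  rw [← hΦ] at hone
  have hX : 4 * (Finset.univ.filter fun g : G => 4 ∣ orderOf g).card = Nat.card G := by
    have h := hone
    simp only [classInner, trivChar_apply, map_one, mul_one, hΦ4, ← Finset.sum_filter,
      Finset.sum_const, nsmul_eq_mul] at h
    rw [inv_mul_eq_iff_eq_mul₀ (Nat.cast_ne_zero.2 Nat.card_pos.ne'), mul_one] at h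
    exact_mod_cast (mul_comm _ _).trans h
  have hnormsq := D.classInner_indFun_theta_self L.rankOne hlam hy hne
  rw [if_pos hsq1] at hnormsq
  obtain ⟨S, e, htS, hcard, hpm, he, hsum⟩ := exists_signed_support hgen le_rfl hone hnormsq
  refine ⟨S, e, hcard, htS, hX, ?_, ?_, ?_⟩
  · rw [← funext hΦ4]; exact hgen
  · have h0 := hsum fun χ => (χ : G → ℂ) 1
    rw [trivChar_apply] at h0
    rw [← h0]
    have h1 := congrFun (IsClassFunction.eq_sum (IsGeneralizedCharacter.isClassFunction hgen)) 1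
    rw [hΦ4, orderOf_one, if_neg (by norm_num)] at h1
    simp only [Finset.sum_apply, Pi.smul_apply, smul_eq_mul] at h1
    exact h1.symm
  intro ψ hψ
  have he0 : (e ψ : ℂ) ≠ 0 := by rcases hpm ψ hψ with h | h <;> simp [h]
  have hinner : ∀ f : G → ℂ, classInner Φ f =
      (Nat.card G : ℂ)⁻¹ * ∑ g with 4 ∣ orderOf g, 4 * conj (f g) := fun f => by
    simp only [classInner, hΦ4, ite_mul, zero_mul, ← Finset.sum_filter]
  -- `z` acts trivially
  have hz : ∀ g : G, (ψ : G → ℂ) (D.x ^ 2 * g) = (ψ : G → ℂ) g := by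
    refine (central_involution_sign ψ L.central L.orderOf_z).resolve_right fun hneg => he0 ?_
    rw [← he ψ, hinner]
    have h : ∑ g with 4 ∣ orderOf g, 4 * conj ((ψ : G → ℂ) g) =
        -∑ g with 4 ∣ orderOf g, 4 * conj ((ψ : G → ℂ) g) := by
      rw [← Finset.sum_neg_distrib]
      refine Finset.sum_equiv (Equiv.mulLeft (D.x ^ 2)) (fun g => ?_) fun g _ => ?_
      · simp [L.four_dvd_z_mul_iff]
      · simp [hneg g]
    rw [self_eq_neg.1 h, mul_zero]
  -- the character lies in the principal block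
  haveI := Fintype.ofFinite (Subgroup.centralizer ({D.x} : Set G))
  haveI := Fintype.ofFinite K
  have hpw : ∀ t : G, (t = D.x ∨ t = D.x⁻¹) → (∃ k : ℕ, orderOf t = 2 ^ k) ∧
      (∀ g, g ∈ Subgroup.centralizer ({D.x} : Set G) ↔ Commute t g) := by
    rintro t (rfl | rfl)
    · exact ⟨⟨2, D.orderOf_x⟩, fun g => Subgroup.mem_centralizer_singleton_iff.trans eq_comm⟩
    · refine ⟨⟨2, by rw [orderOf_inv, D.orderOf_x]; rfl⟩, fun g => ?_⟩
      rw [Commute.inv_left_iff]
      exact Subgroup.mem_centralizer_singleton_iff.trans eq_comm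
  have hK0 : ∀ φ : IrrCharacter (Subgroup.centralizer ({D.x} : Set G)),
      (∀ k : Subgroup.centralizer ({D.x} : Set G), (k : G) ∈ K →
        (φ : Subgroup.centralizer ({D.x} : Set G) → ℂ) k = (φ : Subgroup.centralizer ({D.x} : Set G) → ℂ) 1) →
      φ ∈ principalBlock M (Subgroup.centralizer ({D.x} : Set G)) := by
    intro φ hφK g
    have hxcen : xC ∈ Subgroup.center (Subgroup.centralizer ({D.x} : Set G)) :=
      Subgroup.mem_center_iff.2 fun c => Subtype.ext (by
        have h := Subgroup.mem_centralizer_singleton_iff.1 c.2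
        show (c : G) * D.a = D.a * (c : G)
        rw [← hxa]; exact h)
    obtain ⟨t, ht, k, hk, e'⟩ := hdec _ g.2
    obtain ⟨n, rfl⟩ := Subgroup.mem_zpowers_iff.1 ht
    have hg : g = xC ^ n * ⟨k, hKC hk⟩ := Subtype.ext (by
      rw [Subgroup.coe_mul, SubgroupClass.coe_zpow]; exact e')
    have h1 := IsIrrCharacter.apply_one_ne_zero φ.2
    set w := (φ : Subgroup.centralizer ({D.x} : Set G) → ℂ) (xC ^ n) / (φ : Subgroup.centralizer ({D.x} : Set G) → ℂ) 1
    have hw : (φ : Subgroup.centralizer ({D.x} : Set G) → ℂ) g = w * (φ : Subgroup.centralizer ({D.x} : Set G) → ℂ) 1 := by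
      rw [hg, (IsCharacter.apply_mul_of_eq_one (IsIrrCharacter.isCharacter φ.2)
        (hφK ⟨k, hKC hk⟩ hk) _).2, div_mul_cancel₀ _ h1]
    have hw4 : w ^ 4 = 1 := by
      have hc := Subgroup.zpow_mem _ hxcen n
      have hmul : ∀ m : ℕ, (φ : Subgroup.centralizer ({D.x} : Set G) → ℂ) ((xC ^ n) ^ m) = w ^ m * (φ : Subgroup.centralizer ({D.x} : Set G) → ℂ) 1 := fun m => by
        induction m with
        | zero => simp
        | succ m ih => rw [pow_succ', apply_central_mul φ hc, ih, pow_succ']; ring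
      have h4 : (xC ^ n) ^ 4 = 1 := by
        rw [← zpow_natCast, ← zpow_mul, mul_comm, zpow_mul, zpow_natCast,
          show xC ^ 4 = 1 from Subtype.ext (by
            simpa [hxC, ← L.ord] using pow_orderOf_eq_one D.a), one_zpow]
      have := hmul 4
      rw [h4] at this
      exact mul_right_cancel₀ h1 (this.symm.trans (one_mul _).symm)
    show MemLocalIdeal M (centralChar (fun _ => (1 : ℂ)) g - centralChar (φ : Subgroup.centralizer ({D.x} : Set G) → ℂ) g)
    rw [centralChar, centralChar, hw, mul_one, div_one, ← mul_assoc, mul_div_assoc, div_self h1,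
      mul_one, ← mul_one_sub, ← neg_sub w 1]
    exact memLocalIdeal_mul_left (natCast_mem _ _)
      (memLocalIdeal_neg (memLocalIdeal_pow_four_root_sub_one hM hw4))
  have hB : ψ ∈ principalBlock M G := by
    by_contra hB
    apply he0
    rw [← he ψ, hΦ, classInner_indFun _ _ (IsCharacter.isClassFunction (IsIrrCharacter.isCharacter ψ.2)),
      classInner]
    refine mul_eq_zero_of_right _ ?_
    -- `θ` is invariant under right multiplication by `K`
    have hinv : ∀ (k : K) (c : Subgroup.centralizer ({D.x} : Set G)),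
        D.theta lam (c * ⟨k, hKC k.2⟩) = D.theta lam c := fun k c => by
      simp [CycData.theta, hlamK _ k.2]
    have hfold : (Fintype.card K : ℂ) * ∑ c, D.theta lam c * conj ((ψ : G → ℂ) (c : G)) =
        ∑ c, D.theta lam c * conj (∑ k : K, (ψ : G → ℂ) ((c : G) * k)) := by
      rw [show (Fintype.card K : ℂ) * ∑ c, D.theta lam c * conj ((ψ : G → ℂ) (c : G)) =
        ∑ _k : K, ∑ c, D.theta lam c * conj ((ψ : G → ℂ) (c : G)) by
          rw [Finset.sum_const, Finset.card_univ, nsmul_eq_mul]]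
      rw [Finset.sum_congr rfl fun c (_ : c ∈ Finset.univ) => show D.theta lam c *
          conj (∑ k : K, (ψ : G → ℂ) ((c : G) * k)) =
          ∑ k : K, D.theta lam c * conj ((ψ : G → ℂ) ((c : G) * k)) by rw [map_sum, Finset.mul_sum]]
      conv_rhs => rw [Finset.sum_comm]
      refine Finset.sum_congr rfl fun k _ => ?_
      refine (Fintype.sum_equiv (Equiv.mulRight (⟨k, hKC k.2⟩ :
        Subgroup.centralizer ({D.x} : Set G))) _ _ fun c => ?_).symm
      simp only [Equiv.coe_mulRight, Subgroup.coe_mul, hinv]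
    refine (mul_eq_zero.1 (hfold.trans (Finset.sum_eq_zero fun c _ => ?_))).resolve_left
      (Nat.cast_ne_zero.2 Fintype.card_ne_zero)
    by_cases h4 : 4 ∣ orderOf (c : G)
    swap
    · rw [D.theta_eq_zero hlam h4, zero_mul]
    obtain ⟨t, ht, k₀, hk₀, e'⟩ := hdec _ c.2
    have ht' : t = D.x ∨ t = D.x⁻¹ := by
      refine eq_or_inv_of_four D.orderOf_x ?_ (hxa ▸ Subgroup.mem_zpowers D.a) ht
      have hd : orderOf t ∣ 2 ^ 2 := by
        rw [show (2 : ℕ) ^ 2 = orderOf D.a by rw [L.ord]; rfl]; exact orderOf_dvd_of_mem_zpowers ht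
      obtain ⟨j, hj, hje⟩ := (Nat.dvd_prime_pow Nat.prime_two).1 hd
      by_contra hne4
      have h2 : orderOf t ∣ 2 := by
        rcases j with _ | _ | _ | j
        · rw [hje]; norm_num
        · rw [hje]; norm_num
        · exact absurd hje hne4
        · omega
      have hct : Commute t k₀ := by
        have hk' := Subgroup.mem_centralizer_singleton_iff.1 (hKC hk₀)
        rw [hxa] at hk'
        obtain ⟨n, rfl⟩ := Subgroup.mem_zpowers_iff.1 ht
        exact Commute.zpow_left (show Commute D.a k₀ from hk'.symm) n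
      rw [e'] at h4
      have h5 : (4 : ℕ) ∣ 2 * Nat.card K :=
        h4.trans (hct.orderOf_mul_dvd_lcm.trans (Nat.lcm_dvd (h2.trans (dvd_mul_right _ _))
          ((Subgroup.orderOf_dvd_natCard _ hk₀).trans (dvd_mul_left _ _))))
      exact hKodd (Nat.dvd_of_mul_dvd_mul_left two_pos (show 2 * 2 ∣ 2 * Nat.card K from h5))
    obtain ⟨hp2, hcen⟩ := hpw t ht'
    have hs := section_sum_zero hM hp2 hcen hKC hKn hKodd hK0 hB
    rw [show (∑ k : K, (ψ : G → ℂ) ((c : G) * k)) = ∑ k : K, (ψ : G → ℂ) ((k : G) * t) from ?_, hs,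
      map_zero, mul_zero]
    refine Fintype.sum_equiv (Equiv.mulLeft (⟨k₀, hk₀⟩ : K)) _ _ fun k => ?_
    simp only [Equiv.coe_mulLeft, Subgroup.coe_mul]
    rw [e', mul_assoc, ((hcen (k₀ * k)).1 (mul_mem (hKC hk₀) (hKC k.2))).eq]
  -- constancy
  have hconst : ∀ g : G, 4 ∣ orderOf g → (ψ : G → ℂ) g = (ψ : G → ℂ) D.x := by
    intro g h4
    obtain ⟨c, t, k, e', ht, hk, -⟩ := hnorm4 g h4
    obtain ⟨hp2, hcen⟩ := hpw t ht
    rw [← IsCharacter.isClassFunction (IsIrrCharacter.isCharacter ψ.2) g c, e',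
      section_const hM hp2 hcen hKC hKn hKodd hB hk]
    rcases ht with rfl | rfl
    · rfl
    · rw [← D.y_inv, IsCharacter.isClassFunction (IsIrrCharacter.isCharacter ψ.2)]
  have hex : (e ψ : ℂ) = conj ((ψ : G → ℂ) D.x) := by
    rw [← he ψ, hinner, Finset.sum_congr rfl fun g hg => by
      rw [hconst g (Finset.mem_filter.1 hg).2], Finset.sum_const, nsmul_eq_mul]
    rw [← mul_assoc ((Finset.univ.filter fun g : G => 4 ∣ orderOf g).card : ℂ), ← hX, Nat.cast_mul,
      mul_comm ((Finset.univ.filter fun g : G => 4 ∣ orderOf g).card : ℂ) 4, ← mul_assoc,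
      Nat.cast_ofNat, inv_mul_cancel₀, one_mul]
    refine mul_ne_zero (by norm_num) (Nat.cast_ne_zero.2 fun h => ?_)
    rw [h, mul_zero] at hX
    exact Nat.card_pos.ne' hX.symm
  refine ⟨hpm ψ hψ, hz, fun g h4 => ?_⟩
  rw [hconst g h4, ← Complex.conj_conj ((ψ : G → ℂ) D.x), ← hex, map_intCast]

/-- The supported class function attached to `P`. -/
noncomputable def beta (P : G → ℂ) (g : G) : ℂ :=
  if Odd (orderOf g) then 0 else if 4 ∣ orderOf g then -2 else 2 * (1 + P g)

omit L in
theorem beta_odd (P : G → ℂ) {g : G} (hg : Odd (orderOf g)) : beta P g = 0 := if_pos hg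

omit L in
theorem beta_four (P : G → ℂ) {g : G} (hg : 4 ∣ orderOf g) : beta P g = -2 := by
  rw [beta, if_neg, if_pos hg]
  exact Nat.not_odd_iff_even.2 (even_iff_two_dvd.2 ((show 2 ∣ 4 by norm_num).trans hg))

theorem beta_z_mul (P : G → ℂ) (hP : ∀ g, P (D.x ^ 2 * g) = P g) {g : G}
    (hg : Odd (orderOf g)) : beta P (D.x ^ 2 * g) = 2 * (1 + P g) := by
  have h := L.orderOf_z_mul_of_odd hg
  have h4 : ¬ 4 ∣ orderOf (D.x ^ 2 * g) := by
    rw [h]
    rintro ⟨q, hq⟩
    obtain ⟨r, hr⟩ := hg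
    omega
  rw [beta, if_neg (Nat.not_odd_iff_even.2 (h ▸ even_two_mul _)), if_neg h4, hP]

omit L in
theorem exists_four_of_card {Q : Subgroup G} (hQ : IsPGroup 2 Q) (hcard : 4 ≤ Nat.card Q)
    (huniq : ∀ s t : G, s ∈ Q → t ∈ Q → orderOf s = 2 → orderOf t = 2 → s = t) :
    ∃ u ∈ Q, orderOf u = 4 := by
  haveI := Fintype.ofFinite Q
  classical
  haveI : Fact (Nat.Prime 2) := ⟨Nat.prime_two⟩
  by_contra! hno
  have hle2 : ∀ q : Q, orderOf (q : G) ∣ 2 := by
    intro q
    obtain ⟨k, hk⟩ := IsPGroup.iff_orderOf.1 hQ q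
    rw [Subgroup.orderOf_coe, hk]
    rcases Nat.lt_or_ge k 2 with h | h
    · exact Nat.pow_dvd_pow 2 (by omega : k ≤ 1)
    · exfalso
      refine hno _ (Q.pow_mem q.2 (2 ^ (k - 2))) ?_
      rw [orderOf_pow_of_dvd (by positivity), Subgroup.orderOf_coe, hk,
        Nat.pow_div (by omega) two_pos, show k - (k - 2) = 2 by omega]
      · rfl
      · rw [Subgroup.orderOf_coe, hk]; exact Nat.pow_dvd_pow 2 (by omega)
  have hc : Fintype.card Q ≤ 2 := by
    by_contra hgt
    obtain ⟨a, b, c, hab, hac, hbc⟩ := Fintype.two_lt_card_iff.1 (by omega : 2 < Fintype.card Q)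
    have key : ∀ p q : Q, p ≠ 1 → q ≠ 1 → p = q := fun p q hp hq => by
      have h2 : ∀ r : Q, r ≠ 1 → orderOf (r : G) = 2 := fun r hr =>
        ((Nat.dvd_prime Nat.prime_two).1 (hle2 r)).resolve_left
          fun h => hr (Subtype.ext (orderOf_eq_one_iff.1 h))
      exact Subtype.ext (huniq _ _ p.2 q.2 (h2 p hp) (h2 q hq))
    by_cases ha : a = 1
    · exact hbc (key b c (fun h => hab (ha.trans h.symm)) fun h => hac (ha.trans h.symm))
    by_cases hb : b = 1
    · exact hac (key a c ha fun h => hbc (hb.trans h.symm))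
    exact hab (key a b ha hb)
  rw [Nat.card_eq_fintype_card] at hcard
  omega

/-- The pointwise congruence behind the integrality of `beta`. -/
theorem pointwise (hM : IsPModular 2 M) (ψ : IrrCharacter G) (e : ℤ) (he : e = 1 ∨ e = -1)
    (hψz : ∀ g, (ψ : G → ℂ) (D.x ^ 2 * g) = (ψ : G → ℂ) g)
    (hψ4 : ∀ g : G, 4 ∣ orderOf g → (ψ : G → ℂ) g = (e : ℂ)) (ξ : IrrCharacter G)
    (hξ : ∀ g, (ξ : G → ℂ) (D.x ^ 2 * g) = -(ξ : G → ℂ) g) {g : G} (hg : Odd (orderOf g)) :
    MemLocalIdeal M (4 * ((1 + (e : ℂ) * (ψ : G → ℂ) g) * conj ((ξ : G → ℂ) g)) /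
      (Nat.card (Subgroup.centralizer ({g} : Set G)) : ℂ)) := by
  classical
  haveI : Fact (Nat.Prime 2) := ⟨Nat.prime_two⟩
  set C := Subgroup.centralizer ({g} : Set G) with hC
  set N := Nat.card C with hN
  set v := N.factorization 2 with hv
  set m := N / 2 ^ v with hm
  have hN0 : N ≠ 0 := Nat.card_pos.ne'
  have hNm : N = 2 ^ v * m := (Nat.ordProj_mul_ordCompl_eq_self N 2).symm
  have hm2 : ¬ 2 ∣ m := Nat.not_dvd_ordCompl Nat.prime_two hN0
  have hminv : ((m : ℂ))⁻¹ ∈ locRing M := inv_natCast_mem_locRing hM.1 hM.2.2 hm2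
  have hv3 : v ≤ 3 := by
    by_contra hlt
    exact L.sixteen (((Nat.pow_dvd_pow 2 (show 4 ≤ v by omega)).trans
      (Nat.ordProj_dvd N 2)).trans (Subgroup.card_subgroup_dvd_card C))
  have hv1 : 1 ≤ v := by
    have h2 : 2 ∣ N := by
      rw [← L.orderOf_z]
      exact Subgroup.orderOf_dvd_natCard _
        (Subgroup.mem_centralizer_singleton_iff.2 (Subgroup.mem_center_iff.1 L.central g).symm)
    exact Nat.prime_two.factorization_pos_of_dvd hN0 h2
  have h2M : MemLocalIdeal M ((2 : ℕ) : ℂ) := (memLocalIdeal_natCast_iff hM.1 hM.2.2 2).2 dvd_rfl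
  set F := (1 + (e : ℂ) * (ψ : G → ℂ) g) * conj ((ξ : G → ℂ) g) with hF
  have hξc : conj ((ξ : G → ℂ) g) ∈ locRing M := by
    rw [← IsCharacter.map_inv (IsIrrCharacter.isCharacter ξ.2)]; exact irr_mem_locRing ξ _
  have hFl : F ∈ locRing M :=
    mul_mem (add_mem (one_mem _) (mul_mem (intCast_mem_locRing e) (irr_mem_locRing ψ g))) hξc
  have hexp : 4 * F / (N : ℂ) = (4 / ((2 : ℂ) ^ v)) * F * ((m : ℂ))⁻¹ := by
    rw [hNm, Nat.cast_mul, Nat.cast_pow, Nat.cast_ofNat]
    field_simp
  rw [show (Nat.card C : ℂ) = (N : ℂ) from rfl, hexp]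
  refine memLocalIdeal_mul_right hminv ?_
  obtain ⟨Q⟩ : Nonempty (Sylow 2 C) := inferInstance
  set QG : Subgroup G := (Q : Subgroup C).map C.subtype with hQG
  have hQGp : IsPGroup 2 QG := Q.isPGroup'.map C.subtype
  have hQcard : Nat.card QG = 2 ^ v := by
    rw [hQG, Subgroup.card_subtype, Q.card_eq_multiplicity]
  have hQc : ∀ q ∈ QG, Commute g q := by
    rintro _ ⟨q, -, rfl⟩
    exact (Subgroup.mem_centralizer_singleton_iff.1 q.2).symm
  have huniq : ∀ s t : G, s ∈ QG → t ∈ QG → orderOf s = 2 → orderOf t = 2 → s = t :=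
    fun s t hs ht => L.rankOne.unique_of_pgroup hQGp hs ht
  -- the half is integral
  have hhalf : ∀ u : G, orderOf u = 4 → Commute g u →
      (1 + (e : ℂ) * (ψ : G → ℂ) g) / 2 ∈ locRing M := by
    intro u hu hgu
    haveI := Fintype.ofFinite (Subgroup.zpowers u)
    have hint := isIntegral_avg_coset (IsIrrCharacter.isCharacter ψ.2) (g := g)
      (D := Subgroup.zpowers u) (Subgroup.zpowers_le.2
        (Subgroup.mem_centralizer_singleton_iff.2 hgu.symm.eq))
    have hu2 : u ^ 2 = D.x ^ 2 := L.eq_z (orderOf_sq_of_four hu)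
    have hval : ∀ j : ℕ, Odd j → (ψ : G → ℂ) (g * u ^ j) = (e : ℂ) := fun j hj => by
      refine hψ4 _ ?_
      have hoj : orderOf (u ^ j) = 4 := by
        rw [Nat.Coprime.orderOf_pow, hu]
        rw [hu, show (4 : ℕ) = 2 ^ 2 from rfl]; exact (Nat.coprime_two_left.2 hj).pow_left 2
      rw [(hgu.pow_right j).orderOf_mul_eq_mul_orderOf_of_coprime]
      · rw [hoj]; exact dvd_mul_left _ _
      · rw [hoj, show (4 : ℕ) = 2 ^ 2 from rfl]; exact (Nat.coprime_two_right.2 hg).pow_right 2
    have hsum : ∑ w : Subgroup.zpowers u, (ψ : G → ℂ) (g * w) =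
        2 * (ψ : G → ℂ) g + 2 * (e : ℂ) := by
      rw [← (finEquivZPowers (isOfFinOrder_of_finite u)).sum_comp]
      simp only [finEquivZPowers_apply]
      rw [Fin.sum_univ_eq_sum_range (fun j => (ψ : G → ℂ) (g * u ^ j)) (orderOf u), hu,
        Finset.sum_range_succ, Finset.sum_range_succ, Finset.sum_range_succ, Finset.sum_range_one,
        hval 1 odd_one, hval 3 (by decide), pow_zero, mul_one, hu2,
        show g * D.x ^ 2 = D.x ^ 2 * g from Subgroup.mem_center_iff.1 L.central g, hψz]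
      ring
    rw [hsum, Nat.card_zpowers, hu] at hint
    have h := isIntegral_mem_locRing (M := M) hint
    rcases he with rfl | rfl
    · push_cast at h ⊢; convert h using 1; ring
    · push_cast at h ⊢; convert neg_mem h using 1; ring
  rcases (show v = 1 ∨ v = 2 ∨ v = 3 by omega) with h | h | h
  · rw [h, show (4 : ℂ) / 2 ^ 1 * F = ((2 : ℕ) : ℂ) * F by norm_num]
    exact memLocalIdeal_mul_right hFl h2M
  · obtain ⟨u, huQ, hu⟩ := exists_four_of_card hQGp (by rw [hQcard, h]; norm_num) huniq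
    rw [h, show (4 : ℂ) / 2 ^ 2 * F =
      ((2 : ℕ) : ℂ) * ((1 + (e : ℂ) * (ψ : G → ℂ) g) / 2 * conj ((ξ : G → ℂ) g)) by
        rw [hF]; push_cast; ring]
    exact memLocalIdeal_mul_right (mul_mem (hhalf u hu (hQc u huQ)) hξc) h2M
  · have hnc : ¬ IsCyclic QG := by
      intro hcyc
      obtain ⟨b, hb⟩ := hcyc.exists_generator
      have hob : orderOf (b : G) = 8 := by
        rw [Subgroup.orderOf_coe, orderOf_eq_card_of_forall_mem_zpowers hb, hQcard, h]; rfl
      have := D.hmax b ⟨3, hob⟩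
      rw [hob, L.ord] at this
      omega
    obtain ⟨a', ha4, hai, hinv⟩ := exists_cyclic_index_two hQGp (fun s t hs ht => Subtype.ext
      (huniq s t s.2 t.2 (by rwa [Subgroup.orderOf_coe]) (by rwa [Subgroup.orderOf_coe]))) hnc
    have hoa : orderOf (a' : G) = 4 := by
      have h1 := Subgroup.card_mul_index (Subgroup.zpowers a')
      rw [hai, Nat.card_zpowers, hQcard, h] at h1
      rw [Subgroup.orderOf_coe]
      norm_num at h1
      omega
    obtain ⟨y', hy'⟩ : ∃ y', y' ∉ Subgroup.zpowers a' := by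
      by_contra! hall
      exact hnc ⟨a', hall⟩
    have hyinv : (y' : G) * a' * (y' : G)⁻¹ = (a' : G)⁻¹ := congrArg Subtype.val (hinv y' hy').1
    have hzero : (ξ : G → ℂ) (g * a') = 0 := by
      have e1 : (y' : G) * (g * a') * (y' : G)⁻¹ = D.x ^ 2 * (g * a') := by
        have hu2 : (a' : G) ^ 2 = D.x ^ 2 := L.eq_z (orderOf_sq_of_four hoa)
        have h3 : (a' : G) ^ 4 = 1 := hoa ▸ pow_orderOf_eq_one _
        have hz' : g * D.x ^ 2 = D.x ^ 2 * g := Subgroup.mem_center_iff.1 L.central g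
        calc (y' : G) * (g * a') * (y' : G)⁻¹ = ((y' : G) * g) * a' * (y' : G)⁻¹ := by group
          _ = g * ((y' : G) * a' * (y' : G)⁻¹) := by rw [← (hQc y' y'.2).eq]; group
          _ = g * ((a' : G) ^ 2 * a') := by
              rw [hyinv]
              congr 1
              rw [← pow_succ]
              exact inv_eq_of_mul_eq_one_left (by rw [← pow_succ]; exact h3)
          _ = _ := by rw [hu2, ← mul_assoc, hz', mul_assoc]
      have h4 := IsCharacter.isClassFunction (IsIrrCharacter.isCharacter ξ.2) (g * a') (y' : G)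
      rw [e1, hξ] at h4
      exact neg_eq_self.1 h4
    have hsmall : MemLocalIdeal M (conj ((ξ : G → ℂ) g)) := by
      have h5 := char_congr_mul_four hM (isCharacter_conj (IsIrrCharacter.isCharacter ξ.2))
        (hQc a' a'.2) hoa hg
      simp only [hzero, map_zero, zero_sub] at h5
      simpa using memLocalIdeal_neg h5
    rw [h, show (4 : ℂ) / 2 ^ 3 * F =
      (1 + (e : ℂ) * (ψ : G → ℂ) g) / 2 * conj ((ξ : G → ℂ) g) by rw [hF]; ring]
    exact memLocalIdeal_mul_left (hhalf a' hoa (hQc a' a'.2)) hsmall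

theorem factorization_le_three : (Nat.card G).factorization 2 ≤ 3 := by
  by_contra hlt
  exact L.sixteen ((Nat.pow_dvd_pow 2 (show 4 ≤ (Nat.card G).factorization 2 by omega)).trans
    (Nat.ordProj_dvd _ 2))

/-- `beta` is a generalised character. -/
theorem isGeneralized_beta [Fintype G] (hM : IsPModular 2 M) (ψ : IrrCharacter G) (e : ℤ)
    (he : e = 1 ∨ e = -1) (hψz : ∀ g, (ψ : G → ℂ) (D.x ^ 2 * g) = (ψ : G → ℂ) g)
    (hψ4 : ∀ g : G, 4 ∣ orderOf g → (ψ : G → ℂ) g = (e : ℂ))
    (hX : IsGeneralizedCharacter G fun g => if 4 ∣ orderOf g then (4 : ℂ) else 0) :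
    IsGeneralizedCharacter G (beta fun g => (e : ℂ) * (ψ : G → ℂ) g) := by
  classical
  refine isGeneralizedCharacter_of_classInner_int (fun g h => ?_) fun χ hχ => ?_
  · simp only [beta, orderOf_conj, IsCharacter.isClassFunction (IsIrrCharacter.isCharacter ψ.2) g h]
  set ξ : IrrCharacter G := ⟨χ, hχ⟩
  set P : G → ℂ := fun g => (e : ℂ) * (ψ : G → ℂ) g with hP
  have hPz : ∀ g, P (D.x ^ 2 * g) = P g := fun g => by simp only [hP, hψz]
  obtain ⟨s, hs, hsz⟩ : ∃ s : ℂ, (s = 1 ∨ s = -1) ∧ ∀ g, conj (χ (D.x ^ 2 * g)) = s * conj (χ g) := by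
    rcases central_involution_sign ξ L.central L.orderOf_z with h | h
    · exact ⟨1, Or.inl rfl, fun g => by rw [one_mul]; exact congrArg conj (h g)⟩
    · exact ⟨-1, Or.inr rfl, fun g => by
        rw [neg_one_mul, ← map_neg]; exact congrArg conj (h g)⟩
  have hexp : classInner (beta P) χ = (Nat.card G : ℂ)⁻¹ *
      (2 * s * (∑ g with Odd (orderOf g), (1 + P g) * conj (χ g)) -
        2 * ∑ g with 4 ∣ orderOf g, conj (χ g)) := by
    rw [classInner, L.sum_split, Finset.sum_eq_zero fun g hg => by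
      rw [beta_odd P (Finset.mem_filter.1 hg).2, zero_mul], zero_add,
      Finset.sum_congr rfl fun g hg => by
        rw [L.beta_z_mul P hPz (Finset.mem_filter.1 hg).2, hsz],
      Finset.sum_congr (s₁ := Finset.univ.filter fun g : G => 4 ∣ orderOf g) rfl fun g hg => by
        rw [beta_four P (Finset.mem_filter.1 hg).2]]
    simp only [Finset.mul_sum, ← Finset.sum_sub_distrib, ← Finset.sum_add_distrib, sub_eq_add_neg,
      ← Finset.sum_neg_distrib, mul_add]
    congr 1 <;> exact Finset.sum_congr rfl fun g _ => by ring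
  rcases hs with rfl | rfl
  · -- `z` in the kernel
    obtain ⟨n₁, hn₁⟩ := classInner_int_of_isGeneralized (isGeneralizedCharacter_one (G := G))
      (IsIrrCharacter.isGeneralized hχ)
    obtain ⟨n₂, hn₂⟩ := classInner_int_of_isGeneralized (IsIrrCharacter.isGeneralized ψ.2)
      (IsIrrCharacter.isGeneralized hχ)
    obtain ⟨n₃, hn₃⟩ := classInner_int_of_isGeneralized hX (IsIrrCharacter.isGeneralized hχ)
    refine ⟨n₁ + e * n₂ - n₃, ?_⟩
    have htot : (n₁ : ℂ) + (e : ℂ) * n₂ = (Nat.card G : ℂ)⁻¹ *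
        (2 * (∑ g with Odd (orderOf g), (1 + P g) * conj (χ g)) +
          2 * ∑ g with 4 ∣ orderOf g, conj (χ g)) := by
      rw [← hn₁, ← hn₂]
      simp only [classInner, Pi.one_apply, ← mul_assoc, mul_comm (e : ℂ)]
      rw [mul_assoc _ (∑ g, (ψ : G → ℂ) g * conj (χ g)), ← mul_add, Finset.sum_mul,
        ← Finset.sum_add_distrib, L.sum_split, two_mul, Finset.mul_sum]
      congr 2
      · congr 1
        · exact Finset.sum_congr rfl fun g _ => by simp only [hP]; ring
        · exact Finset.sum_congr rfl fun g _ => by rw [hψz, hsz]; simp only [hP]; ring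
      · refine Finset.sum_congr rfl fun g hg => ?_
        rw [hψ4 g (Finset.mem_filter.1 hg).2]
        have : (e : ℂ) * e = 1 := by rcases he with rfl | rfl <;> norm_num
        linear_combination conj (χ g) * this
    have h4 : (n₃ : ℂ) = (Nat.card G : ℂ)⁻¹ * (4 * ∑ g with 4 ∣ orderOf g, conj (χ g)) := by
      rw [← hn₃, classInner, Finset.mul_sum (a := (4 : ℂ)), Finset.sum_filter]
      congr 1
      exact Finset.sum_congr rfl fun g _ => by split_ifs <;> simp
    rw [hexp]
    push_cast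
    rw [htot, h4]
    ring
  · -- `z` not in the kernel
    have hX0 : ∑ g with 4 ∣ orderOf g, conj (χ g) = 0 := by
      have h : ∑ g with 4 ∣ orderOf g, conj (χ g) = -∑ g with 4 ∣ orderOf g, conj (χ g) := by
        rw [← Finset.sum_neg_distrib]
        refine Finset.sum_equiv (Equiv.mulLeft (D.x ^ 2)) (fun g => ?_) fun g _ => ?_
        · simp [L.four_dvd_z_mul_iff]
        · simp only [Equiv.coe_mulLeft, hsz]; ring
      exact self_eq_neg.1 h
    set T := ∑ g with Odd (orderOf g), (1 + P g) * conj (χ g) with hT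
    have hTreg : T = regInner 2 (trivChar G : G → ℂ) χ + (e : ℂ) * regInner 2 (ψ : G → ℂ) χ := by
      rw [regInner, regInner, Finset.mul_sum, ← Finset.sum_add_distrib, hT, Finset.sum_filter]
      refine Finset.sum_congr rfl fun g _ => ?_
      simp only [← even_iff_two_dvd]
      by_cases hg : Even (orderOf g)
      · simp [hg, Nat.not_odd_iff_even.2 hg]
      · rw [if_pos (Nat.not_even_iff_odd.1 hg), if_neg hg, if_neg hg, trivChar_apply]
        simp only [hP]; ring
    have hint : ∀ φ : IrrCharacter G,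
        ∃ k : ℤ, 8 * regInner 2 (φ : G → ℂ) χ / (Nat.card G : ℂ) = k := by
      intro φ
      obtain ⟨k, hk⟩ := exists_int_regInner Nat.prime_two φ ξ
      set d := (Nat.card G).factorization 2 - (charDegree (ξ : G → ℂ)).factorization 2
      refine ⟨(2 ^ (3 - d) : ℕ) * k, ?_⟩
      rw [Int.cast_mul, ← hk, Int.cast_natCast, ← mul_div_assoc, ← mul_assoc, ← Nat.cast_mul,
        ← pow_add, Nat.sub_add_cancel]
      · norm_num
        rfl
      · have := L.factorization_le_three; omega
    obtain ⟨k₁, hk₁⟩ := hint (trivChar G)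
    obtain ⟨k₂, hk₂⟩ := hint ψ
    have hk : 8 * T / (Nat.card G : ℂ) = ((k₁ + e * k₂ : ℤ) : ℂ) := by
      push_cast
      rw [← hk₁, ← hk₂, hTreg]; ring
    haveI := Fintype.ofFinite (ConjClasses G)
    have hsmall : MemLocalIdeal M (4 * T / (Nat.card G : ℂ)) := by
      set f : G → ℂ := fun g => if Odd (orderOf g) then 4 * ((1 + P g) * conj (χ g)) else 0 with hf
      have hfc : IsClassFunction G f := fun g h => by
        simp only [hf, hP, orderOf_conj,
          IsCharacter.isClassFunction (IsIrrCharacter.isCharacter ψ.2) g h,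
          IsCharacter.isClassFunction (IsIrrCharacter.isCharacter hχ) g h]
      have he' : 4 * T / (Nat.card G : ℂ) = (Nat.card G : ℂ)⁻¹ * ∑ g, f g := by
        simp only [hf, ← Finset.sum_filter, ← Finset.mul_sum, ← hT]
        ring
      rw [he', avg_eq_sum_classes hfc]
      refine memLocalIdeal_sum _ _ fun C _ => ?_
      simp only [hf]
      split_ifs with hodd
      · exact L.pointwise hM ψ e he hψz hψ4 ξ (fun g => by
          have h := congrArg conj (hsz g)
          simpa using h) hodd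
      · rw [zero_div]; exact memLocalIdeal_zero
    set k := k₁ + e * k₂
    have hk2 : 4 * T / (Nat.card G : ℂ) = (k : ℂ) / 2 := by rw [← hk]; ring
    rw [hk2] at hsmall
    have heven : (2 : ℤ) ∣ k := by
      have h : MemLocalIdeal M ((k : ℤ) : ℂ) := by
        have := memLocalIdeal_mul_left (natCast_mem_locRing (M := M) 2) hsmall
        convert this using 1
        push_cast; ring
      rw [show ((k : ℤ) : ℂ) = (((k : AlgInt)) : ℂ) by norm_cast, memLocalIdeal_algInt_iff,
        intCast_mem_iff hM.1 hM.2.2] at h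
      exact_mod_cast h
    obtain ⟨k', hk'⟩ := heven
    have h4 : (2 : ℤ) ∣ k' := by
      rw [hk', Int.cast_mul, Int.cast_ofNat, mul_div_cancel_left₀ _ two_ne_zero,
        show ((k' : ℤ) : ℂ) = (((k' : AlgInt)) : ℂ) by norm_cast, memLocalIdeal_algInt_iff,
        intCast_mem_iff hM.1 hM.2.2] at hsmall
      exact_mod_cast hsmall
    obtain ⟨k'', rfl⟩ := h4
    refine ⟨-k'', ?_⟩
    have hfin : (Nat.card G : ℂ)⁻¹ * (2 * T) = (k'' : ℂ) := by
      have e1 : (Nat.card G : ℂ)⁻¹ * (2 * T) = (8 * T / (Nat.card G : ℂ)) / 4 := by ring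
      rw [e1, hk, hk']; push_cast; ring
    rw [hexp, hX0]
    push_cast
    rw [← hfin]
    ring

end Q8Local

end Cfsg.Agent.Inv
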