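import Cfsg.Agent.Lib.Struct.UniqueOrderP
import Mathlib.GroupTheory.Nilpotent
import Cfsg.Prelude.Def_TwoFusion
import Cfsg.Prelude.Def_Transfer

/-!
# 2-groups that are quaternion modulo central subgroups
-/

set_option autoImplicit false

namespace Cfsg.Agent.Inv

open Subgroup
open scoped commutatorElement

variable {S : Type*} [Group S] [Finite S]

/-- Generators of a non-abelian 2-group with only one involution. -/
theorem quat_gens {Q : Type*} [Group Q] [Finite Q] (hQ : IsPGroup 2 Q)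
    (hna : ¬ IsMulCommutative Q) (hu : ∃! x : Q, orderOf x = 2) :
    ∃ (a b : Q) (m : ℕ), 1 ≤ m ∧ closure {a, b} = ⊤ ∧ b * a * b⁻¹ = a⁻¹ ∧
      b ^ 2 = a ^ 2 ^ m ∧ orderOf a = 2 ^ (m + 1) ∧ b ∉ zpowers a := by
  haveI : Fact (Nat.Prime 2) := ⟨Nat.prime_two⟩
  have huniq : ∀ x y : Q, orderOf x = 2 → y ^ 2 = 1 → y ∈ zpowers x := by
    intro x y hx hy
    by_cases hy1 : y = 1
    · rw [hy1]; exact one_mem _
    · rw [hu.unique (orderOf_eq_prime hy hy1) hx]; exact mem_zpowers x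
  rcases Cfsg.Agent.Struct.cyclic_or_quaternion hQ huniq with hc | ⟨-, n, hn, ⟨e⟩⟩
  · exact absurd (⟨⟨fun x y => by
      obtain ⟨g, hg⟩ := hc.exists_generator
      obtain ⟨i, rfl⟩ := mem_zpowers_iff.1 (hg x)
      obtain ⟨j, rfl⟩ := mem_zpowers_iff.1 (hg y)
      exact (Commute.refl g).zpow_zpow i j⟩⟩ : IsMulCommutative Q) hna
  haveI : NeZero (2 ^ n) := ⟨by positivity⟩
  set A : QuaternionGroup (2 ^ n) := QuaternionGroup.a 1 with hA
  set B : QuaternionGroup (2 ^ n) := QuaternionGroup.xa 0 with hB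
  have hinvA : A⁻¹ = QuaternionGroup.a (-1) := by
    rw [inv_eq_iff_mul_eq_one, hA, QuaternionGroup.a_mul_a, add_neg_cancel, QuaternionGroup.a_zero]
  have hrel : B * A * B⁻¹ = A⁻¹ := by
    rw [mul_inv_eq_iff_eq_mul, hinvA, hA, hB, QuaternionGroup.xa_mul_a, QuaternionGroup.a_mul_xa]
    congr 1
    ring
  refine ⟨e.symm A, e.symm B, n, hn, ?_, ?_, ?_, ?_, ?_⟩
  · rw [eq_top_iff]
    intro y _
    have hgen : ∀ k : ZMod (2 * 2 ^ n), QuaternionGroup.a k ∈ closure {A, B} := by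
      intro k
      obtain ⟨k, rfl⟩ := ZMod.natCast_zmod_surjective k
      rw [← QuaternionGroup.a_one_pow]
      exact pow_mem (subset_closure (Set.mem_insert A {B})) k
    have hall : ∀ q : QuaternionGroup (2 ^ n), q ∈ closure {A, B} := by
      rintro (k | k)
      · exact hgen k
      · rw [show (QuaternionGroup.xa k : QuaternionGroup (2 ^ n)) = B * QuaternionGroup.a k by
          rw [hB, QuaternionGroup.xa_mul_a, zero_add]]
        exact mul_mem (subset_closure (Set.mem_insert_of_mem A rfl)) (hgen k)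
    have h := mem_map_of_mem (e.symm : QuaternionGroup (2 ^ n) →* Q) (hall (e y))
    rw [MonoidHom.map_closure, Set.image_pair] at h
    simpa using h
  · rw [← map_inv, ← map_inv, ← map_mul, ← map_mul, hrel]
  · rw [← map_pow, ← map_pow, hA, hB, QuaternionGroup.xa_sq, QuaternionGroup.a_one_pow]
  · rw [MulEquiv.orderOf_eq, hA, QuaternionGroup.orderOf_a_one, pow_succ']
  · intro h
    obtain ⟨k, hk⟩ := mem_zpowers_iff.1 h
    rw [← map_zpow, e.symm.injective.eq_iff] at hk
    have : Commute B A := hk ▸ (Commute.refl A).zpow_left k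
    rw [commute_iff_eq, ← mul_inv_eq_iff_eq_mul, hrel] at this
    have h2 : A ^ 2 = 1 := by rw [sq]; nth_rw 1 [← this]; exact inv_mul_cancel A
    have := orderOf_dvd_of_pow_eq_one h2
    rw [hA, QuaternionGroup.orderOf_a_one] at this
    have hle := Nat.le_of_dvd two_pos this
    have : 2 ≤ 2 ^ n := Nat.le_self_pow (by omega) 2
    omega

omit [Finite S] in
/-- If `S / D` is generated by `a, b` with `b a b⁻¹ = a⁻¹` and `D` is central then `S'` is cyclic. -/
theorem commutator_isCyclic_of_quot (D : Subgroup S) (hD : D ≤ center S) [D.Normal]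
    (a b : S ⧸ D) (hgen : closure {a, b} = ⊤) (hrel : b * a * b⁻¹ = a⁻¹) :
    IsCyclic ↥(commutator S) := by
  obtain ⟨A, rfl⟩ := QuotientGroup.mk'_surjective D a
  obtain ⟨B, rfl⟩ := QuotientGroup.mk'_surjective D b
  set d : S := B * A * B⁻¹ * A with hd
  have hdD : d ∈ D := by
    rw [← QuotientGroup.eq_one_iff, ← QuotientGroup.mk'_apply, hd, map_mul, map_mul, map_mul,
      map_inv, hrel, inv_mul_cancel]
  have hdc : ∀ y : S, y * d = d * y := fun y => mem_center_iff.1 (hD hdD) y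
  set c : S := B * A * B⁻¹ * A⁻¹ with hc
  have hBAB : B * A * B⁻¹ = d * A⁻¹ := by rw [hd]; group
  have hcA : c = d * (A ^ 2)⁻¹ := by rw [hc, hBAB, sq]; group
  have hAc : A * c * A⁻¹ = c := by
    rw [hcA, ← mul_assoc, hdc A, sq]; group
  have hBc : B * c * B⁻¹ = c⁻¹ := by
    have h1 : B * c * B⁻¹ = (B * d * B⁻¹) * ((B * A * B⁻¹) ^ 2)⁻¹ := by rw [hcA, sq, sq]; group
    rw [h1, hBAB, hdc B, hcA, (show Commute d A⁻¹ from (hdc A⁻¹).symm).mul_pow, sq, sq]
    group
    rw [← hdc (A ^ (2 : ℤ))]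
    group
  set N := zpowers c with hN
  haveI hNn : N.Normal := by
    rw [← Subgroup.normalizer_eq_top_iff, eq_top_iff]
    have hBm : B ∈ normalizer (N : Set S) := by
      rw [mem_normalizer_iff]
      intro y
      constructor
      · intro hy
        obtain ⟨k, rfl⟩ := mem_zpowers_iff.1 hy
        rw [← conj_zpow, hBc]
        exact zpow_mem (inv_mem (mem_zpowers c)) k
      · intro hy
        obtain ⟨k, hk⟩ := mem_zpowers_iff.1 hy
        refine mem_zpowers_iff.2 ⟨-k, ?_⟩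
        have h2 : c = B * c⁻¹ * B⁻¹ := by
          rw [← conj_inv, hBc, inv_inv]
        rw [h2, conj_zpow, inv_zpow, ← zpow_neg] at hk
        exact mul_left_cancel (mul_right_cancel hk)
    have hAm : A ∈ normalizer (N : Set S) := by
      have hcom : A * c = c * A := mul_inv_eq_iff_eq_mul.1 hAc
      rw [mem_normalizer_iff]
      intro y
      constructor
      · intro hy
        obtain ⟨k, rfl⟩ := mem_zpowers_iff.1 hy
        rw [← conj_zpow, hAc]
        exact zpow_mem (mem_zpowers c) k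
      · intro hy
        obtain ⟨k, hk⟩ := mem_zpowers_iff.1 hy
        refine mem_zpowers_iff.2 ⟨k, ?_⟩
        rw [← hAc, conj_zpow] at hk
        exact mul_left_cancel (mul_right_cancel hk)
    intro y _
    have hy : QuotientGroup.mk' D y ∈ (closure {A, B}).map (QuotientGroup.mk' D) := by
      rw [MonoidHom.map_closure, Set.image_pair, hgen]; exact mem_top _
    obtain ⟨w, hw, hwy⟩ := hy
    have hz : w⁻¹ * y ∈ D := QuotientGroup.eq.1 hwy
    rw [show y = w * (w⁻¹ * y) by group]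
    exact mul_mem ((closure_le _).2 (by rintro z (rfl | rfl) <;> assumption) hw)
      (center_le_normalizer _ (hD hz))
  have hle : commutator S ≤ N := by
    rw [_root_.commutator_def, Subgroup.commutator_le]
    intro x _ y _
    rw [← QuotientGroup.eq_one_iff, ← QuotientGroup.mk'_apply, map_commutatorElement,
      commutatorElement_eq_one_iff_mul_comm]
    let f := QuotientGroup.mk' N
    have hgen' : ∀ z : S, f z ∈ closure ({f A, f B} ∪ (D.map f : Set (S ⧸ N))) := by
      intro z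
      have hy : QuotientGroup.mk' D z ∈ (closure {A, B}).map (QuotientGroup.mk' D) := by
        rw [MonoidHom.map_closure, Set.image_pair, hgen]; exact mem_top _
      obtain ⟨w, hw, hwy⟩ := hy
      have hz : w⁻¹ * z ∈ D := QuotientGroup.eq.1 hwy
      rw [show z = w * (w⁻¹ * z) by group, map_mul]
      refine mul_mem ?_ (subset_closure (Or.inr (mem_map_of_mem f hz)))
      have hw' := mem_map_of_mem f hw
      rw [MonoidHom.map_closure, Set.image_pair] at hw'
      exact closure_mono Set.subset_union_left hw'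
    have hAB : Commute (f A) (f B) := by
      have h1 : f (B * A * B⁻¹ * A⁻¹) = 1 := (QuotientGroup.eq_one_iff _).2 (mem_zpowers c)
      rw [map_mul, map_mul, map_mul, map_inv, map_inv, mul_inv_eq_one, mul_inv_eq_iff_eq_mul] at h1
      exact h1.symm
    have hcent : ∀ u ∈ D.map f, ∀ v : S ⧸ N, Commute u v := by
      rintro u ⟨u, hu, rfl⟩ v
      obtain ⟨v, rfl⟩ := QuotientGroup.mk'_surjective N v
      exact ((show Commute u v from (mem_center_iff.1 (hD hu) v).symm)).map f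
    haveI : IsMulCommutative ↥(closure ({f A, f B} ∪ (D.map f : Set (S ⧸ N)))) := by
      refine Subgroup.isMulCommutative_closure ?_
      rintro u (hu | hu) v (hv | hv)
      · rcases hu with rfl | rfl <;> rcases hv with rfl | rfl
        exacts [rfl, hAB.eq, hAB.symm.eq, rfl]
      · exact ((hcent v hv u).eq).symm
      · exact (hcent u hu v).eq
      · exact (hcent u hu v).eq
    exact congrArg Subtype.val (mul_comm' (⟨f x, hgen' x⟩ : ↥(closure _)) ⟨f y, hgen' y⟩)
  exact Subgroup.isCyclic_of_le hle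

/-- A 2-group that is quaternion modulo a central subgroup has a nontrivial cyclic
characteristic subgroup. -/
theorem cyclic_characteristic_of_quot (hS : IsPGroup 2 S) (D : Subgroup S) (hD : D ≤ center S)
    [D.Normal] (hna : ¬ IsMulCommutative (S ⧸ D)) (hu : ∃! x : S ⧸ D, orderOf x = 2) :
    ∃ C : Subgroup S, C ≠ ⊥ ∧ IsCyclic ↥C ∧ C.Characteristic := by
  obtain ⟨a, b, m, -, hgen, hrel, -⟩ := quat_gens (hS.to_quotient D) hna hu
  refine ⟨commutator S, ?_, commutator_isCyclic_of_quot D hD a b hgen hrel, inferInstance⟩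
  intro h
  refine hna ⟨⟨fun x y => ?_⟩⟩
  obtain ⟨x, rfl⟩ := QuotientGroup.mk'_surjective D x
  obtain ⟨y, rfl⟩ := QuotientGroup.mk'_surjective D y
  have : ⁅x, y⁆ = 1 := by
    have := Subgroup.commutator_mem_commutator (mem_top x) (mem_top y)
    rwa [← _root_.commutator_def, h, mem_bot] at this
  rw [← map_mul, ← map_mul, commutatorElement_eq_one_iff_mul_comm.1 this]

omit [Finite S] in
theorem center_coatom (hS : IsPGroup 2 S) {C : Subgroup ↥(center S)} (hC : IsCoatom C) :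
    (∀ z : ↥(center S), z ^ 2 ∈ C) ∧ ∀ x y : ↥(center S), x ∉ C → y ∉ C → x * y ∈ C := by
  haveI : C.Normal := ⟨fun n hn g => by
    rwa [show g * n * g⁻¹ = n from Subtype.ext (by
      push_cast
      rw [mem_center_iff.1 n.2 (g : S), mul_inv_cancel_right])]⟩
  have hsup : ∀ x : ↥(center S), x ∉ C → C ⊔ zpowers x = ⊤ := fun x hx =>
    hC.2 _ (left_lt_sup.2 fun h => hx (h (mem_zpowers x)))
  have hdec : ∀ x y : ↥(center S), x ∉ C → ∃ k : ℤ, y * x ^ k ∈ C := fun x y hx => by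
    obtain ⟨c, hc, d, hd, hcd⟩ := mem_sup_of_normal_left.1
      (show y ∈ C ⊔ zpowers x by rw [hsup x hx]; exact mem_top _)
    obtain ⟨k, rfl⟩ := mem_zpowers_iff.1 hd
    refine ⟨-k, ?_⟩
    rw [← hcd, mul_assoc, ← zpow_add, add_neg_cancel, zpow_zero, mul_one]
    exact hc
  have hodd : ∀ (x : ↥(center S)) (k : ℤ), x ^ (2 * k + 1) ∈ C → x ∈ C := by
    intro x k hk
    obtain ⟨j, hj⟩ := (IsPGroup.iff_orderOf.1 (hS.to_subgroup (center S))) x
    have hco : IsCoprime (2 * k + 1) ((2 : ℤ) ^ j) :=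
      (IsCoprime.pow_left (m := j) (Int.prime_two.coprime_iff_not_dvd.2 (by omega))).symm
    obtain ⟨u, v, huv⟩ := hco
    have hx1 : x ^ ((2 : ℤ) ^ j) = 1 := by
      rw [show ((2 : ℤ) ^ j) = ((2 ^ j : ℕ) : ℤ) by push_cast; rfl, zpow_natCast, ← hj,
        pow_orderOf_eq_one]
    have h2 : x = (x ^ (2 * k + 1)) ^ u * (x ^ ((2 : ℤ) ^ j)) ^ v := by
      rw [← zpow_mul, ← zpow_mul, ← zpow_add, mul_comm _ u, mul_comm _ v, huv, zpow_one]
    rw [h2, hx1, one_zpow, mul_one]
    exact zpow_mem hk u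
  have hsq : ∀ z : ↥(center S), z ^ 2 ∈ C := by
    intro z
    by_contra h
    obtain ⟨k, hk⟩ := hdec (z ^ 2) z h
    have : z ∈ C := by
      refine hodd z k ?_
      rw [← zpow_natCast, ← zpow_mul] at hk
      rw [zpow_add_one, mul_comm']
      exact hk
    exact h (pow_mem this 2)
  refine ⟨hsq, fun x y hx hy => ?_⟩
  obtain ⟨k, hk⟩ := hdec x y hx
  rcases Int.even_or_odd k with ⟨l, rfl⟩ | ⟨l, rfl⟩
  · refine absurd ?_ hy
    have h2 : x ^ (l + l) ∈ C := by
      rw [← two_mul, zpow_mul]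
      exact zpow_mem (by simpa using hsq x) l
    exact (mul_mem_cancel_right h2).1 hk
  · have h2 : x ^ (2 * l) ∈ C := by
      rw [zpow_mul]
      exact zpow_mem (by simpa using hsq x) l
    rw [zpow_add_one, mul_comm' _ x, ← mul_assoc] at hk
    rw [mul_comm']
    exact (mul_mem_cancel_right h2).1 hk

/-- A 2-group with several quaternion quotients by central coatoms splits. -/
theorem split_of_quaternion_quotients (hS : IsPGroup 2 S) {ι : Type*} [Nonempty ι]
    (C : ι → Subgroup ↥(center S)) (hCmax : ∀ i, IsCoatom (C i)) (hCint : ⨅ i, C i = ⊥)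
    (hCq : ∀ i, ∃ (_ : ((C i).map (center S).subtype).Normal),
      ¬ IsMulCommutative (S ⧸ (C i).map (center S).subtype) ∧
      ∃! x : S ⧸ (C i).map (center S).subtype, orderOf x = 2) :
    ∃ E Q : Subgroup S, Cfsg.IsInternalDirectProduct E Q ⊤ ∧ Cfsg.IsElementaryAbelian 2 E ∧
      ¬ IsMulCommutative ↥Q ∧ ∃! x : ↥Q, orderOf x = 2 := by
  have hmem : ∀ i (x : ↥(center S)), (x : S) ∈ (C i).map (center S).subtype ↔ x ∈ C i :=
    fun i x => mem_map_iff_mem (center S).subtype_injective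
  have hCle : ∀ i, (C i).map (center S).subtype ≤ center S := fun i => map_subtype_le _
  have hCsq : ∀ i (z : S), z ∈ center S → z ^ 2 ∈ (C i).map (center S).subtype := fun i z hz =>
    (hmem i ⟨z ^ 2, pow_mem hz 2⟩).2 ((center_coatom hS (hCmax i)).1 ⟨z, hz⟩)
  have hint : ∀ z : S, (∀ i, z ∈ (C i).map (center S).subtype) → z = 1 := by
    intro z hz
    have hzc : z ∈ center S := hCle (Classical.arbitrary ι) (hz _)
    have : (⟨z, hzc⟩ : ↥(center S)) ∈ ⨅ i, C i := mem_iInf.2 fun i => (hmem i _).1 (hz i)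
    rw [hCint, mem_bot] at this
    exact congrArg Subtype.val this
  have hZ2 : ∀ z ∈ center S, z ^ 2 = 1 := fun z hz => hint _ fun i => hCsq i z hz
  have hsq : ∀ i (x : S), x ∉ center S → x ^ 2 ∈ center S →
      x ^ 2 ∉ (C i).map (center S).subtype := by
    intro i x hx hx2 h
    obtain ⟨hn, -, hu⟩ := hCq i
    haveI := hn
    haveI : Fact (Nat.Prime 2) := ⟨Nat.prime_two⟩
    let f := QuotientGroup.mk' ((C i).map (center S).subtype)
    have hne : f x ≠ 1 := fun e => hx (hCle i ((QuotientGroup.eq_one_iff x).1 e))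
    have h1 : orderOf (f x) = 2 := orderOf_eq_prime (by
      rw [← map_pow]; exact (QuotientGroup.eq_one_iff _).2 h) hne
    obtain ⟨z, hz⟩ : ∃ z : ↥(center S), z ∉ C i := by
      by_contra hcon
      push Not at hcon
      exact (hCmax i).1 (eq_top_iff.2 fun y _ => hcon y)
    have h2 : orderOf (f z) = 2 := orderOf_eq_prime (by
      rw [← map_pow]; exact (QuotientGroup.eq_one_iff _).2 (hCsq i z z.2))
      (fun e => hz ((hmem i z).1 ((QuotientGroup.eq_one_iff _).1 e)))
    have h3 : x⁻¹ * z ∈ (C i).map (center S).subtype := QuotientGroup.eq.1 (hu.unique h1 h2)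
    exact hx (inv_mem_iff.1 ((mul_mem_cancel_right z.2).1 (hCle i h3)))
  have hconst : ∀ x y : S, x ∉ center S → x ^ 2 ∈ center S → y ∉ center S → y ^ 2 ∈ center S →
      x ^ 2 = y ^ 2 := by
    intro x y hx hx2 hy hy2
    have h : x ^ 2 * y ^ 2 = 1 := hint _ fun i =>
      (hmem i ⟨x ^ 2 * y ^ 2, mul_mem hx2 hy2⟩).2 ((center_coatom hS (hCmax i)).2 ⟨x ^ 2, hx2⟩
        ⟨y ^ 2, hy2⟩ (fun e => hsq i x hx hx2 ((hmem i _).2 e))
        (fun e => hsq i y hy hy2 ((hmem i _).2 e)))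
    have h2 : y ^ 2 * y ^ 2 = 1 := by rw [← sq]; exact hZ2 _ hy2
    exact mul_right_cancel (h.trans h2.symm)
  set i0 : ι := Classical.arbitrary ι
  obtain ⟨hn, hna, hu⟩ := hCq i0
  haveI := hn
  set D := (C i0).map (center S).subtype with hD
  have hDc : D ≤ center S := hCle i0
  obtain ⟨a, b, m, hm, hgen, hrel, hb2, hord, hbna⟩ := quat_gens (hS.to_quotient D) hna hu
  obtain ⟨A, rfl⟩ := QuotientGroup.mk'_surjective D a
  obtain ⟨B, rfl⟩ := QuotientGroup.mk'_surjective D b
  set f := QuotientGroup.mk' D with hf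
  have hfZ : ∀ z ∈ center S, f z ^ 2 = 1 := fun z hz => by
    rw [← map_pow, hZ2 z hz, map_one]
  have hι : orderOf (f A ^ 2 ^ m) = 2 := by
    rw [orderOf_pow, hord, Nat.gcd_eq_right ⟨2, by rw [pow_succ]⟩, pow_succ,
      Nat.mul_div_cancel_left _ (by positivity)]
  have hzc : ∀ x : S, orderOf (f x) = 2 → x ∈ center S := by
    intro x hx
    by_contra hxc
    have h2 : x ^ 2 ∈ D := by
      rw [← QuotientGroup.eq_one_iff, ← QuotientGroup.mk'_apply, map_pow, ← hf, ← hx,
        pow_orderOf_eq_one]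
    exact hsq i0 x hxc (hDc h2) h2
  have hu0 : A ^ 2 ^ m ∈ center S := hzc _ (by rw [map_pow]; exact hι)
  set A' := A ^ 2 ^ (m - 1) with hA'
  have hA'2 : A' ^ 2 = A ^ 2 ^ m := by
    rw [hA', ← pow_mul, ← pow_succ, Nat.sub_add_cancel hm]
  have hι1 : f A ^ 2 ^ m ≠ 1 := fun e => by rw [e, orderOf_one] at hι; omega
  have hA'c : A' ∉ center S := fun h => hι1 (by
    rw [← map_pow, ← hA'2, map_pow]; exact hfZ _ h)
  have hB2c : B ^ 2 ∈ center S := hzc _ (by rw [map_pow, hb2]; exact hι)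
  have hBc : B ∉ center S := fun h => hι1 (by rw [← hb2]; exact hfZ _ h)
  have hB2 : B ^ 2 = A ^ 2 ^ m := by
    rw [← hA'2]; exact hconst B A' hBc hB2c hA'c (by rw [hA'2]; exact hu0)
  have hrelS : B * A * B⁻¹ = A⁻¹ := by
    have hAB2 : f ((A * B) ^ 2) = f A ^ 2 ^ m := by
      rw [map_pow, map_mul, sq, show f A * f B * (f A * f B) =
        f A * (f B * f A * (f B)⁻¹) * (f B ^ 2) by rw [sq]; group, hrel, mul_inv_cancel, one_mul, hb2]
    have hc2 : (A * B) ^ 2 ∈ center S := hzc _ (by rw [hAB2]; exact hι)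
    have hc1 : A * B ∉ center S := fun h => hι1 (by
      rw [← hAB2, map_pow]; exact hfZ _ h)
    have h := hconst (A * B) A' hc1 hc2 hA'c (by rw [hA'2]; exact hu0)
    rw [hA'2, ← hB2, show (A * B) ^ 2 = A * (B * A * B⁻¹) * B ^ 2 by rw [sq, sq]; group] at h
    exact eq_inv_of_mul_eq_one_right (mul_eq_right.1 h)
  have hord' : A ^ 2 ^ (m + 1) = 1 := by
    rw [pow_succ, pow_mul]; exact hZ2 _ hu0
  -- the normal form
  set Q := closure ({A, B} : Set S) with hQ
  have hcomm : ∀ k : ℤ, B * A ^ k = A ^ (-k) * B := fun k => by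
    rw [← mul_inv_eq_iff_eq_mul, ← conj_zpow, hrelS, inv_zpow, zpow_neg]
  have hB2z : B * B = A ^ ((2 ^ m : ℕ) : ℤ) := by rw [← sq, hB2, zpow_natCast]
  have hform : ∀ x ∈ Q, ∃ k : ℤ, x = A ^ k ∨ x = A ^ k * B := by
    intro x hx
    induction hx using closure_induction with
    | mem x hx =>
      rcases hx with rfl | rfl
      · exact ⟨1, Or.inl (zpow_one _).symm⟩
      · exact ⟨0, Or.inr (by simp)⟩
    | one => exact ⟨0, Or.inl (zpow_zero _).symm⟩
    | mul x y _ _ hx hy =>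
      obtain ⟨k, rfl | rfl⟩ := hx <;> obtain ⟨l, rfl | rfl⟩ := hy
      · exact ⟨k + l, Or.inl (zpow_add _ _ _).symm⟩
      · exact ⟨k + l, Or.inr (by rw [← mul_assoc, ← zpow_add])⟩
      · exact ⟨k + -l, Or.inr (by rw [mul_assoc, hcomm, ← mul_assoc, ← zpow_add])⟩
      · exact ⟨k + -l + ((2 ^ m : ℕ) : ℤ), Or.inl (by
          rw [mul_assoc, ← mul_assoc B, hcomm, mul_assoc (A ^ (-l)), hB2z, ← zpow_add, ← zpow_add,
            add_assoc])⟩
    | inv x _ hx =>
      obtain ⟨k, rfl | rfl⟩ := hx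
      · exact ⟨-k, Or.inl (zpow_neg _ _).symm⟩
      · refine ⟨k + ((2 ^ m : ℕ) : ℤ), Or.inr ?_⟩
        rw [inv_eq_iff_mul_eq_one, mul_assoc, ← mul_assoc B, hcomm, mul_assoc (A ^ (-(k + _))),
          hB2z, ← zpow_add, ← zpow_add]
        convert zpow_zero A using 2
        ring
  have hinf : D ⊓ Q = ⊥ := by
    rw [eq_bot_iff]
    rintro x ⟨hxD, hxQ⟩
    have hfx : f x = 1 := (QuotientGroup.eq_one_iff x).2 hxD
    obtain ⟨k, rfl | rfl⟩ := hform x hxQ
    · rw [map_zpow, ← orderOf_dvd_iff_zpow_eq_one, hord] at hfx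
      obtain ⟨j, rfl⟩ := hfx
      rw [mem_bot, zpow_mul, zpow_natCast, hord', one_zpow]
    · refine absurd ?_ hbna
      rw [map_mul, map_zpow] at hfx
      rw [eq_inv_of_mul_eq_one_right hfx]
      exact inv_mem (zpow_mem (mem_zpowers _) k)
  have hQf : Q.map f = ⊤ := by rw [hQ, MonoidHom.map_closure, Set.image_pair, hgen]
  have hsup : D ⊔ Q = ⊤ := by
    rw [eq_top_iff]
    intro y _
    obtain ⟨w, hw, hwy⟩ : f y ∈ Q.map f := by rw [hQf]; exact mem_top _
    have hz : y * w⁻¹ ∈ D := by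
      rw [← QuotientGroup.eq_one_iff, ← QuotientGroup.mk'_apply, map_mul, map_inv, ← hf, hwy,
        mul_inv_cancel]
    exact mem_sup_of_normal_left.2 ⟨_, hz, w, hw, inv_mul_cancel_right y w⟩
  have hinj : Function.Injective (f.comp Q.subtype) := by
    rw [← MonoidHom.ker_eq_bot_iff, eq_bot_iff]
    intro x hx
    have : (x : S) ∈ D ⊓ Q := ⟨(QuotientGroup.eq_one_iff _).1 (MonoidHom.mem_ker.1 hx), x.2⟩
    rw [hinf, mem_bot] at this
    exact mem_bot.2 (Subtype.ext this)
  have hsurj : Function.Surjective (f.comp Q.subtype) := fun y => by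
    obtain ⟨w, hw, hwy⟩ : y ∈ Q.map f := by rw [hQf]; exact mem_top _
    exact ⟨⟨w, hw⟩, hwy⟩
  let e : ↥Q ≃* S ⧸ D := MulEquiv.ofBijective (f.comp Q.subtype) ⟨hinj, hsurj⟩
  refine ⟨D, Q, ⟨le_top, le_top, fun x hx y _ => (mem_center_iff.1 (hDc hx) y).symm, hinf, hsup⟩,
    ⟨⟨⟨fun x y => Subtype.ext (mem_center_iff.1 (hDc y.2) x)⟩⟩, fun x hx => hZ2 x (hDc hx)⟩, ?_, ?_⟩
  · intro h
    refine hna ⟨⟨fun x y => ?_⟩⟩
    obtain ⟨x, rfl⟩ := e.surjective x
    obtain ⟨y, rfl⟩ := e.surjective y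
    rw [← map_mul, ← map_mul, mul_comm']
  · obtain ⟨x, hx, hxu⟩ := hu
    exact ⟨e.symm x, (MulEquiv.orderOf_eq e.symm x).trans hx, fun y hy =>
      e.eq_symm_apply.2 (hxu _ ((MulEquiv.orderOf_eq e y).trans hy))⟩

end Cfsg.Agent.Inv
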