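import Cfsg.Agent.Lib.Inv.ZStarCor

/-!
# A characteristic involution in the presence of a quaternion direct factor
-/

set_option autoImplicit false

open scoped IsMulCommutative

namespace Cfsg.Agent.Inv

/-- Central elements of a generalized quaternion group. -/
theorem quaternion_center {n : ℕ} [NeZero n] (hn : 2 ≤ n) {q : QuaternionGroup n}
    (hq : ∀ x, x * q = q * x) : q = 1 ∨ q = QuaternionGroup.a (n : ZMod (2 * n)) := by
  have hsq : q * q = 1 := by
    cases q with
    | a i =>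
      have h := hq (QuaternionGroup.xa 0)
      rw [QuaternionGroup.xa_mul_a, QuaternionGroup.a_mul_xa, QuaternionGroup.xa.injEq] at h
      rw [QuaternionGroup.a_mul_a, show i + i = 0 by linear_combination h]
      rfl
    | xa i =>
      exfalso
      have h := hq (QuaternionGroup.a 1)
      rw [QuaternionGroup.xa_mul_a, QuaternionGroup.a_mul_xa, QuaternionGroup.xa.injEq] at h
      have h2 : ((2 : ℕ) : ZMod (2 * n)) = 0 := by push_cast; linear_combination -h
      rw [ZMod.natCast_eq_zero_iff] at h2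
      have := Nat.le_of_dvd two_pos h2
      omega
  by_cases h1 : q = 1
  · exact Or.inl h1
  · exact Or.inr (quaternion_involution_unique (orderOf_eq_two_of_mul_self hsq h1))

/-- The involution of a generalized quaternion group is a commutator. -/
theorem quaternion_commutator {n : ℕ} [NeZero n] (hn : Even n) :
    ∃ x y : QuaternionGroup n, x * y * x⁻¹ * y⁻¹ = QuaternionGroup.a (n : ZMod (2 * n)) := by
  obtain ⟨k, hk⟩ := hn
  refine ⟨QuaternionGroup.a (k : ZMod (2 * n)), QuaternionGroup.xa 0, ?_⟩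
  have h1 : (QuaternionGroup.a (k : ZMod (2 * n)))⁻¹ = QuaternionGroup.a (-(k : ZMod (2 * n))) := rfl
  rw [h1, QuaternionGroup.a_mul_xa, QuaternionGroup.xa_mul_a, mul_inv_eq_iff_eq_mul,
    QuaternionGroup.a_mul_xa]
  congr 1
  rw [show (n : ZMod (2 * n)) = (k : ZMod (2 * n)) + k by rw [← Nat.cast_add, ← hk]]
  ring

variable {P : Type*} [Group P] [Finite P] {Q R : Subgroup P} {z : P}

/-- Data of a quaternion-like direct factor. -/
structure QFactor (Q R : Subgroup P) (z : P) : Prop where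
  comm : ∀ q ∈ Q, ∀ r ∈ R, q * r = r * q
  disj : Q ⊓ R = ⊥
  sup : Q ⊔ R = ⊤
  two : IsPGroup 2 Q
  mem : z ∈ Q
  ord : orderOf z = 2
  uniq : ∀ x ∈ Q, orderOf x = 2 → x = z
  center : ∀ q ∈ Q, (∀ x ∈ Q, x * q = q * x) → q = 1 ∨ q = z
  isCommutator : ∃ a ∈ Q, ∃ b ∈ Q, a * b * a⁻¹ * b⁻¹ = z

theorem QFactor.exists_decomp (h : QFactor Q R z) (s : P) : ∃ q ∈ Q, ∃ r ∈ R, s = q * r := by
  let H : Subgroup P :=
    { carrier := {s | ∃ q ∈ Q, ∃ r ∈ R, s = q * r}
      one_mem' := ⟨1, one_mem Q, 1, one_mem R, (one_mul 1).symm⟩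
      mul_mem' := by
        rintro _ _ ⟨q, hq, r, hr, rfl⟩ ⟨q', hq', r', hr', rfl⟩
        refine ⟨q * q', mul_mem hq hq', r * r', mul_mem hr hr', ?_⟩
        rw [mul_assoc, ← mul_assoc r, ← h.comm q' hq' r hr]
        simp only [mul_assoc]
      inv_mem' := by
        rintro _ ⟨q, hq, r, hr, rfl⟩
        refine ⟨q⁻¹, inv_mem hq, r⁻¹, inv_mem hr, ?_⟩
        rw [mul_inv_rev]
        exact (h.comm _ (inv_mem hq) _ (inv_mem hr)).symm }
  have hH : (⊤ : Subgroup P) ≤ H := by
    rw [← h.sup]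
    exact sup_le (fun q hq => ⟨q, hq, 1, one_mem R, (mul_one q).symm⟩)
      (fun r hr => ⟨1, one_mem Q, r, hr, (one_mul r).symm⟩)
  exact hH (Subgroup.mem_top s)

omit [Finite P] in
theorem QFactor.decomp_unique (h : QFactor Q R z) {q q' r r' : P} (hq : q ∈ Q) (hq' : q' ∈ Q)
    (hr : r ∈ R) (hr' : r' ∈ R) (e : q * r = q' * r') : q = q' ∧ r = r' := by
  have hmem : q'⁻¹ * q ∈ Q ⊓ R := Subgroup.mem_inf.2 ⟨mul_mem (inv_mem hq') hq, by
    rw [show q'⁻¹ * q = q'⁻¹ * (q * r) * r⁻¹ by group, e, inv_mul_cancel_left]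
    exact mul_mem hr' (inv_mem hr)⟩
  rw [h.disj, Subgroup.mem_bot, inv_mul_eq_one] at hmem
  subst hmem
  exact ⟨rfl, mul_left_cancel e⟩

/-- Under any automorphism the involution of the factor is fixed or moved into the cofactor. -/
theorem QFactor.map_eq_or_mem (h : QFactor Q R z) (φ : MulAut P) : φ z = z ∨ φ z ∈ R := by
  classical
  by_contra hcon
  rw [not_or] at hcon
  obtain ⟨hne, hzR⟩ := hcon
  have hdis : ∀ x ∈ Q, φ x ∈ R → x = 1 := by
    intro x hx hxR
    by_contra hx1
    obtain ⟨k, hk⟩ := IsPGroup.iff_orderOf.1 h.two ⟨x, hx⟩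
    rw [← Subgroup.orderOf_coe] at hk
    change orderOf x = 2 ^ k at hk
    obtain _ | k := k
    · exact hx1 (orderOf_eq_one_iff.1 (by simpa using hk))
    · refine hzR ?_
      rw [← h.uniq (x ^ 2 ^ k) (pow_mem hx _) ?_, map_pow]
      · exact pow_mem hxR _
      · rw [orderOf_pow_of_dvd (by positivity) (hk ▸ pow_dvd_pow 2 (Nat.le_succ k)), hk, pow_succ',
          Nat.mul_div_cancel _ (by positivity)]
  -- projection to `Q` is onto
  choose qp hqp rp hrp hdec using fun s => h.exists_decomp s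
  have hinj : Function.Injective (fun x : Q => (⟨qp (φ x), hqp _⟩ : Q)) := by
    intro x y e
    have e' : qp (φ x) = qp (φ y) := congrArg Subtype.val e
    have h1 : φ ((x : P)⁻¹ * y) ∈ R := by
      rw [map_mul, map_inv, hdec (φ x), hdec (φ y), e', mul_inv_rev, mul_assoc,
        inv_mul_cancel_left]
      exact mul_mem (inv_mem (hrp _)) (hrp _)
    exact Subtype.ext (inv_mul_eq_one.1 (hdis _ (mul_mem (inv_mem x.2) y.2) h1))
  have hsurj := Finite.surjective_of_injective hinj
  -- the centralizer of the image of `Q`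
  set W : Set P := {s | ∀ x ∈ Q, φ x * s = s * φ x} with hW
  have hsub : W ⊆ Set.range (fun p : Bool × R => (if p.1 then z else 1) * (p.2 : P)) := by
    intro s hs
    have hq : qp s = 1 ∨ qp s = z := by
      refine h.center _ (hqp s) fun x hx => ?_
      obtain ⟨y, hy⟩ := hsurj ⟨x, hx⟩
      have hy' : qp (φ y) = x := congrArg Subtype.val hy
      have e := hs y y.2
      rw [hdec (φ y), hdec s, hy'] at e
      refine (h.decomp_unique (mul_mem hx (hqp s)) (mul_mem (hqp s) hx)
        (mul_mem (hrp (φ y)) (hrp s)) (mul_mem (hrp s) (hrp (φ y))) ?_).1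
      calc x * qp s * (rp (φ y) * rp s) = x * (qp s * rp (φ y)) * rp s := by simp [mul_assoc]
        _ = x * rp (φ y) * (qp s * rp s) := by
          rw [h.comm _ (hqp s) _ (hrp (φ y))]; simp [mul_assoc]
        _ = qp s * rp s * (x * rp (φ y)) := e
        _ = qp s * (x * rp s) * rp (φ y) := by
          rw [h.comm _ hx _ (hrp s)]; simp [mul_assoc]
        _ = qp s * x * (rp s * rp (φ y)) := by simp [mul_assoc]
    rcases hq with e | e
    · exact ⟨(false, ⟨rp s, hrp s⟩), by simp [← hdec s |>.trans (by rw [e, one_mul])]⟩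
    · exact ⟨(true, ⟨rp s, hrp s⟩), by simp [← e, ← hdec s]⟩
  have hzc : ∀ x ∈ Q, x * z = z * x := by
    intro x hx
    have := h.uniq _ (mul_mem (mul_mem hx h.mem) (inv_mem hx)) ((orderOf_conj x z).trans h.ord)
    exact mul_inv_eq_iff_eq_mul.1 this
  let f : Bool × R → W := fun p => ⟨φ ((if p.1 then z else 1) * (p.2 : P)), by
    intro x hx
    rw [← map_mul, ← map_mul]
    congr 1
    cases p.1
    · simp [h.comm x hx p.2 p.2.2]
    · simp only [if_true]
      rw [← mul_assoc, hzc x hx, mul_assoc, h.comm x hx p.2 p.2.2, mul_assoc]⟩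
  have hf : Function.Injective f := by
    rintro ⟨b, r⟩ ⟨b', r'⟩ e
    have e' := φ.injective (congrArg Subtype.val e)
    have hmem : ∀ b : Bool, (if b then z else 1) ∈ Q := fun b => by
      cases b <;> simp [h.mem, one_mem]
    obtain ⟨e1, e2⟩ := h.decomp_unique (hmem b) (hmem b') r.2 r'.2 e'
    have hb : b = b' := by
      cases b <;> cases b'
      · rfl
      · exact absurd e1.symm (ne_one_of_orderOf_two h.ord)
      · exact absurd e1 (ne_one_of_orderOf_two h.ord)
      · rfl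
    exact Prod.ext hb (Subtype.ext e2)
  have heq : W = Set.range (fun p : Bool × R => (if p.1 then z else 1) * (p.2 : P)) := by
    refine Set.eq_of_subset_of_ncard_le hsub ?_ (Set.toFinite _)
    refine le_trans ?_ (Nat.card_le_card_of_injective f hf |>.trans_eq (Nat.card_coe_set_eq W))
    rw [← Nat.card_coe_set_eq]
    exact Nat.card_le_card_of_surjective (Set.rangeFactorization _) Set.rangeFactorization_surjective
  have hR : ∀ r ∈ R, ∀ x ∈ Q, φ x * r = r * φ x := by
    intro r hr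
    have : r ∈ W := by rw [heq]; exact ⟨(false, ⟨r, hr⟩), by simp⟩
    exact this
  -- so the cofactor parts are central
  have hcen : ∀ x ∈ Q, ∀ s, rp (φ x) * s = s * rp (φ x) := by
    intro x hx s
    have hrR : ∀ r ∈ R, rp (φ x) * r = r * rp (φ x) := fun r hr => by
      have e := hR r hr x hx
      rw [hdec (φ x), mul_assoc, ← mul_assoc r, ← h.comm _ (hqp _) r hr, mul_assoc] at e
      exact mul_left_cancel e
    rw [hdec s, ← mul_assoc, ← h.comm _ (hqp s) _ (hrp _), mul_assoc, hrR _ (hrp s),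
      mul_assoc]
  obtain ⟨a, ha, b, hb, hab⟩ := h.isCommutator
  have hQmem : φ z ∈ Q := by
    rw [← hab, map_mul, map_mul, map_mul, map_inv, map_inv, hdec (φ a), hdec (φ b)]
    have ca := hcen a ha
    have cb := hcen b hb
    have e : qp (φ a) * rp (φ a) * (qp (φ b) * rp (φ b)) * (qp (φ a) * rp (φ a))⁻¹ *
        (qp (φ b) * rp (φ b))⁻¹ = qp (φ a) * qp (φ b) * (qp (φ a))⁻¹ * (qp (φ b))⁻¹ := by
      rw [← ca (qp (φ a)), ← cb (qp (φ b))]
      calc rp (φ a) * qp (φ a) * (rp (φ b) * qp (φ b)) * (rp (φ a) * qp (φ a))⁻¹ *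
            (rp (φ b) * qp (φ b))⁻¹
          = rp (φ a) * (qp (φ a) * (rp (φ b) * qp (φ b)) * (qp (φ a))⁻¹) * (rp (φ a))⁻¹ *
              ((qp (φ b))⁻¹ * (rp (φ b))⁻¹) := by group
        _ = (qp (φ a) * (rp (φ b) * qp (φ b)) * (qp (φ a))⁻¹) *
              ((qp (φ b))⁻¹ * (rp (φ b))⁻¹) := by rw [ca, mul_inv_cancel_right]
        _ = (qp (φ a) * rp (φ b) * (qp (φ b) * (qp (φ a))⁻¹ * (qp (φ b))⁻¹)) * (rp (φ b))⁻¹ := by
            group
        _ = qp (φ a) * qp (φ b) * (qp (φ a))⁻¹ * (qp (φ b))⁻¹ := by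
            rw [← cb (qp (φ a)), mul_assoc (rp (φ b)), cb, mul_inv_cancel_right]; group
    rw [e]
    exact mul_mem (mul_mem (mul_mem (hqp _) (hqp _)) (inv_mem (hqp _))) (inv_mem (hqp _))
  exact hne (h.uniq _ hQmem (by rw [MulEquiv.orderOf_eq, h.ord]))

/-- A group with a quaternion direct factor has a central involution fixed by all automorphisms. -/
theorem QFactor.exists_fixed (h : QFactor Q R z) :
    ∃ p : P, orderOf p = 2 ∧ (∀ s, s * p = p * s) ∧ ∀ φ : MulAut P, φ p = p := by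
  classical
  haveI : Fintype (MulAut P) := Fintype.ofFinite _
  have hzc : z ∈ Subgroup.center P := Subgroup.mem_center_iff.2 fun s => by
    obtain ⟨q, hq, r, hr, rfl⟩ := h.exists_decomp s
    have h1 : q * z = z * q := mul_inv_eq_iff_eq_mul.1
      (h.uniq _ (mul_mem (mul_mem hq h.mem) (inv_mem hq)) ((orderOf_conj q z).trans h.ord))
    rw [mul_assoc, ← h.comm z h.mem r hr, ← mul_assoc, h1, mul_assoc]
  have hmap : ∀ φ : MulAut P, φ z ∈ Subgroup.center P := fun φ => Subgroup.mem_center_iff.2 fun s => by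
    rw [← φ.apply_symm_apply s, ← map_mul, ← map_mul, Subgroup.mem_center_iff.1 hzc]
  set O : Finset (Subgroup.center P) :=
    Finset.univ.image fun φ : MulAut P => (⟨φ z, hmap φ⟩ : Subgroup.center P)
  set c : Subgroup.center P := ∏ x ∈ O, x with hc
  have hzO : (⟨z, hzc⟩ : Subgroup.center P) ∈ O :=
    Finset.mem_image.2 ⟨1, Finset.mem_univ _, rfl⟩
  have hc1 : (c : P) ∉ R := by
    intro hcR
    have hzR : z ∉ R := fun hzR => ne_one_of_orderOf_two h.ord
      (Subgroup.mem_bot.1 (h.disj ▸ ⟨h.mem, hzR⟩ : z ∈ (⊥ : Subgroup P)))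
    have hrest : ∏ x ∈ O.erase ⟨z, hzc⟩, x ∈ R.subgroupOf (Subgroup.center P) := by
      refine prod_mem fun x hx => ?_
      obtain ⟨hne, hxO⟩ := Finset.mem_erase.1 hx
      obtain ⟨φ, -, rfl⟩ := Finset.mem_image.1 hxO
      rcases h.map_eq_or_mem φ with e | e
      · exact absurd (Subtype.ext e) hne
      · exact e
    rw [hc, ← Finset.mul_prod_erase O _ hzO, Subgroup.coe_mul] at hcR
    exact hzR ((mul_mem_cancel_right (Subgroup.mem_subgroupOf.1 hrest)).1 hcR)
  refine ⟨c, ?_, fun s => Subgroup.mem_center_iff.1 c.2 s, fun φ => ?_⟩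
  · refine orderOf_eq_two_of_mul_self ?_ fun h1 => hc1 (h1 ▸ one_mem R)
    rw [← Subgroup.coe_mul, hc, ← Finset.prod_mul_distrib, Finset.prod_eq_one, Subgroup.coe_one]
    intro x hx
    obtain ⟨φ, -, rfl⟩ := Finset.mem_image.1 hx
    exact Subtype.ext (mul_self_of_orderOf_two (by rw [MulEquiv.orderOf_eq]; exact h.ord))
  · let ψ : Subgroup.center P →* Subgroup.center P :=
      MonoidHom.mk' (fun x => ⟨φ x, Subgroup.mem_center_iff.2 fun s => by
        rw [← φ.apply_symm_apply s, ← map_mul, ← map_mul, Subgroup.mem_center_iff.1 x.2]⟩)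
        fun x y => Subtype.ext (map_mul φ _ _)
    have hψinj : Function.Injective ψ := fun x y e =>
      Subtype.ext (φ.injective (congrArg Subtype.val e))
    suffices ψ c = c from congrArg Subtype.val this
    rw [hc, map_prod, ← Finset.prod_image (f := fun x => x) hψinj.injOn]
    congr 1
    refine Finset.eq_of_subset_of_card_le ?_ (Finset.card_image_of_injective _ hψinj).ge
    intro x hx
    obtain ⟨y, hy, rfl⟩ := Finset.mem_image.1 hx
    obtain ⟨φ', -, rfl⟩ := Finset.mem_image.1 hy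
    exact Finset.mem_image.2 ⟨φ * φ', Finset.mem_univ _, rfl⟩

end Cfsg.Agent.Inv
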