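import Cfsg.Agent.Lib.Inv.TwoRankOne
import Mathlib.RingTheory.RootsOfUnity.Complex
import Mathlib.RingTheory.IntegralDomain
import Mathlib.GroupTheory.Transfer

/-!
# Finite groups in which commuting involutions are equal

Centralisers of elements of order 4 and the linear characters used for Brauer–Suzuki.
-/

set_option autoImplicit false

namespace Cfsg.Agent.Inv

variable {G : Type*} [Group G]

/-- Commuting involutions are equal. -/
def TwoRankOne (G : Type*) [Group G] : Prop :=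
  ∀ s t : G, orderOf s = 2 → orderOf t = 2 → Commute s t → s = t

theorem TwoRankOne.of_injective {H : Type*} [Group H] (h : TwoRankOne G) (f : H →* G)
    (hf : Function.Injective f) : TwoRankOne H := fun s t hs ht hc =>
  hf (h _ _ (by rwa [orderOf_injective f hf]) (by rwa [orderOf_injective f hf]) (hc.map f))

theorem TwoRankOne.subgroup (h : TwoRankOne G) (H : Subgroup G) : TwoRankOne H :=
  h.of_injective H.subtype Subtype.val_injective

theorem orderOf_sq_of_four {u : G} (hu : orderOf u = 4) : orderOf (u ^ 2) = 2 := by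
  rw [orderOf_pow' _ two_ne_zero, hu]; norm_num

/-- Two elements of order 4 in one cyclic subgroup are equal or inverse. -/
theorem eq_or_inv_of_four {g u v : G} (hu : orderOf u = 4) (hv : orderOf v = 4)
    (hug : u ∈ Subgroup.zpowers g) (hvg : v ∈ Subgroup.zpowers g) : v = u ∨ v = u⁻¹ := by
  obtain ⟨i, rfl⟩ := Subgroup.mem_zpowers_iff.1 hug
  obtain ⟨j, rfl⟩ := Subgroup.mem_zpowers_iff.1 hvg
  rcases Nat.eq_zero_or_pos (orderOf g) with h0 | hpos
  · exfalso
    have h := pow_orderOf_eq_one (g ^ i)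
    rw [hu, ← zpow_natCast, ← zpow_mul, ← orderOf_dvd_iff_zpow_eq_one, h0] at h
    have hi : i = 0 := by simpa using h
    rw [hi, zpow_zero, orderOf_one] at hu
    omega
  have key : ∀ k : ℤ, orderOf (g ^ k) = 4 → ∃ m : ℤ, (orderOf g : ℤ) ∣ 4 * k ∧
      ¬ (orderOf g : ℤ) ∣ 2 * k ∧ 4 * k = (orderOf g : ℤ) * m ∧ Odd m := by
    intro k hk
    have h4 : (orderOf g : ℤ) ∣ 4 * k := by
      rw [orderOf_dvd_iff_zpow_eq_one, mul_comm, zpow_mul]
      exact_mod_cast hk ▸ pow_orderOf_eq_one (g ^ k)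
    have h2 : ¬ (orderOf g : ℤ) ∣ 2 * k := by
      rw [orderOf_dvd_iff_zpow_eq_one, mul_comm, zpow_mul]
      intro h
      have := orderOf_dvd_of_pow_eq_one (x := g ^ k) (n := 2) (by exact_mod_cast h)
      rw [hk] at this; omega
    obtain ⟨m, hm⟩ := h4
    refine ⟨m, ⟨m, hm⟩, h2, hm, ?_⟩
    rcases Int.even_or_odd m with ⟨m', rfl⟩ | h
    · exact absurd ⟨m', by linarith⟩ h2
    · exact h
  obtain ⟨m, -, -, hm, ⟨m', rfl⟩⟩ := key i hu
  obtain ⟨l, -, -, hl, ⟨l', rfl⟩⟩ := key j hv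
  rcases Int.even_or_odd (l' - m') with ⟨e, he⟩ | ⟨e, he⟩
  · left
    rw [zpow_eq_zpow_iff_modEq, Int.modEq_iff_dvd]
    exact ⟨-e, by rw [show l' = m' + (e + e) by linarith] at hl; linarith⟩
  · right
    rw [← zpow_neg, zpow_eq_zpow_iff_modEq, Int.modEq_iff_dvd]
    exact ⟨-(m' + e + 1), by rw [show l' = m' + (2 * e + 1) by linarith] at hl; linarith⟩

variable [Finite G]

theorem exists_orderOf_two {Q : Subgroup G} (hQ : IsPGroup 2 Q) (hne : Q ≠ ⊥) :
    ∃ c ∈ Q, orderOf c = 2 ∧ ∀ q ∈ Q, Commute c q := by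
  haveI : Fact (Nat.Prime 2) := ⟨Nat.prime_two⟩
  haveI := (Q.nontrivial_iff_ne_bot).2 hne
  haveI := hQ.center_nontrivial
  obtain ⟨n, hn, hcard⟩ := (hQ.to_subgroup (Subgroup.center Q)).nontrivial_iff_card.1 inferInstance
  obtain ⟨c, hc⟩ := exists_prime_orderOf_dvd_card' (G := Subgroup.center Q) 2
    (hcard ▸ dvd_pow_self 2 hn.ne')
  refine ⟨((c : Q) : G), (c : Q).2, by rw [Subgroup.orderOf_coe, Subgroup.orderOf_coe, hc],
    fun q hq => ?_⟩
  have := Subgroup.mem_center_iff.1 c.2 ⟨q, hq⟩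
  exact (congrArg Subtype.val this).symm

theorem TwoRankOne.unique_of_pgroup (h : TwoRankOne G) {Q : Subgroup G} (hQ : IsPGroup 2 Q)
    {s t : G} (hsQ : s ∈ Q) (htQ : t ∈ Q) (hs : orderOf s = 2) (ht : orderOf t = 2) : s = t := by
  have hne : Q ≠ ⊥ := fun hb => by
    rw [hb, Subgroup.mem_bot] at hsQ
    rw [hsQ, orderOf_one] at hs
    omega
  obtain ⟨c, -, hc, hcomm⟩ := exists_orderOf_two hQ hne
  rw [← h c s hc hs (hcomm s hsQ), ← h c t hc ht (hcomm t htQ)]

/-- A 2-subgroup centralising an element of order 4 is cyclic. -/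
theorem TwoRankOne.isCyclic_of_four (h : TwoRankOne G) {Q : Subgroup G} (hQ : IsPGroup 2 Q)
    {u : G} (hu : orderOf u = 4) (hQu : ∀ q ∈ Q, Commute q u) :
    IsCyclic (Q ⊔ Subgroup.zpowers u : Subgroup G) := by
  haveI : Fact (Nat.Prime 2) := ⟨Nat.prime_two⟩
  set R := Q ⊔ Subgroup.zpowers u with hR
  have hz : IsPGroup 2 (Subgroup.zpowers u) :=
    IsPGroup.of_card (n := 2) (by rw [Nat.card_zpowers, hu]; rfl)
  have hle : Q ≤ Subgroup.normalizer (Subgroup.zpowers u : Set G) := by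
    intro q hq
    refine Subgroup.centralizer_le_normalizer _ ?_
    intro x hx
    obtain ⟨k, rfl⟩ := Subgroup.mem_zpowers_iff.1 hx
    exact ((hQu q hq).zpow_right k).symm
  have hRp : IsPGroup 2 R := hQ.to_sup_of_normal_right' hz hle
  by_contra hnc
  obtain ⟨a, ha4, -, hinv⟩ := exists_cyclic_index_two hRp (fun s t hs ht => Subtype.ext
    (h.unique_of_pgroup hRp s.2 t.2 (by rwa [Subgroup.orderOf_coe])
      (by rwa [Subgroup.orderOf_coe]))) hnc
  have hRc : R ≤ Subgroup.centralizer ({u} : Set G) := sup_le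
    (fun q hq => Subgroup.mem_centralizer_singleton_iff.2 (hQu q hq))
    (Subgroup.zpowers_le.2 (Subgroup.mem_centralizer_singleton_iff.2 rfl))
  set uR : R := ⟨u, Subgroup.mem_sup_right (Subgroup.mem_zpowers u)⟩
  have hcen : ∀ g : R, g * uR = uR * g := fun g =>
    Subtype.ext (Subgroup.mem_centralizer_singleton_iff.1 (hRc g.2))
  have huR : orderOf uR = 4 := by rw [← Subgroup.orderOf_coe]; exact hu
  by_cases hua : uR ∈ Subgroup.zpowers a
  · obtain ⟨g, hg⟩ : ∃ g, g ∉ Subgroup.zpowers a := by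
      by_contra! hall
      exact hnc ⟨a, hall⟩
    obtain ⟨k, hk⟩ := Subgroup.mem_zpowers_iff.1 hua
    have e1 : g * uR * g⁻¹ = uR⁻¹ := by rw [← hk, ← conj_zpow, (hinv g hg).1, inv_zpow]
    rw [hcen g, mul_inv_cancel_right] at e1
    have : orderOf uR ∣ 2 := orderOf_dvd_of_pow_eq_one (by
      rw [pow_two]; nth_rw 1 [e1]; exact inv_mul_cancel uR)
    rw [huR] at this; omega
  · have e1 := (hinv uR hua).1
    rw [← hcen a, mul_inv_cancel_right] at e1
    have : orderOf a ∣ 2 := orderOf_dvd_of_pow_eq_one (by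
      rw [pow_two]; nth_rw 1 [e1]; exact inv_mul_cancel a)
    have := Nat.le_of_dvd two_pos this
    omega

/-- An element of order divisible by 4 centralising `u` has `u` among its powers. -/
theorem TwoRankOne.mem_zpowers_of_four_dvd (h : TwoRankOne G) {u g : G} (hu : orderOf u = 4)
    (hg : Commute g u) (h4 : 4 ∣ orderOf g) : u ∈ Subgroup.zpowers g := by
  haveI : Fact (Nat.Prime 2) := ⟨Nat.prime_two⟩
  set w := g ^ (orderOf g / 4) with hw
  have hwo : orderOf w = 4 := by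
    rw [hw, orderOf_pow_of_dvd (Nat.div_pos (Nat.le_of_dvd (orderOf_pos g) h4) (by norm_num)).ne'
      (Nat.div_dvd_of_dvd h4), Nat.div_div_self h4 (orderOf_pos g).ne']
  have hc := h.isCyclic_of_four (Q := Subgroup.zpowers w)
    (IsPGroup.of_card (n := 2) (by rw [Nat.card_zpowers, hwo]; rfl)) hu (fun q hq => by
      obtain ⟨k, rfl⟩ := Subgroup.mem_zpowers_iff.1 hq
      exact (hg.pow_left _).zpow_left k)
  obtain ⟨⟨b, hb⟩, hgen⟩ := hc.exists_generator
  have hmem : ∀ r ∈ Subgroup.zpowers w ⊔ Subgroup.zpowers u, r ∈ Subgroup.zpowers b := fun r hr => by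
    obtain ⟨n, hn⟩ := Subgroup.mem_zpowers_iff.1 (hgen ⟨r, hr⟩)
    exact Subgroup.mem_zpowers_iff.2 ⟨n, congrArg Subtype.val hn⟩
  have hwg : w ∈ Subgroup.zpowers g := Subgroup.pow_mem _ (Subgroup.mem_zpowers g) _
  rcases eq_or_inv_of_four hwo hu (hmem _ (Subgroup.mem_sup_left (Subgroup.mem_zpowers w)))
    (hmem _ (Subgroup.mem_sup_right (Subgroup.mem_zpowers u))) with e | e
  · rw [e]; exact hwg
  · rw [e]; exact inv_mem hwg

/-- If an element of order 4 inside `⟨g⟩` is moved into `⟨g⟩`, it is moved to itself or its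
inverse. -/
theorem conj_four_eq {g x t : G} (hx : orderOf x = 4) (hxg : x ∈ Subgroup.zpowers g)
    (htg : x ∈ Subgroup.zpowers (t * g * t⁻¹)) : t⁻¹ * x * t = x ∨ t⁻¹ * x * t = x⁻¹ := by
  refine eq_or_inv_of_four hx ?_ hxg ?_
  · rw [← hx]
    have := orderOf_conj t⁻¹ x
    rwa [inv_inv] at this
  · obtain ⟨k, hk⟩ := Subgroup.mem_zpowers_iff.1 htg
    refine Subgroup.mem_zpowers_iff.2 ⟨k, ?_⟩
    rw [← hk, conj_zpow]; group

/-- The 2-element data attached to a maximal cyclic 2-subgroup with an inverting element. -/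
structure CycData (G : Type*) [Group G] where
  /-- generator -/
  a : G
  /-- inverting element -/
  y : G
  /-- 2-element -/
  hpow : ∃ k, orderOf a = 2 ^ k
  /-- order at least 4 -/
  h4 : 4 ∣ orderOf a
  /-- inversion -/
  hy : y * a * y⁻¹ = a⁻¹
  /-- maximality -/
  hmax : ∀ b : G, (∃ k, orderOf b = 2 ^ k) → orderOf b ≤ orderOf a

namespace CycData

variable (D : CycData G)

/-- The element of order 4. -/
noncomputable def x : G := D.a ^ (orderOf D.a / 4)

omit [Finite G] in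
theorem orderOf_a_pos : 0 < orderOf D.a := by
  obtain ⟨k, hk⟩ := D.hpow
  rw [hk]; positivity

omit [Finite G] in
theorem orderOf_x : orderOf D.x = 4 := by
  rw [x, orderOf_pow_of_dvd (Nat.div_pos (Nat.le_of_dvd D.orderOf_a_pos D.h4) (by norm_num)).ne'
    (Nat.div_dvd_of_dvd D.h4), Nat.div_div_self D.h4 D.orderOf_a_pos.ne']

omit [Finite G] in
theorem y_inv : D.y * D.x * D.y⁻¹ = D.x⁻¹ := by
  rw [x, ← conj_pow, D.hy, inv_pow]

omit [Finite G] in
theorem y_not_commute : ¬ Commute D.y D.x := fun h => by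
  have e := D.y_inv
  rw [h.eq, mul_inv_cancel_right] at e
  have : orderOf D.x ∣ 2 := orderOf_dvd_of_pow_eq_one (by
    rw [pow_two]; nth_rw 1 [e]; exact inv_mul_cancel _)
  rw [D.orderOf_x] at this
  omega

omit [Finite G] in
theorem mem_centralizer_a : D.a ∈ Subgroup.centralizer ({D.x} : Set G) :=
  Subgroup.mem_centralizer_singleton_iff.2 (Commute.self_pow D.a _).eq

omit [Finite G] in
theorem conj_mem {c : G} (hc : c ∈ Subgroup.centralizer ({D.x} : Set G)) :
    D.y * c * D.y⁻¹ ∈ Subgroup.centralizer ({D.x} : Set G) := by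
  rw [Subgroup.mem_centralizer_singleton_iff] at hc ⊢
  have h : Commute (D.y * c * D.y⁻¹) (D.y * D.x * D.y⁻¹) := by
    show D.y * c * D.y⁻¹ * (D.y * D.x * D.y⁻¹) = D.y * D.x * D.y⁻¹ * (D.y * c * D.y⁻¹)
    rw [show D.y * c * D.y⁻¹ * (D.y * D.x * D.y⁻¹) = D.y * (c * D.x) * D.y⁻¹ by group, hc]
    group
  rw [D.y_inv] at h
  exact (Commute.inv_right_iff.1 h).eq

/-- The linear character of the centraliser of `x` and the normal 2-complement. -/
theorem exists_lambda (h : TwoRankOne G) :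
    ∃ (lam : Subgroup.centralizer ({D.x} : Set G) →* ℂˣ) (K : Subgroup G),
      (∀ c : Subgroup.centralizer ({D.x} : Set G), ¬ 4 ∣ orderOf (c : G) → lam c = 1) ∧
      (∀ c : Subgroup.centralizer ({D.x} : Set G), lam ⟨D.y * (c : G) * D.y⁻¹, D.conj_mem c.2⟩ = (lam c)⁻¹) ∧
      orderOf (lam ⟨D.a, D.mem_centralizer_a⟩) = orderOf D.a / 2 ∧
      (orderOf D.a = 4 → ∀ c, lam c ^ 2 = 1) ∧
      K ≤ Subgroup.centralizer ({D.x} : Set G) ∧
      (∀ c ∈ Subgroup.centralizer ({D.x} : Set G), ∀ k ∈ K, c * k * c⁻¹ ∈ K) ∧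
      ¬ 2 ∣ Nat.card K ∧
      (∀ c ∈ Subgroup.centralizer ({D.x} : Set G),
        ∃ t ∈ Subgroup.zpowers D.a, ∃ k ∈ K, c = t * k) := by
  haveI : Fact (Nat.Prime 2) := ⟨Nat.prime_two⟩
  set C := Subgroup.centralizer ({D.x} : Set G) with hC
  set a' : C := ⟨D.a, D.mem_centralizer_a⟩ with ha'
  have hoa : orderOf a' = orderOf D.a := by rw [← Subgroup.orderOf_coe]
  obtain ⟨e, he⟩ := D.hpow
  obtain ⟨T, hT⟩ := (IsPGroup.of_card (G := Subgroup.zpowers a') (p := 2) (n := e)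
    (by rw [Nat.card_zpowers, hoa, he])).exists_le_sylow
  -- T is cyclic generated by a'
  set TG : Subgroup G := (T : Subgroup C).map C.subtype with hTG
  have hTGp : IsPGroup 2 TG := T.isPGroup'.map C.subtype
  have hTGc : ∀ q ∈ TG, Commute q D.x := by
    rintro _ ⟨c, -, rfl⟩
    exact Subgroup.mem_centralizer_singleton_iff.1 c.2
  have haT : D.a ∈ TG := ⟨a', hT (Subgroup.mem_zpowers a'), rfl⟩
  obtain ⟨⟨b, hb⟩, hgen⟩ := (h.isCyclic_of_four hTGp D.orderOf_x hTGc).exists_generator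
  have hsup : TG ⊔ Subgroup.zpowers D.x = TG :=
    sup_eq_left.2 (Subgroup.zpowers_le.2 (TG.pow_mem haT _))
  have hTb : ∀ q ∈ TG, q ∈ Subgroup.zpowers b := fun q hq => by
    obtain ⟨n, hn⟩ := Subgroup.mem_zpowers_iff.1 (hgen ⟨q, Subgroup.mem_sup_left hq⟩)
    exact Subgroup.mem_zpowers_iff.2 ⟨n, congrArg Subtype.val hn⟩
  rw [hsup] at hb
  have hab : Subgroup.zpowers D.a = Subgroup.zpowers b := by
    refine Subgroup.eq_of_le_of_card_ge (Subgroup.zpowers_le.2 (hTb _ haT)) ?_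
    rw [Nat.card_zpowers, Nat.card_zpowers]
    refine D.hmax b ?_
    obtain ⟨k, hk⟩ := IsPGroup.iff_orderOf.1 hTGp ⟨b, hb⟩
    exact ⟨k, by rw [← hk, ← Subgroup.orderOf_coe]⟩
  have hTmem : ∀ c : C, c ∈ (T : Subgroup C) ↔ (c : G) ∈ Subgroup.zpowers D.a := fun c => by
    constructor
    · intro hc
      rw [hab]; exact hTb _ ⟨c, hc, rfl⟩
    · intro hc
      obtain ⟨n, hn⟩ := Subgroup.mem_zpowers_iff.1 hc
      have hc' : c = a' ^ n := Subtype.ext (by rw [SubgroupClass.coe_zpow]; exact hn.symm)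
      rw [hc']; exact hT (Subgroup.zpow_mem _ (Subgroup.mem_zpowers a') n)
  set aT : (T : Subgroup C) := ⟨a', hT (Subgroup.mem_zpowers a')⟩
  have haTgen : ∀ t : (T : Subgroup C), t ∈ Subgroup.zpowers aT := fun t => by
    obtain ⟨n, hn⟩ := Subgroup.mem_zpowers_iff.1 ((hTmem _).1 t.2)
    exact Subgroup.mem_zpowers_iff.2 ⟨n, Subtype.ext (Subtype.ext (by
      rw [SubgroupClass.coe_zpow, SubgroupClass.coe_zpow]; exact hn))⟩
  have hTcyc : IsCyclic (T : Subgroup C) := ⟨aT, haTgen⟩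
  have hoaT : orderOf aT = orderOf D.a := by rw [← Subgroup.orderOf_coe]; exact hoa
  have heven : Even (Nat.card C) := by
    refine even_iff_two_dvd.2 (Dvd.dvd.trans ?_ (orderOf_dvd_natCard a'))
    rw [hoa]; exact (show 2 ∣ 4 by norm_num).trans D.h4
  have hm := minFac_card_eq_two heven
  obtain ⟨f, hcompl⟩ : ∃ f : C →* (T : Subgroup C), f.ker.IsComplement' (T : Subgroup C) :=
    ⟨MonoidHom.transferSylow T (hTcyc.normalizer_le_centralizer hm), hTcyc.isComplement' hm⟩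
  have hinj : Function.Injective (fun t : (T : Subgroup C) => f t) := by
    intro s t hst
    have h1 : ((s⁻¹ * t : (T : Subgroup C)) : C) ∈ f.ker := by
      rw [MonoidHom.mem_ker, Subgroup.coe_mul, Subgroup.coe_inv, map_mul, map_inv,
        show f (s : C) = f (t : C) from hst, inv_mul_cancel]
    have : ((s⁻¹ * t : (T : Subgroup C)) : C) ∈ f.ker ⊓ (T : Subgroup C) := ⟨h1, (s⁻¹ * t).2⟩
    rw [hcompl.disjoint.eq_bot, Subgroup.mem_bot] at this
    exact inv_mul_eq_one.1 (Subtype.ext this)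
  -- a faithful character of T
  set N := orderOf aT
  have hNpos : 0 < N := orderOf_pos aT
  have hζ := Complex.isPrimitiveRoot_exp N hNpos.ne'
  set ζ : ℂˣ := (hζ.isUnit hNpos.ne').unit
  have hζo : orderOf ζ = N := by
    rw [← orderOf_units, IsUnit.unit_spec]; exact hζ.eq_orderOf.symm
  obtain ⟨μ, hμa⟩ : ∃ μ : (T : Subgroup C) →* ℂˣ, μ aT = ζ :=
    ⟨monoidHomOfForallMemZpowers haTgen (g' := ζ) hζo.dvd, monoidHomOfForallMemZpowers_apply_gen _ _⟩
  have hμinj : Function.Injective μ := by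
    refine (injective_iff_map_eq_one μ).2 fun t ht => ?_
    obtain ⟨n, rfl⟩ := Subgroup.mem_zpowers_iff.1 (haTgen t)
    rw [map_zpow, hμa, ← orderOf_dvd_iff_zpow_eq_one, hζo] at ht
    exact orderOf_dvd_iff_zpow_eq_one.1 ht
  let lam : C →* ℂˣ := (powMonoidHom 2).comp (μ.comp f)
  have hlam : ∀ c, lam c = μ (f c) ^ 2 := fun c => rfl
  have hodd : ∀ c : C, Odd (orderOf (c : G)) → f c = 1 := by
    intro c hc
    obtain ⟨k, hk⟩ := IsPGroup.iff_orderOf.1 T.isPGroup' (f c)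
    have hd : orderOf (f c) ∣ orderOf (c : G) := by
      rw [Subgroup.orderOf_coe]; exact orderOf_map_dvd f c
    rw [hk] at hd
    rcases k with _ | k
    · exact orderOf_eq_one_iff.1 (by simpa using hk)
    · exact absurd (hc.of_dvd_nat ((dvd_pow_self 2 k.succ_ne_zero).trans hd)) (by decide)
  have hkerodd : ∀ c ∈ f.ker, Odd (orderOf (c : G)) := by
    intro c hc
    rw [Subgroup.orderOf_coe]
    have h1 : orderOf c ∣ Nat.card f.ker := Subgroup.orderOf_dvd_natCard _ hc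
    have h2 : ¬ 2 ∣ Nat.card f.ker := by
      rw [← hcompl.index_eq_card]; exact T.not_dvd_index
    rcases Nat.even_or_odd (orderOf c) with h' | h'
    · exact absurd ((even_iff_two_dvd.1 h').trans h1) h2
    · exact h'
  refine ⟨lam, f.ker.map C.subtype, fun c hc => ?_, fun c => ?_, ?_, fun h4 c => ?_,
    Subgroup.map_subtype_le _, ?_, ?_, ?_⟩
  · rw [hlam, ← map_pow]
    have h2 : f c ^ 2 = 1 := by
      obtain ⟨k, hk⟩ := IsPGroup.iff_orderOf.1 T.isPGroup' (f c)
      have hd : orderOf (f c) ∣ orderOf (c : G) := by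
        rw [Subgroup.orderOf_coe]; exact orderOf_map_dvd f c
      rcases Nat.lt_or_ge k 2 with hlt | hge
      · refine orderOf_dvd_iff_pow_eq_one.1 (hk ▸ ?_)
        exact (Nat.pow_dvd_pow 2 (by omega : k ≤ 1))
      · exact absurd ((show 4 ∣ 2 ^ k from Nat.pow_dvd_pow 2 hge).trans (hk ▸ hd)) hc
    rw [h2, map_one]
  · obtain ⟨⟨k, t⟩, hkt⟩ := hcompl.2 c
    simp only at hkt
    subst hkt
    have hk1 : lam k = 1 := by rw [hlam, show f (k : C) = 1 from k.2, map_one, one_pow]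
    obtain ⟨n, hn⟩ := Subgroup.mem_zpowers_iff.1 ((hTmem _).1 t.2)
    have hconj : (⟨D.y * ((((k : C) * (t : C) : C)) : G) * D.y⁻¹, D.conj_mem ((k : C) * (t : C)).2⟩ : C) =
        ⟨D.y * ((k : C) : G) * D.y⁻¹, D.conj_mem (k : C).2⟩ * (t : C)⁻¹ := by
      apply Subtype.ext
      show D.y * (((k : C) : G) * ((t : C) : G)) * D.y⁻¹ =
        D.y * ((k : C) : G) * D.y⁻¹ * ((t : C) : G)⁻¹
      rw [← hn, ← inv_zpow, ← D.hy, conj_zpow]
      group
    rw [hconj, map_mul, map_inv]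
    have hk2 : lam ⟨D.y * ((k : C) : G) * D.y⁻¹, D.conj_mem (k : C).2⟩ = 1 := by
      rw [hlam, hodd _ ?_, map_one, one_pow]
      rw [show ((⟨D.y * ((k : C) : G) * D.y⁻¹, D.conj_mem (k : C).2⟩ : C) : G) =
        D.y * ((k : C) : G) * D.y⁻¹ from rfl, orderOf_conj]
      exact hkerodd _ k.2
    rw [hk2, one_mul, map_mul, hk1, one_mul]
  · show orderOf (lam (aT : C)) = _
    rw [hlam]
    have h1 : orderOf (μ (f aT)) = N := by
      rw [orderOf_injective μ hμinj]
      exact orderOf_injective (f.comp (T : Subgroup C).subtype) hinj aT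
    rw [orderOf_pow' _ two_ne_zero, h1, Nat.gcd_eq_right ?_, hoaT]
    rw [hoaT]; exact (show 2 ∣ 4 by norm_num).trans D.h4
  · rw [hlam, ← pow_mul, ← map_pow]
    have : f c ^ (2 * 2) = 1 := by
      obtain ⟨n, hn⟩ := Subgroup.mem_zpowers_iff.1 (haTgen (f c))
      rw [← hn, ← zpow_natCast, ← zpow_mul, mul_comm, zpow_mul, zpow_natCast,
        show aT ^ (2 * 2) = 1 from by
          rw [show 2 * 2 = N by rw [hoaT, h4]]; exact pow_orderOf_eq_one aT, one_zpow]
    rw [this, map_one]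
  · rintro c hc _ ⟨k, hk, rfl⟩
    have hmem := (MonoidHom.normal_ker f).conj_mem k hk (⟨c, hc⟩ : C)
    refine ⟨(⟨c, hc⟩ : C) * k * (⟨c, hc⟩ : C)⁻¹, hmem, ?_⟩
    simp only [Subgroup.subtype_apply, Subgroup.coe_mul, Subgroup.coe_inv]
  · rw [Subgroup.card_subtype, ← hcompl.index_eq_card]
    exact T.not_dvd_index
  · intro c hc
    obtain ⟨⟨k, t⟩, hkt⟩ := hcompl.2 ⟨c, hc⟩
    simp only at hkt
    refine ⟨(t : C), (hTmem _).1 t.2, (((t : C)⁻¹ * k * t : C) : G), ?_, ?_⟩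
    · refine Subgroup.mem_map.2 ⟨(t : C)⁻¹ * k * t, ?_, rfl⟩
      have := (MonoidHom.normal_ker f).conj_mem k k.2 (t : C)⁻¹
      simpa using this
    · have := congrArg Subtype.val hkt
      simp only [Subgroup.coe_mul, Subgroup.coe_inv] at this ⊢
      rw [← this]; group

end CycData

end Cfsg.Agent.Inv
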