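import Mathlib

/-!
# Elements of order three of `SL₂(5)` inside `Sp₄(3)`
-/

set_option autoImplicit false

namespace Cfsg.Agent.Inv.SL25

open Module Matrix

theorem finrank_ker_comp_le {K V : Type*} [Field K] [AddCommGroup V] [Module K V]
    [FiniteDimensional K V] (f g : Module.End K V) :
    finrank K ↥(LinearMap.ker (f * g)) ≤
      finrank K ↥(LinearMap.ker f) + finrank K ↥(LinearMap.ker g) := by
  let h : ↥(LinearMap.ker (f * g)) →ₗ[K] ↥(LinearMap.ker f) :=
    (g.comp (LinearMap.ker (f * g)).subtype).codRestrict (LinearMap.ker f) fun v => v.2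
  have h1 := LinearMap.finrank_range_add_finrank_ker h
  have h2 := Submodule.finrank_le (LinearMap.range h)
  let k : ↥(LinearMap.ker h) →ₗ[K] ↥(LinearMap.ker g) :=
    ((LinearMap.ker (f * g)).subtype.comp (LinearMap.ker h).subtype).codRestrict (LinearMap.ker g)
      fun v => by
        have := congrArg Subtype.val (LinearMap.mem_ker.1 v.2)
        exact LinearMap.mem_ker.2 this
  have h3 : finrank K ↥(LinearMap.ker h) ≤ finrank K ↥(LinearMap.ker g) :=
    LinearMap.finrank_le_finrank_of_injective (f := k) fun a b hab =>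
      Subtype.ext (Subtype.ext (congrArg (fun t : ↥(LinearMap.ker g) => (t : V)) hab))
  omega

theorem end_order_five_trivial {K : Type*} [Field K] [Fintype K] (hK : Fintype.card K = 3)
    {V : Type*} [AddCommGroup V] [Module K V] [FiniteDimensional K V] (hV : finrank K V ≤ 3)
    (f : Module.End K V) (hf : f ^ 5 = 1) : f = 1 := by
  classical
  haveI : Finite V := Module.finite_of_finite K
  haveI : Fintype V := Fintype.ofFinite V
  haveI : Fact (Nat.Prime 5) := ⟨by norm_num⟩
  have hfv : ∀ v, f (f (f (f (f v)))) = v := fun v => by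
    have := LinearMap.congr_fun hf v
    simpa [pow_succ, pow_zero] using this
  let σ : Function.End V := (⇑f : V → V)
  have hσ : σ ^ 5 ^ 1 = 1 := by
    funext v
    exact hfv v
  have hmod := Equiv.Perm.card_fixedPoints_modEq (p := 5) (n := 1) (f := σ) hσ
  set W : Submodule K V := LinearMap.ker (f - 1) with hW
  have hfix : Nat.card ↥W = Fintype.card ↥(Function.fixedPoints σ) := by
    rw [Nat.card_eq_fintype_card]
    refine Fintype.card_congr (Equiv.subtypeEquivRight fun v => ?_)
    simp [hW, σ, Function.IsFixedPt, sub_eq_zero]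
  rw [← hfix, ← Nat.card_eq_fintype_card, Module.natCard_eq_pow_finrank (K := K) (V := V),
    Module.natCard_eq_pow_finrank (K := K) (V := ↥W), Nat.card_eq_fintype_card, hK] at hmod
  have hle := Submodule.finrank_le W
  have key : ∀ j k : ℕ, j ≤ k → k ≤ 3 → 3 ^ k ≡ 3 ^ j [MOD 5] → j = k := by
    intro j k hjk hk3 h
    interval_cases k <;> interval_cases j <;> simp_all [Nat.ModEq]
  have heq := key _ _ hle hV hmod
  have htop : W = ⊤ := Submodule.eq_top_of_finrank_eq heq
  refine LinearMap.ext fun v => ?_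
  have : v ∈ W := htop ▸ Submodule.mem_top
  simpa [hW, sub_eq_zero] using this

variable {F : Type*} [Field F] [Fintype F] {K : Type*} [Field K] [Fintype K]

omit [Fintype K] in
theorem order_three_trace (x : SpecialLinearGroup (Fin 2) K) (hx : orderOf x = 3) :
    x.1 0 0 + x.1 1 1 = -1 ∧ x ≠ 1 := by
  have hx1 : x ≠ 1 := fun e => by rw [e, orderOf_one] at hx; omega
  refine ⟨?_, hx1⟩
  have hd : x.1 0 0 * x.1 1 1 - x.1 0 1 * x.1 1 0 = 1 := by
    rw [← Matrix.det_fin_two]; exact x.2
  have h3 : x.1 * x.1 * x.1 = 1 := by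
    have h := congrArg Subtype.val (show x ^ 3 = 1 from hx ▸ pow_orderOf_eq_one x)
    simpa [pow_succ] using h
  have e00 := congrFun (congrFun h3 0) 0
  have e01 := congrFun (congrFun h3 0) 1
  have e10 := congrFun (congrFun h3 1) 0
  have e11 := congrFun (congrFun h3 1) 1
  simp [Matrix.mul_apply, Fin.sum_univ_two] at e00 e01 e10 e11
  set T := x.1 0 0 + x.1 1 1 with hT
  have f01 : (T ^ 2 - 1) * x.1 0 1 = 0 := by rw [hT]; linear_combination e01 + x.1 0 1 * hd
  have f10 : (T ^ 2 - 1) * x.1 1 0 = 0 := by rw [hT]; linear_combination e10 + x.1 1 0 * hd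
  have f00 : (T ^ 2 - 1) * x.1 0 0 - T = 1 := by
    rw [hT]; linear_combination e00 + (2 * x.1 0 0 + x.1 1 1) * hd
  have f11 : (T ^ 2 - 1) * x.1 1 1 - T = 1 := by
    rw [hT]; linear_combination e11 + (x.1 0 0 + 2 * x.1 1 1) * hd
  by_cases hT2 : T ^ 2 - 1 = 0
  · rw [hT2, zero_mul, zero_sub] at f00
    linear_combination -f00
  · exfalso
    have hb := (mul_eq_zero.1 f01).resolve_left hT2
    have hc := (mul_eq_zero.1 f10).resolve_left hT2
    rw [hb, hc] at hd e00 e11
    have ha3 : x.1 0 0 ^ 3 = 1 := by linear_combination e00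
    have had : x.1 0 0 = x.1 1 1 := by
      have : (T ^ 2 - 1) * (x.1 0 0 - x.1 1 1) = 0 := by linear_combination f00 - f11
      exact sub_eq_zero.1 ((mul_eq_zero.1 this).resolve_left hT2)
    rw [← had] at hd
    have ha : x.1 0 0 = 1 := by linear_combination ha3 - x.1 0 0 * hd
    exact hx1 (Subtype.ext (Matrix.ext fun i j => by
      fin_cases i <;> fin_cases j <;> simp [hb, hc, ha, ← had]))

/-- Some product of `x` with a conjugate of `x` squares to `-1`. -/
theorem exists_conj_prod_sq (hK : Fintype.card K = 5) (x : SpecialLinearGroup (Fin 2) K)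
    (hx : orderOf x = 3) :
    ∃ h : SpecialLinearGroup (Fin 2) K, ((x * (h * x * h⁻¹)) ^ 2).1 = -1 := by
  have h5 : (5 : K) = 0 := by
    have := Nat.cast_card_eq_zero K
    rw [hK] at this
    exact_mod_cast this
  obtain ⟨hT, -⟩ := order_three_trace x hx
  have hd : x.1 0 0 * x.1 1 1 - x.1 0 1 * x.1 1 0 = 1 := by
    rw [← Matrix.det_fin_two]; exact x.2
  have hroot : ∀ a : K, a ^ 2 + a + 1 ≠ 0 := by
    intro a ha
    have ha3 : a ^ 3 = 1 := by linear_combination (a - 1) * ha
    have ha0 : a ≠ 0 := fun e => by simp [e] at ha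
    have ha4 : a ^ 4 = 1 := by simpa [hK] using FiniteField.pow_card_sub_one_eq_one a ha0
    have ha1 : a = 1 := by linear_combination ha4 - a * ha3
    subst ha1
    exact one_ne_zero (α := K) (by linear_combination 2 * ha - h5)
  set a := x.1 0 0 with ha
  set b := x.1 0 1 with hb
  set c := x.1 1 0 with hc
  set d := x.1 1 1 with hdd
  have hd' : d = -1 - a := by linear_combination hT
  have hc0 : c ≠ 0 := fun e => hroot a (by rw [e, hd'] at hd; linear_combination -hd)
  set t : K := 2 * c⁻¹ with ht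
  let g : SpecialLinearGroup (Fin 2) K := ⟨!![1, t; 0, 1], by simp [Matrix.det_fin_two]⟩
  refine ⟨g, ?_⟩
  have hct : c * t = 2 := by rw [ht, mul_comm 2, ← mul_assoc, mul_inv_cancel₀ hc0, one_mul]
  have hxm : x.1 = !![a, b; c, d] := by
    ext i j; fin_cases i <;> fin_cases j <;> rfl
  have hprod : (x * (g * x * g⁻¹)).1 =
      !![a * (a + t * c) + b * c, a * (b + t * d - t * (a + t * c)) + b * (d - t * c);
        c * (a + t * c) + d * c, c * (b + t * d - t * (a + t * c)) + d * (d - t * c)] := by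
    have hgv : g.1 = !![1, t; 0, 1] := rfl
    have hgi : (g⁻¹).1 = !![1, -t; 0, 1] := by
      show Matrix.adjugate g.1 = _
      rw [hgv, Matrix.adjugate_fin_two_of, neg_zero]
    show x.1 * (g.1 * x.1 * (g⁻¹).1) = _
    rw [hgv, hgi, hxm]
    ext i j
    fin_cases i <;> fin_cases j <;>
      simp [Matrix.mul_apply, Fin.sum_univ_two] <;> ring
  set M := x * (g * x * g⁻¹) with hM
  have hdM : M.1 0 0 * M.1 1 1 - M.1 0 1 * M.1 1 0 = 1 := by
    rw [← Matrix.det_fin_two]; exact M.2
  have htr : M.1 0 0 + M.1 1 1 = 0 := by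
    rw [hprod]
    simp
    rw [hd']
    linear_combination -(c * t + 2) * hct - 2 * (by rw [hd'] at hd; exact hd : a * (-1 - a) - b * c = 1) - h5
  rw [sq]
  show M.1 * M.1 = -1
  ext i j
  fin_cases i <;> fin_cases j <;> simp [Matrix.mul_apply, Fin.sum_univ_two]
  · linear_combination M.1 0 0 * htr - hdM
  · linear_combination M.1 0 1 * htr
  · linear_combination M.1 1 0 * htr
  · linear_combination M.1 1 1 * htr - hdM

theorem fixed_space (hF : Fintype.card F = 3) (hK : Fintype.card K = 5)
    (φ : SpecialLinearGroup (Fin 2) K →* ↥(symplecticGroup (Fin 2) F)) (hφ : Function.Injective φ)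
    (x : SpecialLinearGroup (Fin 2) K) (hx : orderOf x = 3) :
    finrank F ↥(LinearMap.ker (Matrix.toLin' ((φ x : Matrix (Fin 2 ⊕ Fin 2) (Fin 2 ⊕ Fin 2) F)) - LinearMap.id)) = 2 ∧
      ∀ v w : Fin 2 ⊕ Fin 2 → F, (φ x : Matrix (Fin 2 ⊕ Fin 2) (Fin 2 ⊕ Fin 2) F).mulVec v = v →
        (φ x : Matrix (Fin 2 ⊕ Fin 2) (Fin 2 ⊕ Fin 2) F).mulVec w = w →
          dotProduct v ((Matrix.J (Fin 2) F).mulVec w) = 0 := by
  classical
  have h3 : (3 : F) = 0 := by
    have := Nat.cast_card_eq_zero F
    rw [hF] at this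
    exact_mod_cast this
  have hdim : finrank F (Fin 2 ⊕ Fin 2 → F) = 4 := by simp
  let ρ : SpecialLinearGroup (Fin 2) K →* Module.End F (Fin 2 ⊕ Fin 2 → F) :=
    ((Matrix.toLinAlgEquiv' : Matrix (Fin 2 ⊕ Fin 2) (Fin 2 ⊕ Fin 2) F ≃ₐ[F] _).toMonoidHom).comp
      ((symplecticGroup (Fin 2) F).subtype.comp φ)
  have hρ : ∀ g v, ρ g v = (φ g : Matrix (Fin 2 ⊕ Fin 2) (Fin 2 ⊕ Fin 2) F).mulVec v :=
    fun g v => rfl
  have hρi : Function.Injective ρ := fun g h hgh => hφ (Subtype.ext
    ((Matrix.toLinAlgEquiv' : Matrix (Fin 2 ⊕ Fin 2) (Fin 2 ⊕ Fin 2) F ≃ₐ[F] _).injective hgh))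
  -- the central involution acts as minus one
  have h50 : (5 : K) = 0 := by
    have := Nat.cast_card_eq_zero K
    rw [hK] at this
    exact_mod_cast this
  let z : SpecialLinearGroup (Fin 2) K := ⟨-1, by simp [Matrix.det_fin_two]⟩
  have hz2 : z * z = 1 := Subtype.ext (show (-1 : Matrix (Fin 2) (Fin 2) K) * -1 = 1 by simp)
  have hzc : ∀ g, z * g = g * z := fun g =>
    Subtype.ext (show (-1 : Matrix (Fin 2) (Fin 2) K) * g.1 = g.1 * -1 by simp)
  have hz1 : z ≠ 1 := fun e => by
    have h : (-1 : K) = 1 := by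
      have := congrFun (congrFun (congrArg Subtype.val e) 0) 0
      simpa [z] using this
    exact one_ne_zero (α := K) (by linear_combination 2 * h + h50)
  let y : SpecialLinearGroup (Fin 2) K := ⟨!![1, 1; 0, 1], by simp [Matrix.det_fin_two]⟩
  have hy5 : y ^ 5 = 1 := Subtype.ext (by
    rw [show y ^ 5 = y * y * y * y * y by simp [pow_succ]]
    show (!![1, 1; 0, 1] : Matrix (Fin 2) (Fin 2) K) * !![1, 1; 0, 1] * !![1, 1; 0, 1] *
      !![1, 1; 0, 1] * !![1, 1; 0, 1] = 1
    ext i j
    fin_cases i <;> fin_cases j <;> simp [Matrix.mul_apply, Fin.sum_univ_two]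
    linear_combination h50)
  have hy1 : y ≠ 1 := fun e => by
    have := congrFun (congrFun (congrArg Subtype.val e) 0) 1
    simp [y] at this
  have hρz : ∀ v, ρ z v = -v := by
    set P := LinearMap.ker (ρ z - 1) with hP
    set N := LinearMap.ker (ρ z + 1) with hN
    have hzz : ∀ v, ρ z (ρ z v) = v := fun v => by
      rw [← Module.End.mul_apply, ← map_mul, hz2, map_one]; rfl
    by_cases hN4 : finrank F ↥N = 4
    · intro v
      have : v ∈ N := (Submodule.eq_top_of_finrank_eq (hN4.trans hdim.symm)).symm ▸ Submodule.mem_top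
      exact eq_neg_of_add_eq_zero_left this
    exfalso
    by_cases hP4 : finrank F ↥P = 4
    · refine hz1 (hρi (LinearMap.ext fun v => ?_))
      have : v ∈ P := (Submodule.eq_top_of_finrank_eq (hP4.trans hdim.symm)).symm ▸ Submodule.mem_top
      rw [map_one]
      exact sub_eq_zero.1 this
    have hcomm : ∀ v, ρ y (ρ z v) = ρ z (ρ y v) := fun v => by
      rw [← Module.End.mul_apply, ← map_mul, ← hzc, map_mul, Module.End.mul_apply]
    have hfixP : ∀ W : Submodule F (Fin 2 ⊕ Fin 2 → F), finrank F ↥W ≤ 3 →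
        (∀ v ∈ W, ρ y v ∈ W) → ∀ v ∈ W, ρ y v = v := by
      intro W hW hinv v hv
      have hr : ((ρ y).restrict hinv) ^ 5 = 1 := by
        refine LinearMap.ext fun u => Subtype.ext ?_
        have h := LinearMap.congr_fun ((map_pow ρ y 5).symm.trans ((congrArg ρ hy5).trans (map_one ρ))) u
        simpa [pow_succ] using h
      have := LinearMap.congr_fun (end_order_five_trivial hF hW _ hr) ⟨v, hv⟩
      exact congrArg Subtype.val this
    have hPl : finrank F ↥P ≤ 3 := by
      have := Submodule.finrank_le P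
      omega
    have hNl : finrank F ↥N ≤ 3 := by
      have := Submodule.finrank_le N
      omega
    refine hy1 (hρi (LinearMap.ext fun v => ?_))
    have hvP : v + ρ z v ∈ P := by
      simp only [hP, LinearMap.mem_ker, LinearMap.sub_apply, Module.End.one_apply, map_add, hzz]
      abel
    have hvN : v - ρ z v ∈ N := by
      simp only [hN, LinearMap.mem_ker, LinearMap.add_apply, Module.End.one_apply, map_sub, hzz]
      abel
    have h1 := hfixP P hPl (fun u hu => by
      simp only [hP, LinearMap.mem_ker, LinearMap.sub_apply, Module.End.one_apply, sub_eq_zero] at hu ⊢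
      rw [← hcomm, hu]) _ hvP
    have h2 := hfixP N hNl (fun u hu => by
      simp only [hN, LinearMap.mem_ker, LinearMap.add_apply, Module.End.one_apply,
        add_eq_zero_iff_eq_neg] at hu ⊢
      rw [← hcomm, hu, map_neg]) _ hvN
    rw [map_one, Module.End.one_apply]
    have h4 := congrArg₂ (fun p q => (2 : F) • (p + q)) h1 h2
    simp only [← map_add, ← map_smul] at h4
    have e : (2 : F) • (v + ρ z v + (v - ρ z v)) = v := by
      rw [show v + ρ z v + (v - ρ z v) = (2 : F) • v by rw [two_smul]; abel, smul_smul,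
        show (2 : F) * 2 = 1 by linear_combination h3, one_smul]
    rwa [e] at h4
  -- the unipotent element
  set N := ρ x - 1 with hNdef
  have hN3 : N * (N * N) = 0 := by
    refine LinearMap.ext fun v => ?_
    have hx3 : ρ x (ρ x (ρ x v)) = v := by
      rw [← Module.End.mul_apply, ← Module.End.mul_apply, ← map_mul, ← map_mul, mul_assoc,
        show x * (x * x) = x ^ 3 by rw [pow_succ', sq], ← hx, pow_orderOf_eq_one, map_one]
      rfl
    simp only [hNdef, Module.End.mul_apply, LinearMap.sub_apply, Module.End.one_apply, map_sub,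
      hx3, LinearMap.zero_apply]
    have : (3 : F) • (ρ x v - ρ x (ρ x v)) = 0 := by rw [h3, zero_smul]
    rw [show (3 : F) = 2 + 1 by norm_num, add_smul, two_smul, one_smul] at this
    linear_combination (norm := abel) this
  have hge : 2 ≤ finrank F ↥(LinearMap.ker N) := by
    have h1 := finrank_ker_comp_le N (N * N)
    have h2 := finrank_ker_comp_le N N
    rw [hN3, LinearMap.ker_zero, finrank_top, hdim] at h1
    omega
  have hle : finrank F ↥(LinearMap.ker N) ≤ 2 := by
    by_contra hgt
    obtain ⟨h, hh⟩ := exists_conj_prod_sq hK x hx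
    set N' := ρ (h * x * h⁻¹) - 1 with hN'
    have hinv : ∀ v, ρ h⁻¹ (ρ h v) = v ∧ ρ h (ρ h⁻¹ v) = v := fun v => by
      constructor <;> rw [← Module.End.mul_apply, ← map_mul] <;> simp
    have hle' : finrank F ↥(LinearMap.ker N) ≤ finrank F ↥(LinearMap.ker N') := by
      refine LinearMap.finrank_le_finrank_of_injective
        (f := ((ρ h).comp (LinearMap.ker N).subtype).codRestrict (LinearMap.ker N') ?_) ?_
      · intro v
        have hv : ρ x v.1 = v.1 := sub_eq_zero.1 v.2
        simp only [LinearMap.mem_ker, hN', LinearMap.sub_apply, LinearMap.comp_apply,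
          Submodule.subtype_apply, Module.End.one_apply, map_mul, Module.End.mul_apply,
          (hinv _).1, hv, sub_self]
      · intro u v huv
        have h1 : ρ h u.1 = ρ h v.1 :=
          congrArg (fun t : ↥(LinearMap.ker N') => (t : Fin 2 ⊕ Fin 2 → F)) huv
        exact Subtype.ext (by rw [← (hinv u.1).1, h1, (hinv v.1).1])
    have hbot : LinearMap.ker N ⊓ LinearMap.ker N' = ⊥ := by
      rw [eq_bot_iff]
      rintro v ⟨h1, h2⟩
      have e1 : ρ x v = v := sub_eq_zero.1 h1
      have e2 : ρ (h * x * h⁻¹) v = v := sub_eq_zero.1 h2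
      have e3 : ρ z v = v := by
        rw [show z = (x * (h * x * h⁻¹)) ^ 2 from Subtype.ext hh.symm, sq]
        rw [map_mul ρ (x * (h * x * h⁻¹)), map_mul ρ x, Module.End.mul_apply, Module.End.mul_apply, Module.End.mul_apply, e2, e1,
          e2, e1]
      rw [hρz] at e3
      rw [Submodule.mem_bot]
      have : (2 : F) • v = 0 := by rw [two_smul]; nth_rw 1 [← e3]; exact neg_add_cancel v
      exact (smul_eq_zero.1 this).resolve_left fun e => one_ne_zero (α := F) (by linear_combination h3 - e)
    have := Submodule.finrank_sup_add_finrank_inf_eq (LinearMap.ker N) (LinearMap.ker N')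
    rw [hbot, finrank_bot] at this
    have := Submodule.finrank_le (LinearMap.ker N ⊔ LinearMap.ker N')
    omega
  have hU2 : finrank F ↥(LinearMap.ker N) = 2 := le_antisymm hle hge
  refine ⟨hU2, fun v w hv hw => ?_⟩
  by_contra hne
  let B : (Fin 2 ⊕ Fin 2 → F) → (Fin 2 ⊕ Fin 2 → F) → F :=
    fun p q => dotProduct p ((Matrix.J (Fin 2) F).mulVec q)
  have hBg : ∀ p q, B (ρ x p) (ρ x q) = B p q := by
    intro p q
    have hm := SymplecticGroup.mem_iff'.1 (φ x).2
    simp only [B, hρ, Matrix.mulVec_mulVec]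
    rw [Matrix.dotProduct_mulVec, Matrix.vecMul_mulVec, ← Matrix.mul_assoc, hm,
      ← Matrix.dotProduct_mulVec]
  have hskew : ∀ p q, B p q = -B q p := by
    intro p q
    simp only [B]
    rw [Matrix.dotProduct_mulVec, ← Matrix.mulVec_transpose, Matrix.J_transpose,
      Matrix.neg_mulVec, neg_dotProduct, dotProduct_comm]
  have h2 : ∀ p, B p p = 0 := fun p => by
    linear_combination (-1 : F) * (hskew p p) + B p p * h3
  let L : (Fin 2 ⊕ Fin 2 → F) →ₗ[F] F × F :=
    { toFun := fun q => (B v q, B w q)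
      map_add' := fun p q => by simp [B, Matrix.mulVec_add]
      map_smul' := fun s p => by simp [B, Matrix.mulVec_smul] }
  have hLker : LinearMap.ker L ≠ ⊥ := by
    intro h
    have := LinearMap.finrank_le_finrank_of_injective (LinearMap.ker_eq_bot.1 h)
    rw [hdim, Module.finrank_prod, Module.finrank_self] at this
    omega
  obtain ⟨u, hu, hu0⟩ := Submodule.exists_mem_ne_zero_of_ne_bot hLker
  have hinvL : ∀ q ∈ LinearMap.ker L, N q ∈ LinearMap.ker L := by
    intro q hq
    have hq' : B v q = 0 ∧ B w q = 0 := Prod.ext_iff.1 hq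
    rw [LinearMap.mem_ker, hNdef, LinearMap.sub_apply, Module.End.one_apply, map_sub,
      LinearMap.mem_ker.1 hq, sub_zero]
    refine Prod.ext ?_ ?_
    · show B v (ρ x q) = 0
      rw [← hq'.1, ← hBg v q, show ρ x v = v from hv]
    · show B w (ρ x q) = 0
      rw [← hq'.2, ← hBg w q, show ρ x w = w from hw]
  obtain ⟨s, hs, hs0, hNs⟩ : ∃ s ∈ LinearMap.ker L, s ≠ 0 ∧ N s = 0 := by
    by_cases h1 : N u = 0
    · exact ⟨u, hu, hu0, h1⟩
    by_cases h2 : N (N u) = 0
    · exact ⟨N u, hinvL u hu, h1, h2⟩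
    exact ⟨N (N u), hinvL _ (hinvL u hu), h2, LinearMap.congr_fun hN3 u⟩
  have hvU : v ∈ LinearMap.ker N := sub_eq_zero.2 hv
  have hwU : w ∈ LinearMap.ker N := sub_eq_zero.2 hw
  have hli : LinearIndependent F ![v, w] := by
    rw [LinearIndependent.pair_iff]
    intro p q hpq
    have e1 : B v (p • v + q • w) = 0 := by rw [hpq]; simp [B]
    have e2 : B w (p • v + q • w) = 0 := by rw [hpq]; simp [B]
    simp only [B, Matrix.mulVec_add, Matrix.mulVec_smul, dotProduct_add, dotProduct_smul,
      smul_eq_mul] at e1 e2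
    change p * B v v + q * B v w = 0 at e1
    change p * B w v + q * B w w = 0 at e2
    rw [h2] at e1 e2
    rw [hskew w v] at e2
    simp only [mul_zero, zero_add, add_zero, mul_neg, neg_eq_zero, mul_eq_zero] at e1 e2
    exact ⟨e2.resolve_right hne, e1.resolve_right hne⟩
  have hspan : Submodule.span F (Set.range ![v, w]) = LinearMap.ker N := by
    refine Submodule.eq_of_le_of_finrank_eq (Submodule.span_le.2 ?_) ?_
    · rintro _ ⟨i, rfl⟩; fin_cases i <;> assumption
    · rw [finrank_span_eq_card hli, hU2]; rfl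
  have hsU : s ∈ Submodule.span F ({v, w} : Set (Fin 2 ⊕ Fin 2 → F)) := by
    have : Set.range ![v, w] = {v, w} := by simp [Matrix.range_cons, Matrix.range_empty, Set.pair_comm]
    rw [← this, hspan]; exact hNs
  obtain ⟨p, q, rfl⟩ := Submodule.mem_span_pair.1 hsU
  have hs' : B v (p • v + q • w) = 0 ∧ B w (p • v + q • w) = 0 := Prod.ext_iff.1 hs
  have e1 := hs'.1
  have e2 := hs'.2
  simp only [B, Matrix.mulVec_add, Matrix.mulVec_smul, dotProduct_add, dotProduct_smul,
    smul_eq_mul] at e1 e2
  change p * B v v + q * B v w = 0 at e1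
  change p * B w v + q * B w w = 0 at e2
  rw [h2] at e1 e2
  rw [hskew w v] at e2
  simp only [mul_zero, zero_add, add_zero, mul_neg, neg_eq_zero, mul_eq_zero] at e1 e2
  exact hs0 (by rw [e2.resolve_right hne, e1.resolve_right hne, zero_smul, zero_smul, add_zero])

end Cfsg.Agent.Inv.SL25
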