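import Cfsg.Agent.Lib.Inv.ZStar
import Mathlib.GroupTheory.SemidirectProduct
import Mathlib

set_option autoImplicit false

open Cfsg

namespace Cfsg.Agent.S1251

universe u

variable {G : Type u} [Group G] [Finite G]

theorem closed_sylow {S : Sylow 2 G} {A : Subgroup G} (hA : Cfsg.IsStronglyClosed A (S : Subgroup G))
    (Q : Sylow 2 G) (hAQ : A ≤ (Q : Subgroup G)) :
    Cfsg.IsStronglyClosed A (Q : Subgroup G) := by
  haveI : Fact (Nat.Prime 2) := ⟨Nat.prime_two⟩
  obtain ⟨g, hg⟩ := MulAction.exists_smul_eq G Q S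
  have hmem : ∀ x ∈ (Q : Subgroup G), g * x * g⁻¹ ∈ (S : Subgroup G) := fun x hx => by
    rw [← hg]; exact ⟨x, hx, rfl⟩
  have hle : A.map (MulAut.conj g).toMonoidHom ≤ A := by
    rintro _ ⟨a, ha, rfl⟩
    exact hA.2 a ha g (hmem a (hAQ ha))
  have heq : A.map (MulAut.conj g).toMonoidHom = A :=
    Subgroup.eq_of_le_of_card_ge hle (by rw [Subgroup.card_map_of_injective (MulAut.conj g).injective])
  refine ⟨hAQ, fun x hx k hk => ?_⟩
  have h := hA.2 x hx (g * k) (by
    simpa [mul_assoc] using hmem _ hk)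
  rw [← heq] at h
  obtain ⟨y, hy, hyx⟩ := h
  have h2 : (MulAut.conj g).toMonoidHom y = (MulAut.conj g).toMonoidHom (k * x * k⁻¹) := by
    rw [hyx]; simp [mul_assoc]
  exact (MulAut.conj g).injective h2 ▸ hy

/-- Elements of `A` congruent modulo `H` that generate a `2`-group are equal. -/
theorem eq_one_of_two_group {S : Sylow 2 G} {A H : Subgroup G}
    (hA : Cfsg.IsStronglyClosed A (S : Subgroup G))
    (hAH : A ≤ Subgroup.normalizer (H : Set G)) (hdisj : A ⊓ H = ⊥) {a h c : G} (ha : a ∈ A)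
    (hh : h ∈ H) (hc : c = h * a * h⁻¹ * a⁻¹) (hcomm : Commute c a) (hc2 : c * c = 1) : c = 1 := by
  haveI : Fact (Nat.Prime 2) := ⟨Nat.prime_two⟩
  set N := Subgroup.normalizer (H : Set G) with hN
  have hcH : c ∈ H := by
    rw [hc, mul_assoc, mul_assoc]
    refine mul_mem hh ?_
    rw [← mul_assoc]
    exact (Subgroup.mem_normalizer_iff.1 (hAH ha) _).1 (inv_mem hh)
  have hA2 : IsPGroup 2 A := S.isPGroup'.to_le hA.1
  have hz : IsPGroup 2 (Subgroup.zpowers c) := by
    rintro ⟨y, hy⟩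
    refine ⟨1, Subtype.ext ?_⟩
    obtain ⟨n, rfl⟩ := Subgroup.mem_zpowers_iff.1 hy
    simp [pow_two, ← (Commute.refl c).mul_zpow, hc2]
  have hza : IsPGroup 2 (Subgroup.zpowers a) :=
    hA2.to_le (Subgroup.zpowers_le.2 ha)
  have hsup : IsPGroup 2 ↥(Subgroup.zpowers a ⊔ Subgroup.zpowers c) := by
    refine hza.to_sup_of_normal_left' hz (le_trans ?_ (Subgroup.centralizer_le_normalizer _))
    rw [Subgroup.zpowers_le, Subgroup.mem_centralizer_iff]
    intro x hx
    obtain ⟨n, rfl⟩ := Subgroup.mem_zpowers_iff.1 hx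
    exact (hcomm.symm.zpow_left n).eq
  have hle : Subgroup.zpowers a ⊔ Subgroup.zpowers c ≤ N :=
    sup_le (Subgroup.zpowers_le.2 (hAH ha)) (Subgroup.zpowers_le.2 (Subgroup.le_normalizer hcH))
  obtain ⟨R, hR⟩ := (hsup.comap_of_injective N.subtype N.subtype_injective).exists_le_sylow
  obtain ⟨R0, hR0⟩ := (hA2.comap_of_injective N.subtype N.subtype_injective).exists_le_sylow
  obtain ⟨m, hm⟩ := MulAction.exists_smul_eq N R R0
  obtain ⟨Q, hQ⟩ := (R0.isPGroup'.map N.subtype).exists_le_sylow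
  have hAQ : A ≤ (Q : Subgroup G) := fun x hx =>
    hQ ⟨⟨x, hAH hx⟩, hR0 hx, rfl⟩
  have hcl := closed_sylow hA Q hAQ
  have hin : ∀ y ∈ Subgroup.zpowers a ⊔ Subgroup.zpowers c,
      (m : G) * y * (m : G)⁻¹ ∈ (Q : Subgroup G) := fun y hy => by
    refine hQ ⟨m * ⟨y, hle hy⟩ * m⁻¹, ?_, by simp⟩
    rw [← hm]
    exact ⟨⟨y, hle hy⟩, hR hy, rfl⟩
  have h1 : (m : G) * a * (m : G)⁻¹ ∈ A :=
    hcl.2 a ha m (hin a (Subgroup.mem_sup_left (Subgroup.mem_zpowers a)))
  have h2 : (m : G) * h * a * ((m : G) * h)⁻¹ ∈ A := by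
    refine hcl.2 a ha _ ?_
    have h3 : c * a = h * a * h⁻¹ := by rw [hc, inv_mul_cancel_right]
    have := hin (c * a) (mul_mem (Subgroup.mem_sup_right (Subgroup.mem_zpowers c))
      (Subgroup.mem_sup_left (Subgroup.mem_zpowers a)))
    rw [h3] at this
    simpa [mul_assoc] using this
  have h4 : (m : G) * c * (m : G)⁻¹ ∈ A ⊓ H := by
    refine ⟨?_, (Subgroup.mem_normalizer_iff.1 m.2 c).1 hcH⟩
    have := mul_mem h2 (inv_mem h1)
    have e : (m : G) * h * a * ((m : G) * h)⁻¹ * ((m : G) * a * (m : G)⁻¹)⁻¹ =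
        (m : G) * c * (m : G)⁻¹ := by rw [hc]; group
    rw [e] at this
    exact this
  rw [hdisj, Subgroup.mem_bot] at h4
  exact (MulAut.conj (m : G)).injective (by simpa using h4)

theorem centralize_of_sq {S : Sylow 2 G} {A H : Subgroup G}
    (hA : Cfsg.IsStronglyClosed A (S : Subgroup G)) (hO : Cfsg.oddCore ↥H = ⊥)
    (hAH : A ≤ Subgroup.normalizer (H : Set G)) (hdisj : A ⊓ H = ⊥) {a : G} (ha : a ∈ A)
    (hsq : ∀ h ∈ H, a * a * h = h * (a * a)) : ∀ h ∈ H, a * h = h * a := by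
  have hn : ∀ x ∈ H, a * x * a⁻¹ ∈ H := fun x hx => (Subgroup.mem_normalizer_iff.1 (hAH ha) x).1 hx
  have hsq' : ∀ h ∈ H, a * (a * h * a⁻¹) * a⁻¹ = h := fun h hh => by
    have h3 := congrArg (fun x => x * (a * a)⁻¹) (hsq h hh)
    simpa [mul_assoc] using h3
  let σ : MulAut H :=
    { toFun := fun x => ⟨a * (x : G) * a⁻¹, hn x x.2⟩
      invFun := fun x => ⟨a * (x : G) * a⁻¹, hn x x.2⟩
      left_inv := fun x => Subtype.ext (hsq' x x.2)
      right_inv := fun x => Subtype.ext (hsq' x x.2)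
      map_mul' := fun x y => Subtype.ext (by simp [mul_assoc]) }
  have hσval : ∀ x : H, ((σ x : H) : G) = a * (x : G) * a⁻¹ := fun x => rfl
  by_cases hσ1 : σ = 1
  · intro h hh
    have h3 := congrArg (fun x : H => (x : G)) (DFunLike.congr_fun hσ1 ⟨h, hh⟩)
    rw [hσval] at h3
    exact mul_inv_eq_iff_eq_mul.1 h3
  have hσ2 : σ * σ = 1 := MulEquiv.ext fun x => Subtype.ext (hsq' x x.2)
  have hσo : orderOf σ = 2 := orderOf_eq_prime (by rw [pow_two, hσ2]) hσ1
  let φ : Subgroup.zpowers σ →* MulAut H := (Subgroup.zpowers σ).subtype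
  let t : Subgroup.zpowers σ := ⟨σ, Subgroup.mem_zpowers σ⟩
  haveI : Finite (Subgroup.zpowers σ) :=
    Nat.finite_of_card_ne_zero (by rw [Nat.card_zpowers, hσo]; norm_num)
  haveI : Finite (H ⋊[φ] Subgroup.zpowers σ) :=
    Finite.of_equiv _ SemidirectProduct.equivProd.symm
  let z : H ⋊[φ] Subgroup.zpowers σ := SemidirectProduct.inr t
  have hz2 : z * z = 1 := by
    rw [← map_mul, show t * t = 1 from Subtype.ext hσ2, map_one]
  have hzo : orderOf z = 2 :=
    (orderOf_injective _ SemidirectProduct.inr_injective t).trans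
      ((Subgroup.orderOf_coe t).symm.trans hσo)
  have hpush : ∀ y : H, z * SemidirectProduct.inl y = SemidirectProduct.inl (σ y) * z := by
    intro y
    have h3 := SemidirectProduct.inl_aut (φ := φ) t y
    rw [show φ t y = σ y from rfl] at h3
    rw [h3, map_inv, inv_mul_cancel_right]
  have hconj : ∀ g : H ⋊[φ] Subgroup.zpowers σ,
      g * z * g⁻¹ = SemidirectProduct.inl (g.left * (σ g.left)⁻¹) * z := by
    intro g
    have hg : g = SemidirectProduct.inl g.left * SemidirectProduct.inr g.right :=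
      (SemidirectProduct.inl_left_mul_inr_right g).symm
    have hcc : SemidirectProduct.inr (φ := φ) g.right * z =
        z * SemidirectProduct.inr g.right := by
      have : g.right * t = t * g.right := by
        obtain ⟨n, hn⟩ := Subgroup.mem_zpowers_iff.1 g.right.2
        refine Subtype.ext ?_
        show (g.right : MulAut H) * σ = σ * (g.right : MulAut H)
        rw [← hn]
        exact ((Commute.refl σ).zpow_left n).eq
      rw [← map_mul, ← map_mul, this]
    conv_lhs => rw [hg]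
    calc SemidirectProduct.inl g.left * SemidirectProduct.inr g.right * z *
          (SemidirectProduct.inl g.left * SemidirectProduct.inr g.right)⁻¹
        = SemidirectProduct.inl g.left * (SemidirectProduct.inr g.right * z) *
          (SemidirectProduct.inr g.right)⁻¹ * (SemidirectProduct.inl g.left)⁻¹ := by group
      _ = SemidirectProduct.inl g.left * (z * SemidirectProduct.inl g.left⁻¹) := by
          rw [hcc, map_inv]; group
      _ = _ := by rw [hpush, map_mul, map_inv σ g.left, ← mul_assoc]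
  have hiso : Cfsg.IsIsolatedInvolution z := by
    refine ⟨hzo, fun g hg => ?_⟩
    rw [hconj g] at hg ⊢
    set c : H := g.left * (σ g.left)⁻¹ with hc
    have hfix : σ c = c := by
      have h3 := hg.eq
      rw [← mul_assoc, hpush c] at h3
      exact SemidirectProduct.inl_injective (mul_right_cancel (mul_right_cancel h3))
    have hinv : σ c = c⁻¹ := by
      rw [hc, map_mul, map_inv σ, show σ (σ g.left) = g.left from DFunLike.congr_fun hσ2 g.left,
        mul_inv_rev, inv_inv]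
    have hcc2 : c * c = 1 := by
      have h3 := hfix.symm.trans hinv
      exact mul_eq_one_iff_eq_inv.2 h3
    have hcG : (c : G) = (g.left : G) * a * (g.left : G)⁻¹ * a⁻¹ := by
      simp [hc, hσval, mul_assoc]
    have hcomm : Commute (c : G) a := by
      have h3 := congrArg (fun x : H => (x : G)) hfix
      rw [hσval] at h3
      exact (mul_inv_eq_iff_eq_mul.1 h3).symm
    have := eq_one_of_two_group hA hAH hdisj ha g.left.2 hcG hcomm
      (by simpa using congrArg (fun x : H => (x : G)) hcc2)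
    have hc1 : c = 1 := Subtype.ext this
    rw [hc1, map_one, one_mul]
  intro h hh
  have h3 := Cfsg.Agent.Inv.glauberman hiso (SemidirectProduct.inl ⟨h, hh⟩)
  have h4 : z * SemidirectProduct.inl ⟨h, hh⟩ * z⁻¹ * (SemidirectProduct.inl ⟨h, hh⟩)⁻¹ =
      SemidirectProduct.inl (σ ⟨h, hh⟩ * (⟨h, hh⟩ : H)⁻¹) := by
    rw [hpush, mul_inv_cancel_right, map_mul, map_inv]
  rw [h4] at h3
  have h5 : σ ⟨h, hh⟩ * (⟨h, hh⟩ : H)⁻¹ ∈ Cfsg.oddCore ↥H := by
    refine Cfsg.Agent.Solv.le_pPrimeCore ?_ (show σ ⟨h, hh⟩ * (⟨h, hh⟩ : H)⁻¹ ∈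
      (Cfsg.oddCore (H ⋊[φ] Subgroup.zpowers σ)).comap SemidirectProduct.inl from h3)
    exact (Cfsg.Agent.Solv.card_pPrimeCore_coprime 2 _).coprime_dvd_left
      (Subgroup.card_comap_dvd_of_injective _ _ SemidirectProduct.inl_injective)
  rw [hO, Subgroup.mem_bot, mul_inv_eq_one] at h5
  exact mul_inv_eq_iff_eq_mul.1 (congrArg (fun x : H => (x : G)) h5)

theorem centralize {S : Sylow 2 G} {A H : Subgroup G}
    (hA : Cfsg.IsStronglyClosed A (S : Subgroup G)) (hO : Cfsg.oddCore ↥H = ⊥)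
    (hAH : A ≤ Subgroup.normalizer (H : Set G)) (hdisj : A ⊓ H = ⊥) :
    A ≤ Subgroup.centralizer (H : Set G) := by
  haveI : Fact (Nat.Prime 2) := ⟨Nat.prime_two⟩
  have key : ∀ n : ℕ, ∀ a ∈ A, a ^ 2 ^ n = 1 → ∀ h ∈ H, a * h = h * a := by
    intro n
    induction n with
    | zero => intro a _ h1 h _; rw [pow_zero, pow_one] at h1; simp [h1]
    | succ n ih =>
      intro a ha h1
      exact centralize_of_sq hA hO hAH hdisj ha
        (ih (a * a) (mul_mem ha ha) (by rw [← pow_two, ← pow_mul, ← pow_succ']; exact h1))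
  intro a ha
  obtain ⟨k, hk⟩ := (S.isPGroup'.to_le hA.1) ⟨a, ha⟩
  rw [Subgroup.mem_centralizer_iff]
  intro h hh
  exact (key k a ha (by simpa using congrArg (fun x : A => (x : G)) hk) h hh).symm

end Cfsg.Agent.S1251
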