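import Cfsg.Agent.Lib.Inv.ZStarTwo
import Cfsg.Agent.Lib.Fusion.GroupSystem
import Cfsg.Agent.Lib.Solv.NormalPComplement
import Cfsg.Agent.Lib.Solv.Coprime
import Cfsg.Agent.Lib.Local.PComponent

/-!
# Centralizers of Sylow 2-subgroups in automorphism groups (after Glauberman)

If `L` is normal in `G` with trivial core and trivial centralizer, then the centralizer in `G` of a
Sylow 2-subgroup of `L` has a normal 2-complement.
-/

set_option autoImplicit false
set_option linter.style.haveILetI false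

namespace Cfsg.Agent.Inv

open Subgroup
open Cfsg Cfsg.FusionSystem Cfsg.Agent.Fusion
open scoped commutatorElement

universe u

theorem normalizer_map_char {G : Type u} [Group G] {C : Subgroup G} (K : Subgroup C)
    [hK : K.Characteristic] {b : G} (hb : b ∈ normalizer (C : Set G)) :
    b ∈ normalizer (K.map C.subtype : Set G) := by
  have key : ∀ c : G, ∀ hc : c ∈ normalizer (C : Set G), ∀ y ∈ K.map C.subtype,
      c * y * c⁻¹ ∈ K.map C.subtype := by
    rintro c hc _ ⟨w, hw, rfl⟩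
    have h := characteristic_iff_le_comap.1 hK (C.normalizerMonoidHom ⟨c, hc⟩) hw
    exact ⟨_, h, rfl⟩
  rw [mem_normalizer_iff]
  intro y
  exact ⟨key b hb y, fun h => by simpa [mul_assoc] using key _ (inv_mem hb) _ h⟩

section Isolated

variable {G : Type u} [Group G] [Finite G] {p : ℕ} [Fact p.Prime]

theorem centralizer_normalizer_frattini (S : Sylow p G) {U : Subgroup G}
    (hmax : IsMaxP p (normalizerIn (S : Subgroup G) U) (normalizer (U : Set G))) {m : G}
    (hm : m ∈ normalizer (U : Set G)) :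
    ∃ c ∈ centralizer (U : Set G), ∀ x ∈ U ⊔ centralizerIn (S : Subgroup G) U,
      c * m * x * (c * m)⁻¹ ∈ U ⊔ centralizerIn (S : Subgroup G) U := by
  have hC := IsMaxP.centralizer S hmax
  set R := centralizerIn (S : Subgroup G) U with hR
  have hmU : U.map (MulAut.conj m).toMonoidHom = U := mem_normalizer_iff_map_conj_eq.1 hm
  have hle : R.map (MulAut.conj m).toMonoidHom ≤ centralizer (U : Set G) := by
    refine (map_mono inf_le_right).trans ((map_conj_centralizer_le m U).trans (le_of_eq ?_))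
    rw [hmU]
  obtain ⟨c, hc, hcle⟩ := hC.exists_conj_le hle (isPGroup_map_conj hC.2.1 m)
  refine ⟨c, hc, ?_⟩
  have hcU : U.map (MulAut.conj c).toMonoidHom = U :=
    mem_normalizer_iff_map_conj_eq.1 (centralizer_le_normalizer _ hc)
  have key : (U ⊔ R).map (MulAut.conj (c * m)).toMonoidHom ≤ U ⊔ R := by
    rw [← map_conj_mul, Subgroup.map_sup, Subgroup.map_sup, hmU, hcU]
    exact sup_le_sup le_rfl hcle
  intro x hx
  exact key ⟨x, hx, rfl⟩

/-- Fusion of a central element of a Sylow subgroup is controlled by the normalisers of centric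
fully normalised subgroups containing it. -/
theorem isolated_of_centric (S : Sylow p G) {q : G} (hq : q ∈ (S : Subgroup G))
    (hqS : ∀ s ∈ (S : Subgroup G), s * q = q * s)
    (hcen : ∀ U : Subgroup G, U ≤ S → q ∈ U → centralizerIn (S : Subgroup G) U ≤ U →
      IsMaxP p (normalizerIn (S : Subgroup G) U) (normalizer (U : Set G)) →
      ∀ n ∈ normalizer (U : Set G), n * q * n⁻¹ = q)
    (g : G) (hg : g * q * g⁻¹ ∈ (S : Subgroup G)) : g * q * g⁻¹ = q := by
  suffices ∀ (k : ℕ) (D : Subgroup G), Nat.card (S : Subgroup G) ≤ k + Nat.card D →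
      D ≤ (S : Subgroup G) → q ∈ D → ∀ g : G,
      D.map (MulAut.conj g).toMonoidHom ≤ (S : Subgroup G) → g * q * g⁻¹ = q by
    refine this (Nat.card (S : Subgroup G)) (zpowers q) (Nat.le_add_right _ _)
      (zpowers_le.2 hq) (mem_zpowers q) g ?_
    rw [MonoidHom.map_zpowers, zpowers_le]
    exact hg
  intro k
  induction k using Nat.strong_induction_on with
  | _ k ih =>
  intro D hk hDS hqD g hgD
  by_cases hD : D = (S : Subgroup G)
  · subst hD
    have hgS : g ∈ normalizer ((S : Subgroup G) : Set G) :=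
      mem_normalizer_iff_map_conj_eq.2 (eq_of_le_of_card_ge hgD (card_map_conj g _).ge)
    exact hcen _ le_rfl hq inf_le_left
      ⟨inf_le_right, isPGroup_inf_left S _, fun W _ hW => by
        obtain ⟨T, hT⟩ := hW.exists_le_sylow
        refine (Nat.card_le_card_of_injective (inclusion hT) (inclusion_injective _)).trans ?_
        rw [Nat.card_congr (Sylow.equiv T S).toEquiv]
        exact Nat.card_le_card_of_injective (inclusion (le_inf le_rfl le_normalizer))
          (inclusion_injective _)⟩ g hgS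
  -- subgroups bigger than `D`
  have big : ∀ V : Subgroup G, Nat.card D < Nat.card V → V ≤ (S : Subgroup G) → q ∈ V → ∀ h : G,
      V.map (MulAut.conj h).toMonoidHom ≤ (S : Subgroup G) → h * q * h⁻¹ = q := by
    intro V hV hVS hqV h hh
    exact ih (Nat.card (S : Subgroup G) - Nat.card V)
      (by have := Nat.card_le_card_of_injective (inclusion hVS) (inclusion_injective _); omega)
      V (by omega) hVS hqV h hh
  obtain ⟨c₀, hU, hmax⟩ := exists_conj_isMaxP_normalizer S hDS
  set U := D.map (MulAut.conj c₀).toMonoidHom with hUdef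
  have hcardU : Nat.card U = Nat.card D := card_map_conj _ _
  -- lift a conjugation onto `U` to the normaliser of the source
  have lift : ∀ (E : Subgroup G) (h : G), E ≤ (S : Subgroup G) →
      E.map (MulAut.conj h).toMonoidHom = U →
      ∃ c : G, E.map (MulAut.conj c).toMonoidHom = U ∧ c * q * c⁻¹ = q := by
    intro E h hES hEU
    have hcardE : Nat.card E = Nat.card D := by rw [← hcardU, ← hEU, card_map_conj]
    have hElt : E < (S : Subgroup G) := by
      refine lt_of_le_of_ne hES fun e => hD (eq_of_le_of_card_ge hDS ?_)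
      rw [← hcardE, e]
    set E' := (S : Subgroup G) ⊓ normalizer (E : Set G) with hE'
    have hlt : E < E' := by
      haveI := S.isPGroup'.isNilpotent
      have h1 : E.subgroupOf (S : Subgroup G) < ⊤ := lt_top_iff_ne_top.2 fun e =>
        hElt.not_ge (subgroupOf_eq_top.1 e)
      obtain ⟨w, hw, hwn⟩ := SetLike.exists_of_lt (Group.normalizerCondition_of_isNilpotent _ h1)
      refine lt_of_le_of_ne (le_inf hElt.le le_normalizer) fun e => hwn ?_
      show (w : G) ∈ E
      rw [e]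
      refine ⟨w.2, ?_⟩
      rw [← subgroupOf_normalizer_eq hElt.le] at hw
      exact hw
    have hqE' : q ∈ E' := ⟨hq, mem_normalizer_iff.2 fun e => by
      constructor
      · intro he
        rw [← hqS e (hES he), mul_inv_cancel_right]
        exact he
      · intro he
        have h2 : q * (q * e * q⁻¹) = q * e * q⁻¹ * q := (hqS _ (hES he)).symm
        have h3 : q * e * q⁻¹ = e := by
          rw [inv_mul_cancel_right, mul_assoc] at h2
          have := mul_left_cancel h2
          rwa [← mul_assoc] at this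
        rwa [h3] at he⟩
    have hle : E'.map (MulAut.conj h).toMonoidHom ≤ normalizer (U : Set G) := by
      refine (map_mono inf_le_right).trans ?_
      rw [← hEU]
      exact map_conj_normalizer_le h E
    obtain ⟨n, hn, hnle⟩ := hmax.exists_conj_le hle
      (isPGroup_map_conj (isPGroup_inf_left S _) h)
    refine ⟨n * h, ?_, ?_⟩
    · rw [← map_conj_mul, hEU]
      exact mem_normalizer_iff_map_conj_eq.1 hn
    · refine big E' ?_ inf_le_left hqE' (n * h) ?_
      · rw [← hcardE]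
        by_contra hcon
        exact hlt.ne (eq_of_le_of_card_ge hlt.le (not_lt.1 hcon))
      · rw [← map_conj_mul]
        exact hnle.trans inf_le_left
  obtain ⟨c, hcU, hcq⟩ := lift D c₀ hDS rfl
  obtain ⟨d, hdU, hdq⟩ := lift (D.map (MulAut.conj g).toMonoidHom) (c₀ * g⁻¹) hgD (by
    rw [map_conj_mul, inv_mul_cancel_right])
  have hqU : q ∈ U := by
    rw [← hcU]
    exact ⟨q, hqD, hcq⟩
  set m := d * g * c⁻¹ with hm
  have hmU : m ∈ normalizer (U : Set G) := by
    refine mem_normalizer_iff_map_conj_eq.2 ?_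
    calc U.map (MulAut.conj m).toMonoidHom
        = (D.map (MulAut.conj c).toMonoidHom).map (MulAut.conj m).toMonoidHom := by rw [hcU]
      _ = D.map (MulAut.conj (d * g)).toMonoidHom := by rw [map_conj_mul, hm, inv_mul_cancel_right]
      _ = U := by rw [← map_conj_mul, hdU]
  have hfix : m * q * m⁻¹ = q := by
    by_cases hcent : centralizerIn (S : Subgroup G) U ≤ U
    · exact hcen U hU hqU hcent hmax m hmU
    · obtain ⟨z, hz, hconj⟩ := centralizer_normalizer_frattini S hmax hmU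
      have hlt : U < U ⊔ centralizerIn (S : Subgroup G) U := by simpa using hcent
      have h1 := big (U ⊔ centralizerIn (S : Subgroup G) U) (by
          rw [← hcardU]
          by_contra hcon
          exact hlt.ne (eq_of_le_of_card_ge hlt.le (not_lt.1 hcon)))
        (sup_le hU inf_le_left) (mem_sup_left hqU) (z * m) (by
          rintro _ ⟨x, hx, rfl⟩
          exact sup_le hU inf_le_left (hconj x hx))
      have h2 : z * q = q * z := (mem_centralizer_iff.1 hz q hqU).symm
      calc m * q * m⁻¹ = z⁻¹ * (z * m * q * (z * m)⁻¹) * z := by group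
        _ = z⁻¹ * (q * z) := by rw [h1]; group
        _ = q := by rw [← h2]; group
  have hkey : d * (g * q * g⁻¹) * d⁻¹ = q := by
    calc d * (g * q * g⁻¹) * d⁻¹ = m * (c * q * c⁻¹) * m⁻¹ := by rw [hm]; group
      _ = q := by rw [hcq, hfix]
  calc g * q * g⁻¹ = d⁻¹ * (d * (g * q * g⁻¹) * d⁻¹) * d := by group
    _ = d⁻¹ * (d * q * d⁻¹) * d := by rw [hkey, hdq]
    _ = q := by group

end Isolated

section Main

variable {G : Type u} [Group G] [Finite G]

/-- Commutators of elements centralising a Sylow 2-subgroup of a normal subgroup with trivial core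
centralise it, if they are 2-elements. -/
theorem commutator_centralizes (L : Subgroup G) [L.Normal] (hL : oddCore L = ⊥) (S : Sylow 2 L)
    {a x : G} (ha : a ∈ centralizer (((S : Subgroup L).map L.subtype : Subgroup G) : Set G))
    (hx : x ∈ centralizer (((S : Subgroup L).map L.subtype : Subgroup G) : Set G))
    (hq : IsPGroup 2 (zpowers ⁅x, a⁆)) : ⁅x, a⁆ ∈ centralizer (L : Set G) := by
  haveI : Fact (Nat.Prime 2) := ⟨Nat.prime_two⟩
  set S' := (S : Subgroup L).map L.subtype with hS'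
  set q := ⁅x, a⁆ with hqdef
  have hS'L : S' ≤ L := map_subtype_le _
  have hS'p : IsPGroup 2 S' := S.isPGroup'.map _
  have hS'max : ∀ R : Subgroup G, R ≤ L → S' ≤ R → IsPGroup 2 R → R = S' := by
    intro R hR hle hRp
    have h1 : R.subgroupOf L = (S : Subgroup L) :=
      S.is_maximal' (hRp.comap_of_injective L.subtype L.subtype_injective) fun s hs =>
        hle ⟨s, hs, rfl⟩
    rw [← map_subgroupOf_eq_of_le hR, h1]
  have hqS' : q ∈ centralizer (S' : Set G) :=
    mul_mem (mul_mem (mul_mem hx ha) (inv_mem hx)) (inv_mem ha)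
  have hqN : ∀ l ∈ L, ∀ i : ℤ, q ^ i * l * (q ^ i)⁻¹ ∈ L := fun l hl i =>
    (inferInstance : L.Normal).conj_mem l hl _
  -- the group `L⟨q⟩`
  set H := L ⊔ zpowers q with hH
  have hqH : q ∈ H := mem_sup_right (mem_zpowers q)
  have hP0 : IsPGroup 2 (S' ⊔ zpowers q : Subgroup G) :=
    hS'p.to_sup_of_normal_left' hq (by
      rw [zpowers_le]
      exact centralizer_le_normalizer _ hqS')
  obtain ⟨P, hP⟩ := (hP0.comap_of_injective H.subtype H.subtype_injective).exists_le_sylow
  set P' := (P : Subgroup H).map H.subtype with hP'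
  have hP'p : IsPGroup 2 P' := P.isPGroup'.map _
  have hle : S' ⊔ zpowers q ≤ P' := by
    rw [← map_subgroupOf_eq_of_le (sup_le_sup hS'L le_rfl : S' ⊔ zpowers q ≤ H)]
    exact map_mono hP
  have hqP : (⟨q, hqH⟩ : H) ∈ (P : Subgroup H) := hP (show q ∈ S' ⊔ zpowers q from
    mem_sup_right (mem_zpowers q))
  have hPL : P' ⊓ L = S' :=
    hS'max _ inf_le_right (le_inf (le_sup_left.trans hle) hS'L) (hP'p.to_le inf_le_left)
  have hdec : ∀ y ∈ H, ∃ l ∈ L, ∃ i : ℤ, y = l * q ^ i := by
    intro y hy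
    obtain ⟨l, hl, z, hz, rfl⟩ := mem_sup_of_normal_left.1 hy
    obtain ⟨i, rfl⟩ := mem_zpowers_iff.1 hz
    exact ⟨l, hl, i, rfl⟩
  have hdecP : ∀ y ∈ P', ∃ s ∈ S', ∃ i : ℤ, y = s * q ^ i := by
    intro y hy
    obtain ⟨l, hl, i, rfl⟩ := hdec y (map_subtype_le _ hy)
    refine ⟨l, hPL ▸ ⟨?_, hl⟩, i, rfl⟩
    have := mul_mem hy (inv_mem (zpow_mem (hle (mem_sup_right (mem_zpowers q))) i))
    rwa [mul_inv_cancel_right] at this
  have hqP' : ∀ y ∈ P', y * q = q * y := by
    intro y hy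
    obtain ⟨s, hs, i, rfl⟩ := hdecP y hy
    have h1 : Commute s q := mem_centralizer_iff.1 hqS' s hs
    exact (h1.mul_left ((Commute.refl q).zpow_left i)).eq
  suffices hiso : ∀ g : H, g * ⟨q, hqH⟩ * g⁻¹ ∈ (P : Subgroup H) →
      g * ⟨q, hqH⟩ * g⁻¹ = ⟨q, hqH⟩ by
    rw [mem_centralizer_iff]
    intro g hg
    have h1 := isolatedElt P hqP hiso ⟨g, mem_sup_left hg⟩
    have hbot : ((oddCore H).map H.subtype ⊓ L : Subgroup G) = ⊥ := by
      haveI : (oddCore H).Normal := inferInstance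
      have hn : (((oddCore H).map H.subtype).subgroupOf L).Normal := by
        refine normal_subgroupOf_of_le_normalizer ?_
        rintro l hl
        rw [mem_normalizer_iff]
        intro y
        constructor
        · rintro ⟨w, hw, rfl⟩
          exact ⟨⟨l, mem_sup_left hl⟩ * w * ⟨l, mem_sup_left hl⟩⁻¹,
            Normal.conj_mem inferInstance _ hw _, rfl⟩
        · rintro ⟨w, hw, e⟩
          refine ⟨⟨l, mem_sup_left hl⟩⁻¹ * w * ⟨l, mem_sup_left hl⟩, ?_, ?_⟩
          · simpa using Normal.conj_mem inferInstance _ hw (⟨l, mem_sup_left hl⟩⁻¹ : H)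
          · have e' : (w : G) = l * y * l⁻¹ := e
            show l⁻¹ * (w : G) * l = y
            rw [e']; group
      haveI := hn
      have hodd : (Nat.card (((oddCore H).map H.subtype).subgroupOf L)).Coprime 2 := by
        refine Nat.Coprime.coprime_dvd_left
          ((card_comap_dvd_of_injective _ _ L.subtype_injective).trans (card_map_dvd _ _)) ?_
        exact Solv.card_pPrimeCore_coprime 2 H
      have h2 : ((oddCore H).map H.subtype).subgroupOf L = ⊥ :=
        le_bot_iff.1 ((Solv.le_pPrimeCore hodd).trans hL.le)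
      rw [← map_subgroupOf_eq_of_le (inf_le_right : (oddCore H).map H.subtype ⊓ L ≤ L),
        inf_subgroupOf_right, h2, Subgroup.map_bot]
    have h3 : g * q * g⁻¹ * q⁻¹ ∈ ((oddCore H).map H.subtype ⊓ L : Subgroup G) := by
      refine ⟨⟨_, h1, rfl⟩, ?_⟩
      have : q * g⁻¹ * q⁻¹ ∈ L := (inferInstance : L.Normal).conj_mem _ (inv_mem hg) q
      rw [show g * q * g⁻¹ * q⁻¹ = g * (q * g⁻¹ * q⁻¹) by group]
      exact mul_mem hg this
    rw [hbot, mem_bot, mul_inv_eq_one, mul_inv_eq_iff_eq_mul] at h3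
    exact h3
  intro g hg
  refine isolated_of_centric P hqP ?_ ?_ g hg
  · intro s hs
    exact Subtype.ext (hqP' s ⟨s, hs, rfl⟩)
  intro U hUP hqU hcen hmax n hn
  -- pass to the ambient group
  set U' := U.map H.subtype with hU'
  set U₀ := U' ⊓ L with hU₀
  have hU'P : U' ≤ P' := map_mono hUP
  have hqU' : q ∈ U' := ⟨_, hqU, rfl⟩
  have hU₀S : U₀ ≤ S' := hPL ▸ inf_le_inf_right L hU'P
  have hdecU : ∀ y ∈ U', ∃ s ∈ U₀, ∃ i : ℤ, y = s * q ^ i := by
    intro y hy
    obtain ⟨s, hs, i, rfl⟩ := hdecP y (hU'P hy)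
    refine ⟨s, ⟨?_, hS'L hs⟩, i, rfl⟩
    have := mul_mem hy (inv_mem (zpow_mem hqU' i))
    rwa [mul_inv_cancel_right] at this
  have hqU₀ : q ∈ centralizer (U₀ : Set G) := centralizer_le hU₀S hqS'
  have hU'c : ∀ c ∈ centralizer (U₀ : Set G), c * q = q * c → c ∈ centralizer (U' : Set G) := by
    intro c hc hcq
    rw [mem_centralizer_iff]
    intro y hy
    obtain ⟨s, hs, i, rfl⟩ := hdecU y hy
    have h1 : Commute c s := (mem_centralizer_iff.1 hc s hs).symm
    exact (h1.mul_right ((show Commute c q from hcq).zpow_right i)).symm.eq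
  -- normalising `U` in `H` and in `G`
  have hnorm : ∀ (r : G) (hr : r ∈ H), r ∈ normalizer (U' : Set G) →
      (⟨r, hr⟩ : H) ∈ normalizer (U : Set H) := by
    intro r hr h
    rw [mem_normalizer_iff]
    intro w
    have h1 := mem_normalizer_iff.1 h (w : G)
    constructor
    · intro hw
      obtain ⟨v, hv, e⟩ := h1.1 ⟨w, hw, rfl⟩
      rwa [show v = ⟨r, hr⟩ * w * ⟨r, hr⟩⁻¹ from Subtype.ext e] at hv
    · intro hw
      obtain ⟨v, hv, e⟩ := h1.2 ⟨_, hw, rfl⟩
      rwa [show v = w from Subtype.ext e] at hv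
  set C := L ⊓ centralizer (U₀ : Set G) with hC
  set Z := U₀ ⊓ centralizer (U₀ : Set G) with hZ
  have hZC : Z ≤ C := le_inf (inf_le_left.trans inf_le_right) inf_le_right
  have hCS : S' ⊓ centralizer (U₀ : Set G) ≤ Z := by
    rintro s ⟨hs, hsc⟩
    refine ⟨⟨?_, hS'L hs⟩, hsc⟩
    have hsH : s ∈ H := mem_sup_left (hS'L hs)
    have h1 : (⟨s, hsH⟩ : H) ∈ centralizerIn (P : Subgroup H) U := by
      refine ⟨hP (show s ∈ S' ⊔ zpowers q from mem_sup_left hs), mem_centralizer_iff.2 fun u hu => ?_⟩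
      exact Subtype.ext (mem_centralizer_iff.1
        (hU'c s hsc (mem_centralizer_iff.1 hqS' s hs)) u ⟨u, hu, rfl⟩)
    exact ⟨_, hcen h1, rfl⟩
  have hZp : IsPGroup 2 Z := hS'p.to_le (inf_le_left.trans hU₀S)
  have hZc : ∀ z ∈ Z, ∀ c ∈ C, z * c = c * z := fun z hz c hc =>
    mem_centralizer_iff.1 hc.2 z hz.1
  -- `Z` is a Sylow subgroup of `C`
  have hZmax : IsMaxP 2 Z C := by
    refine ⟨hZC, hZp, ?_⟩
    obtain ⟨R, hR⟩ := exists_isMaxP (p := 2) C
    have hqC : q ∈ normalizer (C : Set G) := by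
      refine Solv.le_normalizer_inf (X := zpowers q) ?_ ?_ (mem_zpowers q)
      · rw [normalizer_eq_top_iff.2 (inferInstance : L.Normal)]; exact le_top
      · rw [zpowers_le]; exact le_normalizer hqU₀
    have hT2p : IsPGroup 2 (Z ⊔ zpowers q : Subgroup G) :=
      hP'p.to_le (sup_le ((inf_le_left.trans hU₀S).trans (le_sup_left.trans hle))
        (le_sup_right.trans hle))
    set M := C ⊔ zpowers q with hM
    have hT2M : Z ⊔ zpowers q ≤ M := sup_le_sup hZC le_rfl
    obtain ⟨W₁, hW₁⟩ := (hT2p.comap_of_injective M.subtype M.subtype_injective).exists_le_sylow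
    set W := (W₁ : Subgroup M).map M.subtype with hW
    have hWp : IsPGroup 2 W := W₁.isPGroup'.map _
    have hT2W : Z ⊔ zpowers q ≤ W := by
      rw [← map_subgroupOf_eq_of_le hT2M]; exact map_mono hW₁
    have hCn : zpowers q ≤ normalizer (C : Set G) := zpowers_le.2 hqC
    have hMdec : ∀ w ∈ W, ∃ c ∈ C, c ∈ W ∧ ∃ i : ℤ, w = c * q ^ i := by
      intro w hw
      have hwM : w ∈ M := map_subtype_le _ hw
      rw [hM, ← SetLike.mem_coe, coe_mul_of_right_le_normalizer_left C (zpowers q) hCn] at hwM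
      obtain ⟨c, hc, z, hz, rfl⟩ := hwM
      obtain ⟨i, rfl⟩ := mem_zpowers_iff.1 hz
      refine ⟨c, hc, ?_, i, rfl⟩
      have := mul_mem hw (inv_mem (zpow_mem (hT2W (mem_sup_right (mem_zpowers q))) i))
      rwa [mul_inv_cancel_right] at this
    have hWeq : W ≤ Z ⊔ zpowers q := by
      by_contra hne
      have hlt : Z ⊔ zpowers q < W := lt_of_le_of_ne hT2W fun e => hne e.ge
      haveI := hWp.isNilpotent
      have h1 : (Z ⊔ zpowers q).subgroupOf W < ⊤ :=
        lt_top_iff_ne_top.2 fun e => hne (subgroupOf_eq_top.1 e)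
      obtain ⟨w, hw, hwn⟩ := SetLike.exists_of_lt (Group.normalizerCondition_of_isNilpotent _ h1)
      rw [← subgroupOf_normalizer_eq hlt.le] at hw
      obtain ⟨r, hrC, hrW, i, hwi⟩ := hMdec w w.2
      apply hwn
      show (w : G) ∈ Z ⊔ zpowers q
      have hr : r ∈ normalizer ((Z ⊔ zpowers q : Subgroup G) : Set G) := by
        have := mul_mem (show (w : G) ∈ normalizer ((Z ⊔ zpowers q : Subgroup G) : Set G) from hw)
          (inv_mem (le_normalizer (mem_sup_right (zpow_mem (mem_zpowers q) i) :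
            q ^ i ∈ Z ⊔ zpowers q)))
        rwa [hwi, mul_inv_cancel_right] at this
      have hrq : r * q * r⁻¹ ∈ U' :=
        sup_le (inf_le_left.trans inf_le_left) (zpowers_le.2 hqU')
          ((mem_normalizer_iff.1 hr q).1 (mem_sup_right (mem_zpowers q)))
      have hrU : r ∈ normalizer (U' : Set G) := by
        refine mem_normalizer_iff_map_conj_eq.2 (eq_of_le_of_card_ge ?_ (card_map_conj r _).ge)
        rintro _ ⟨y, hy, rfl⟩
        obtain ⟨s, hs, j, rfl⟩ := hdecU y hy
        show r * (s * q ^ j) * r⁻¹ ∈ U'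
        rw [show r * (s * q ^ j) * r⁻¹ = r * s * r⁻¹ * (r * q * r⁻¹) ^ j by rw [conj_zpow]; group,
          ← mem_centralizer_iff.1 hrC.2 s hs, mul_inv_cancel_right]
        exact mul_mem hs.1 (zpow_mem hrq j)
      have hrH : r ∈ H := mem_sup_left hrC.1
      have hrp : IsPGroup 2 (zpowers (⟨r, hrH⟩ : H)) := by
        refine (hWp.comap_of_injective H.subtype H.subtype_injective).to_le ?_
        rw [zpowers_le]
        exact hrW
      obtain ⟨m, hm, hmle⟩ := hmax.exists_conj_le (zpowers_le.2 (hnorm r hrH hrU)) hrp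
      have hmr : (m : G) * r * (m : G)⁻¹ ∈ S' := by
        rw [← hPL]
        exact ⟨⟨_, (hmle ⟨_, mem_zpowers _, rfl⟩).1, rfl⟩,
          (inferInstance : L.Normal).conj_mem r hrC.1 _⟩
      have hmU : (m : G) ∈ normalizer (U' : Set G) :=
        le_normalizer_map H.subtype ⟨m, hm, rfl⟩
      have hmU₀ : (m : G) ∈ normalizer (U₀ : Set G) := by
        refine Solv.le_normalizer_inf (X := zpowers (m : G)) (zpowers_le.2 hmU) ?_ (mem_zpowers _)
        rw [normalizer_eq_top_iff.2 (inferInstance : L.Normal)]; exact le_top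
      have hmc : (m : G) * r * (m : G)⁻¹ ∈ centralizer (U₀ : Set G) := by
        rw [mem_centralizer_iff]
        intro u hu
        have h2 := mem_centralizer_iff.1 hrC.2 _ ((mem_normalizer_iff''.1 hmU₀ u).1 hu)
        calc u * ((m : G) * r * (m : G)⁻¹)
            = (m : G) * (((m : G)⁻¹ * u * m) * r) * (m : G)⁻¹ := by group
          _ = (m : G) * (r * ((m : G)⁻¹ * u * m)) * (m : G)⁻¹ := by rw [h2]
          _ = (m : G) * r * (m : G)⁻¹ * u := by group
      have hrZ : r ∈ Z := by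
        refine ⟨?_, hrC.2⟩
        have h2 := (hCS ⟨hmr, hmc⟩).1
        have h3 := (mem_normalizer_iff''.1 hmU₀ _).1 h2
        rwa [show (m : G)⁻¹ * ((m : G) * r * (m : G)⁻¹) * m = r by group] at h3
      rw [hwi]
      exact mul_mem_sup hrZ (zpow_mem (mem_zpowers q) i)
    intro V hV hVp
    have hVM : V ≤ M := hV.trans le_sup_left
    obtain ⟨T, hT⟩ := (hVp.comap_of_injective M.subtype M.subtype_injective).exists_le_sylow
    obtain ⟨n₀, hn₀⟩ := MulAction.exists_smul_eq M T W₁
    have hWC : W ⊓ C ≤ Z := by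
      rintro w ⟨hw, hwC⟩
      have h2 := hWeq hw
      rw [← SetLike.mem_coe, coe_mul_of_right_le_normalizer_left Z (zpowers q) (by
        rw [zpowers_le]
        refine centralizer_le_normalizer _ (centralizer_le inf_le_left hqU₀))] at h2
      obtain ⟨z, hz, y, hy, rfl⟩ := h2
      refine mul_mem hz (hCS ⟨?_, ?_⟩)
      · rw [← hPL]
        refine ⟨le_sup_right.trans hle hy, ?_⟩
        have := mul_mem (inv_mem (hS'L (hU₀S hz.1))) hwC.1
        rwa [inv_mul_cancel_left] at this
      · exact zpowers_le.2 hqU₀ hy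
    have hn₀C : ∀ v ∈ V, (n₀ : G) * v * (n₀ : G)⁻¹ ∈ Z := by
      intro v hv
      refine hWC ⟨⟨n₀ * ⟨v, hVM hv⟩ * n₀⁻¹, ?_, rfl⟩, ?_⟩
      · rw [← hn₀, Sylow.coe_subgroup_smul]
        exact smul_mem_pointwise_smul _ (MulAut.conj n₀) _ (hT hv)
      · have hn₀N : (n₀ : G) ∈ normalizer (C : Set G) :=
          sup_le le_normalizer hCn n₀.2
        exact (mem_normalizer_iff.1 hn₀N v).1 (hV hv)
    refine Nat.card_le_card_of_injective
      (fun v : V => (⟨_, hn₀C v v.2⟩ : Z)) fun v w e => Subtype.ext ?_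
    simpa using congrArg Subtype.val e
  -- normal complement
  obtain ⟨T, hT⟩ := (exists_sylow_subgroupOf_iff hZC hZp).2 hZmax
  have hnpc : HasNormalPComplement 2 C := Solv.hasNormalPComplement_of_burnside T fun c _ => by
    rw [mem_centralizer_iff]
    intro z hz
    rw [hT] at hz
    exact Subtype.ext (hZc z hz c c.2)
  set O := (pPrimeCore 2 C).map C.subtype with hO
  have hCdec : ∀ c ∈ C, ∃ o ∈ O, ∃ z ∈ Z, c = o * z := by
    intro c hc
    obtain ⟨⟨o, z⟩, hoz⟩ := ((Solv.isComplement'_pPrimeCore hnpc T).existsUnique ⟨c, hc⟩).exists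
    have hz : ((z : C) : C) ∈ Z.subgroupOf C := hT ▸ z.2
    exact ⟨_, ⟨o, o.2, rfl⟩, _, hz, congrArg Subtype.val hoz.symm⟩
  set N := normalizer (U₀ : Set G) with hN
  have hCN : N ≤ normalizer (C : Set G) := by
    refine Solv.le_normalizer_inf ?_ ?_
    · rw [normalizer_eq_top_iff.2 (inferInstance : L.Normal)]; exact le_top
    · intro m hm
      rw [mem_normalizer_iff]
      intro c
      constructor
      · intro hc
        exact map_conj_centralizer_le m U₀ |>.trans (le_of_eq (congrArg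
          (fun R : Subgroup G => centralizer (R : Set G))
          ((mem_normalizer_iff_map_conj_eq.1 hm :) : U₀.map (MulAut.conj m).toMonoidHom = U₀))) ⟨c, hc, rfl⟩
      · intro hc
        have h2 := map_conj_centralizer_le m⁻¹ U₀ |>.trans (le_of_eq (congrArg
          (fun R : Subgroup G => centralizer (R : Set G))
          ((mem_normalizer_iff_map_conj_eq.1 (N.inv_mem hm) :) :
            U₀.map (MulAut.conj m⁻¹).toMonoidHom = U₀))) ⟨_, hc, rfl⟩
        simpa [mul_assoc] using h2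
  haveI hOn : (O.subgroupOf N).Normal := by
    haveI := Solv.pPrimeCore_characteristic 2 C
    exact normal_subgroupOf_of_le_normalizer fun m hm =>
      normalizer_map_char (pPrimeCore 2 C) (hCN hm)
  set π := QuotientGroup.mk' (O.subgroupOf N) with hπ
  have hker : ∀ (y : G) (hy : y ∈ N), π ⟨y, hy⟩ = 1 ↔ y ∈ O := fun y hy =>
    QuotientGroup.eq_one_iff _
  obtain ⟨l, hl, i, hli⟩ := hdec (n : G) n.2
  have hnU : (n : G) ∈ normalizer (U' : Set G) := le_normalizer_map H.subtype ⟨n, hn, rfl⟩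
  have hlU : l ∈ normalizer (U' : Set G) := by
    have := mul_mem hnU (inv_mem (le_normalizer (zpow_mem hqU' i)))
    rwa [hli, mul_inv_cancel_right] at this
  have hlN : l ∈ N := by
    refine Solv.le_normalizer_inf (X := zpowers l) (zpowers_le.2 hlU) ?_ (mem_zpowers _)
    rw [normalizer_eq_top_iff.2 (inferInstance : L.Normal)]; exact le_top
  have hsN : ∀ y ∈ centralizer (S' : Set G), y ∈ N := fun y hy =>
    centralizer_le_normalizer _ (centralizer_le hU₀S hy)
  have hcc : ∀ y ∈ centralizer (S' : Set G), l⁻¹ * y * l * y⁻¹ ∈ C := by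
    intro y hy
    refine ⟨?_, mem_centralizer_iff.2 fun u hu => ?_⟩
    · rw [show l⁻¹ * y * l * y⁻¹ = l⁻¹ * (y * l * y⁻¹) by group]
      exact L.mul_mem (L.inv_mem hl) ((inferInstance : L.Normal).conj_mem l hl y)
    · have hyu : ∀ v ∈ U₀, y * v = v * y := fun v hv =>
        (mem_centralizer_iff.1 hy v (hU₀S hv)).symm
      have h2 := hyu _ ((mem_normalizer_iff.1 hlN u).1 hu)
      have h3 := hyu u hu
      calc u * (l⁻¹ * y * l * y⁻¹) = l⁻¹ * ((l * u * l⁻¹) * y) * l * y⁻¹ := by group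
        _ = l⁻¹ * (y * (l * u * l⁻¹)) * l * y⁻¹ := by rw [h2]
        _ = l⁻¹ * y * l * (u * y⁻¹) := by group
        _ = l⁻¹ * y * l * (y⁻¹ * u) := by
          rw [show u * y⁻¹ = y⁻¹ * (y * u) * y⁻¹ by group, h3]; group
        _ = l⁻¹ * y * l * y⁻¹ * u := by group
  obtain ⟨o₁, ho₁, z₁, hz₁, e₁⟩ := hCdec _ (hcc x hx)
  obtain ⟨o₂, ho₂, z₂, hz₂, e₂⟩ := hCdec _ (hcc a ha)
  have hON : O ≤ N := (map_subtype_le _).trans (inf_le_right.trans (centralizer_le_normalizer _))
  have hZN : Z ≤ N := (inf_le_right : Z ≤ centralizer (U₀ : Set G)).trans (centralizer_le_normalizer _)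
  set X : N := ⟨x, hsN x hx⟩ with hX
  set A : N := ⟨a, hsN a ha⟩ with hA
  set Lh : N := ⟨l, hlN⟩ with hLh
  set Z₁ : N := ⟨z₁, hZN hz₁⟩ with hZ₁
  set Z₂ : N := ⟨z₂, hZN hz₂⟩ with hZ₂
  have hconj : ∀ (Y Zi : N) (o : G) (ho : o ∈ O),
      (Lh : G)⁻¹ * Y * Lh * (Y : G)⁻¹ = o * Zi →
      (π Lh)⁻¹ * π Y * π Lh = π Zi * π Y := by
    intro Y Zi o ho e
    have h1 : Lh⁻¹ * Y * Lh * Y⁻¹ = ⟨o, hON ho⟩ * Zi := Subtype.ext e
    have h2 := congrArg π h1
    rw [map_mul, map_mul, map_mul, map_mul, map_inv, map_inv, (hker o (hON ho)).2 ho, one_mul,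
      mul_inv_eq_iff_eq_mul] at h2
    exact h2
  have c1 := hconj X Z₁ o₁ ho₁ e₁
  have c2 := hconj A Z₂ o₂ ho₂ e₂
  have hcomm : ∀ (z y : N), (z : G) * y = y * z → Commute (π z) (π y) := fun z y h =>
    (show Commute z y from Subtype.ext h).map π
  have hzs : ∀ z ∈ Z, ∀ y ∈ centralizer (S' : Set G), z * y = y * z := fun z hz y hy =>
    mem_centralizer_iff.1 hy z (hU₀S hz.1)
  have k1 := hcomm Z₁ A (hzs _ hz₁ a ha)
  have k2 := hcomm Z₂ X (hzs _ hz₂ x hx)
  have k3 := hcomm Z₁ Z₂ (mem_centralizer_iff.1 hz₂.2 z₁ hz₁.1)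
  have k4 := hcomm Z₁ X (hzs _ hz₁ x hx)
  have k5 := hcomm Z₂ A (hzs _ hz₂ a ha)
  have hqN' : q ∈ N := centralizer_le_normalizer _ hqU₀
  have hQ : π ⟨q, hqN'⟩ = ⁅π X, π A⁆ := by
    rw [← map_commutatorElement]
    exact congrArg π (Subtype.ext rfl)
  have hfix : (π Lh)⁻¹ * π ⟨q, hqN'⟩ * π Lh = π ⟨q, hqN'⟩ := by
    rw [hQ]
    have e : (π Lh)⁻¹ * ⁅π X, π A⁆ * π Lh =
        ⁅(π Lh)⁻¹ * π X * π Lh, (π Lh)⁻¹ * π A * π Lh⁆ := by
      simp only [commutatorElement_def]; group
    rw [e, c1, c2, commutatorElement_def, commutatorElement_def, mul_inv_rev, mul_inv_rev]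
    have k3' := k3.symm
    have j1 : Commute (π Z₁) (π Z₂ * π A * (π X)⁻¹) :=
      (k3.mul_right k1).mul_right k4.inv_right
    have j2 : Commute (π Z₂) (π A * ((π X)⁻¹ * ((π A)⁻¹))) :=
      k5.mul_right (k2.inv_right.mul_right k5.inv_right)
    calc π Z₁ * π X * (π Z₂ * π A) * ((π X)⁻¹ * (π Z₁)⁻¹) * ((π A)⁻¹ * (π Z₂)⁻¹)
        = π Z₁ * π X * ((π Z₂ * π A * (π X)⁻¹) * (π Z₁)⁻¹) * ((π A)⁻¹ * (π Z₂)⁻¹) := by group
      _ = π Z₁ * π X * ((π Z₁)⁻¹ * (π Z₂ * π A * (π X)⁻¹)) * ((π A)⁻¹ * (π Z₂)⁻¹) := by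
          rw [(j1.symm.inv_right).eq]
      _ = (π Z₁ * π X) * (π Z₁)⁻¹ * (π Z₂ * (π A * ((π X)⁻¹ * (π A)⁻¹))) * (π Z₂)⁻¹ := by group
      _ = (π X * π Z₁) * (π Z₁)⁻¹ * ((π A * ((π X)⁻¹ * (π A)⁻¹)) * π Z₂) * (π Z₂)⁻¹ := by
          rw [k4.eq, j2.eq]
      _ = π X * π A * (π X)⁻¹ * (π A)⁻¹ := by group
  have hO' : l⁻¹ * q * l * q⁻¹ ∈ O := by
    rw [← hker _ (mul_mem (mul_mem (mul_mem (inv_mem hlN) hqN') hlN) (inv_mem hqN'))]
    have : π (Lh⁻¹ * ⟨q, hqN'⟩ * Lh * ⟨q, hqN'⟩⁻¹) = 1 := by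
      rw [map_mul, map_mul, map_mul, map_inv, map_inv, hfix, mul_inv_cancel]
    exact this
  have hU'' : l⁻¹ * q * l * q⁻¹ ∈ U' :=
    mul_mem ((mem_normalizer_iff''.1 hlU q).1 hqU') (inv_mem hqU')
  have hbot : (O ⊓ U' : Subgroup G) = ⊥ := by
    rw [inf_comm]
    refine Solv.inf_eq_bot_of_isPGroup (hP'p.to_le hU'P) ?_
    rw [hO, Solv.card_map_subtype]
    exact Solv.card_pPrimeCore_coprime 2 C
  have hlq : l * q = q * l := by
    have h := show l⁻¹ * q * l * q⁻¹ ∈ (O ⊓ U' : Subgroup G) from ⟨hO', hU''⟩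
    rw [hbot, mem_bot, mul_inv_eq_one] at h
    calc l * q = l * (l⁻¹ * q * l) := by rw [h]
      _ = q * l := by group
  refine Subtype.ext ?_
  show (n : G) * q * (n : G)⁻¹ = q
  have hc : Commute (l * q ^ i) q := (show Commute l q from hlq).mul_left ((Commute.refl q).zpow_left i)
  rw [hli, hc.eq, mul_inv_cancel_right]

/-- The centralizer of a Sylow 2-subgroup of `L` has a normal 2-complement. -/
theorem centralizer_sylow_npc (L : Subgroup G) [L.Normal] (hL : oddCore L = ⊥)
    (hC : centralizer (L : Set G) = ⊥) (S : Sylow 2 L) :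
    HasNormalPComplement 2
      (centralizer (((S : Subgroup L).map L.subtype : Subgroup G) : Set G)) := by
  haveI : Fact (Nat.Prime 2) := ⟨Nat.prime_two⟩
  set A := centralizer (((S : Subgroup L).map L.subtype : Subgroup G) : Set G)
  obtain ⟨T⟩ := Sylow.nonempty (p := 2) (G := A)
  refine Solv.hasNormalPComplement_of_burnside T fun x hx => ?_
  rw [mem_centralizer_iff]
  intro a ha
  have hq : ⁅x, a⁆ ∈ (T : Subgroup A) := by
    rw [commutatorElement_def]
    exact mul_mem ((mem_normalizer_iff.1 hx a).1 ha) (inv_mem ha)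
  have h := commutator_centralizes L hL S (a := (a : G)) (x := (x : G)) a.2 x.2 (by
    refine (T.isPGroup'.map A.subtype).to_le ?_
    rw [zpowers_le]
    exact ⟨_, hq, rfl⟩)
  rw [hC, mem_bot, commutatorElement_eq_one_iff_mul_comm] at h
  exact Subtype.ext h.symm

end Main

end Cfsg.Agent.Inv
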