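import Mathlib
import Cfsg.Prelude.Def_Transfer
import Cfsg.Agent.Lib.Solv.Basic
import Cfsg.Agent.Lib.Local.CoprimeGeneration
import Cfsg.Agent.Lib.Struct.CoprimeMinimal

/-!
Thompson's dihedral lemma.
-/

set_option autoImplicit false

universe u

namespace Cfsg.Agent.Inv.ThompsonDihedral

open Subgroup
open scoped commutatorElement

variable {G : Type u} [Group G] [Finite G]

omit [Finite G] in
theorem inv_eq_self {A : Subgroup G} (hA : Cfsg.IsElementaryAbelian 2 A) {a : G} (ha : a ∈ A) : a⁻¹ = a :=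
  inv_eq_of_mul_eq_one_right (by rw [← pow_two]; exact hA.2 a ha)

omit [Finite G] in
theorem mul_self {A : Subgroup G} (hA : Cfsg.IsElementaryAbelian 2 A) {a : G} (ha : a ∈ A) : a * a = 1 := by
  rw [← pow_two]; exact hA.2 a ha

omit [Finite G] in
theorem comm {A : Subgroup G} (hA : Cfsg.IsElementaryAbelian 2 A) {a b : G} (ha : a ∈ A) (hb : b ∈ A) :
    Commute a b :=
  congrArg Subtype.val (hA.1.is_comm.comm ⟨a, ha⟩ ⟨b, hb⟩)

/-- Common eigenvectors. -/
theorem exists_eigen (A M : Subgroup G) (hA : Cfsg.IsElementaryAbelian 2 A) (hM : Odd (Nat.card ↥M))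
    (hAM : A ≤ normalizer (M : Set G)) {k : G} (hk : k ∈ A) (hk' : ¬ M ≤ centralizer ({k} : Set G)) :
    ∃ x ∈ M, x ≠ 1 ∧ k * x * k⁻¹ = x⁻¹ ∧ ∀ a ∈ A, a * x * a⁻¹ = x ∨ a * x * a⁻¹ = x⁻¹ := by
  classical
  let Good : Subgroup G → Prop := fun T => T ≤ A ∧ ¬ M ⊓ centralizer (T : Set G) ≤ centralizer ({k} : Set G)
  have hbot : Good ⊥ := ⟨bot_le, fun h => hk' (fun m hm => h ⟨hm, fun t ht => by
    rw [mem_bot.1 ht, one_mul, mul_one]⟩)⟩
  obtain ⟨T, ⟨hTA, hTk⟩, hmax⟩ := (Set.toFinite {T : Subgroup G | Good T}).exists_maximal ⟨⊥, hbot⟩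
  have hkT : k ∉ T := fun h => hTk fun m hm => mem_centralizer_singleton_iff.2 (hm.2 k h).symm
  set M' := M ⊓ centralizer (T : Set G) with hM'
  have hAM' : A ≤ normalizer (M' : Set G) := by
    intro a ha
    refine mem_normalizer_fintype fun m hm => ⟨(mem_normalizer_iff.1 (hAM ha) m).1 hm.1, fun t ht => ?_⟩
    have hat := comm hA ha (hTA ht)
    calc t * (a * m * a⁻¹) = (t * a) * m * a⁻¹ := by group
      _ = (a * t) * m * a⁻¹ := by rw [hat.eq]
      _ = a * (t * m) * a⁻¹ := by group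
      _ = a * (m * t) * a⁻¹ := by rw [hm.2 t ht]
      _ = a * m * (t * a⁻¹) := by group
      _ = a * m * (a⁻¹ * t) := by rw [hat.inv_left.symm.eq]
      _ = a * m * a⁻¹ * t := by group
  obtain ⟨m, hm, hmk⟩ := SetLike.not_le_iff_exists.1 hTk
  set x := m * (k * m⁻¹ * k⁻¹) with hx
  have hxM : x ∈ M' := mul_mem hm ((mem_normalizer_iff.1 (hAM' hk) _).1 (inv_mem hm))
  have hx1 : x ≠ 1 := by
    intro e
    refine hmk (mem_centralizer_singleton_iff.2 ?_)
    rw [hx, mul_eq_one_iff_eq_inv] at e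
    have e' : m = k * m * k⁻¹ := by simpa [mul_assoc] using e
    nth_rw 1 [e']
    rw [inv_mul_cancel_right]
  have hkk := mul_self hA hk
  have hki := inv_eq_self hA hk
  have hkx : k * x * k⁻¹ = x⁻¹ := by
    rw [hx, mul_inv_rev, mul_inv_rev, mul_inv_rev, inv_inv, inv_inv, hki]
    calc k * (m * (k * m⁻¹ * k)) * k = k * m * k * m⁻¹ * (k * k) := by group
      _ = k * (m * k) * m⁻¹ := by rw [hkk]; group
      _ = _ := by group
  refine ⟨x, hxM.1, hx1, hkx, fun a ha => ?_⟩
  -- every element lies in `T` or `T k`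
  have hTx : ∀ t ∈ T, t * x * t⁻¹ = x := fun t ht => by rw [hxM.2 t ht, mul_inv_cancel_right]
  by_cases haT : a ∈ T
  · exact Or.inl (hTx a haT)
  by_cases hakT : a * k ∈ T
  · right
    have h := hTx _ hakT
    calc a * x * a⁻¹ = a * (k * (k * x * k⁻¹) * k⁻¹) * a⁻¹ := by
          rw [show k * (k * x * k⁻¹) * k⁻¹ = (k * k) * x * (k * k)⁻¹ by group, hkk]; group
      _ = (a * k) * x⁻¹ * (a * k)⁻¹ := by rw [hkx]; group
      _ = ((a * k) * x * (a * k)⁻¹)⁻¹ := by group
      _ = x⁻¹ := by rw [h]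
  exfalso
  have hca := comm hA ha hk
  have haa := mul_self hA ha
  let E : Subgroup G :=
    { carrier := {g | g = 1 ∨ g = a ∨ g = k ∨ g = a * k}
      one_mem' := Or.inl rfl
      mul_mem' := by
        have e1 : k * a = a * k := hca.symm.eq
        have e2 : a * (a * k) = k := by rw [← mul_assoc, haa, one_mul]
        have e3 : k * (a * k) = a := by rw [← mul_assoc, e1, mul_assoc, hkk, mul_one]
        have e4 : a * k * a = k := by rw [mul_assoc, e1, e2]
        have e5 : a * k * k = a := by rw [mul_assoc, hkk, mul_one]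
        have e6 : a * k * (a * k) = 1 := by rw [← mul_assoc, e4, hkk]
        rintro g g' (rfl | rfl | rfl | rfl) (rfl | rfl | rfl | rfl) <;>
          simp [haa, hkk, e1, e2, e3, e4, e5, e6]
      inv_mem' := by
        rintro g (rfl | rfl | rfl | rfl)
        · simp
        · exact Or.inr (Or.inl (inv_eq_self hA ha))
        · exact Or.inr (Or.inr (Or.inl hki))
        · exact Or.inr (Or.inr (Or.inr (inv_eq_self hA (mul_mem ha hk)))) }
  have hEA : E ≤ A := by
    rintro g (rfl | rfl | rfl | rfl)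
    exacts [one_mem _, ha, hk, mul_mem ha hk]
  haveI : IsMulCommutative ↥E := ⟨⟨fun g g' => Subtype.ext (comm hA (hEA g.2) (hEA g'.2)).eq⟩⟩
  have ha1 : a ≠ 1 := fun e => haT (e ▸ one_mem T)
  have hk1 : k ≠ 1 := fun e => hkT (e ▸ one_mem T)
  have hak : a ≠ k := fun e => hakT (by rw [e, hkk]; exact one_mem T)
  have hEnc : ¬ IsCyclic ↥E := by
    intro h
    obtain ⟨⟨g, hg⟩, hgen⟩ := h.exists_generator
    have hg2 := mul_self hA (hEA hg)
    have hall : ∀ y ∈ E, y = 1 ∨ y = g := by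
      intro y hy
      obtain ⟨n, hn⟩ := hgen ⟨y, hy⟩
      have hn' : g ^ n = y := congrArg Subtype.val hn
      rcases Int.even_or_odd n with ⟨l, hl⟩ | ⟨l, hl⟩
      · left
        rw [← hn', hl, zpow_add, ← (Commute.refl g).mul_zpow, hg2, one_zpow]
      · right
        rw [← hn', hl, zpow_add, zpow_mul, zpow_two, hg2, one_zpow, one_mul, zpow_one]
    rcases hall a (Or.inr (Or.inl rfl)) with e | e
    · exact ha1 e
    · rcases hall k (Or.inr (Or.inr (Or.inl rfl))) with e' | e'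
      · exact hk1 e'
      · exact hak (e.trans e'.symm)
  have hE2 : IsPGroup 2 ↥E := fun g => ⟨1, Subtype.ext (by simpa using hA.2 g (hEA g.2))⟩
  have hcop : (Nat.card ↥E).Coprime (Nat.card ↥M') := by
    haveI : Fact (Nat.Prime 2) := ⟨Nat.prime_two⟩
    obtain ⟨n, hn⟩ := hE2.exists_card_eq
    rw [hn]
    exact (Nat.coprime_two_left.2 (hM.of_dvd_nat (card_dvd_of_le inf_le_left))).pow_left n
  refine hmk (Local.CoprimeGen.le_of_centralizers E M' (centralizer ({k} : Set G)) hEnc (hEA.trans hAM') hcop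
    (fun e he he1 => ?_) hm)
  by_cases hek : e = k
  · rw [hek]; exact inf_le_right
  have heT : e ∉ T := by
    rcases he with rfl | rfl | rfl | rfl
    exacts [absurd rfl he1, haT, hkT, hakT]
  by_contra hnot
  have hgood : Good (T ⊔ zpowers e) := ⟨sup_le hTA (zpowers_le.2 (hEA he)), fun h => hnot (le_trans (fun z hz => ?_) h)⟩
  · exact heT (hmax hgood le_sup_left (mem_sup_right (mem_zpowers e)))
  · refine ⟨hz.1.1, ?_⟩
    have h1 : T ⊔ zpowers e ≤ centralizer ({z} : Set G) :=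
      sup_le (fun t ht => mem_centralizer_singleton_iff.2 (hz.1.2 t ht))
        (zpowers_le.2 (mem_centralizer_singleton_iff.2 (mem_centralizer_singleton_iff.1 hz.2).symm))
    exact fun t ht => mem_centralizer_singleton_iff.1 (h1 ht)

/-- An elementary 2-group faithful on a solvable group of odd order is faithful on the Fitting subgroup. -/
theorem faithful_fitting (L A : Subgroup G) (hLs : Group.IsSolvable ↥L) (hodd : Odd (Nat.card ↥L))
    (hA : Cfsg.IsElementaryAbelian 2 A) (hAL : A ≤ normalizer (L : Set G))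
    (hfaith : A ⊓ centralizer (L : Set G) = ⊥) {a : G} (ha : a ∈ A)
    (h : ∀ f ∈ Cfsg.fittingSubgroup ↥L, a * (f : G) * a⁻¹ = f) : a = 1 := by
  rw [← mem_bot, ← hfaith]
  refine ⟨ha, fun l hl => ?_⟩
  set F := Cfsg.fittingSubgroup ↥L
  haveI := hLs
  have hai := inv_eq_self hA ha
  have hcL : l * (a * l⁻¹ * a⁻¹) ∈ L := mul_mem hl ((mem_normalizer_iff.1 (hAL ha) _).1 (inv_mem hl))
  set c : ↥L := ⟨l * (a * l⁻¹ * a⁻¹), hcL⟩ with hc
  haveI : F.Normal := inferInstance
  have hcC : c ∈ centralizer (F : Set ↥L) := by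
    intro f hf
    apply Subtype.ext
    show (f : G) * (l * (a * l⁻¹ * a⁻¹)) = l * (a * l⁻¹ * a⁻¹) * f
    have hf' : (⟨l, hl⟩ : ↥L)⁻¹ * f * ⟨l, hl⟩ ∈ F := by
      simpa using (inferInstance : F.Normal).conj_mem f hf (⟨l, hl⟩ : ↥L)⁻¹
    have e1 : a * (l⁻¹ * (f : G) * l) * a⁻¹ = l⁻¹ * f * l := h _ hf'
    have e2 : a * (f : G) * a⁻¹ = f := h f hf
    calc (f : G) * (l * (a * l⁻¹ * a⁻¹)) = l * (l⁻¹ * f * l) * (a * l⁻¹ * a⁻¹) := by group
      _ = l * (a * (l⁻¹ * f * l) * a⁻¹) * (a * l⁻¹ * a⁻¹) := by rw [e1]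
      _ = l * (a * l⁻¹) * f * a⁻¹ := by group
      _ = l * (a * l⁻¹) * a⁻¹ * (a * f * a⁻¹) := by group
      _ = l * (a * l⁻¹ * a⁻¹) * f := by rw [e2]; group
  have hcF : c ∈ F := Solv.centralizer_fittingSubgroup_le hcC
  have e3 : a * (l * (a * l⁻¹ * a⁻¹)) * a⁻¹ = l * (a * l⁻¹ * a⁻¹) := h c hcF
  have hsq : (l * (a * l⁻¹ * a⁻¹)) * (l * (a * l⁻¹ * a⁻¹)) = 1 := by
    have e5 : a * (l * (a * l⁻¹ * a⁻¹)) * a⁻¹ = (l * (a * l⁻¹ * a⁻¹))⁻¹ := by
      calc a * (l * (a * l⁻¹ * a⁻¹)) * a⁻¹ = a * l * a * l⁻¹ * (a * a)⁻¹ := by group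
        _ = a * l * a⁻¹ * l⁻¹ := by rw [mul_self hA ha, inv_one, mul_one, hai]
        _ = _ := by group
    rw [e3] at e5
    nth_rw 1 [e5]
    rw [inv_mul_cancel]
  have hc1 : c = 1 := by
    have h2 : c ^ 2 = 1 := by rw [pow_two]; exact Subtype.ext hsq
    exact orderOf_eq_one_iff.1 (Nat.eq_one_of_dvd_coprimes (Nat.coprime_two_right.2 hodd) (orderOf_dvd_natCard c)
      (orderOf_dvd_of_pow_eq_one h2))
  have e4 : l * (a * l⁻¹ * a⁻¹) = 1 := congrArg Subtype.val hc1
  calc l * a = (l * (a * l⁻¹ * a⁻¹)) * (a * l) := by group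
    _ = a * l := by rw [e4, one_mul]

/-- The simultaneous eigenvector system. -/
theorem exists_system (L A : Subgroup G) (hLs : Group.IsSolvable ↥L) (hodd : Odd (Nat.card ↥L))
    (hA : Cfsg.IsElementaryAbelian 2 A) (hAL : A ≤ normalizer (L : Set G))
    (hfaith : A ⊓ centralizer (L : Set G) = ⊥) :
    ∃ (m : ℕ) (x b : Fin m → G),
      (∀ i, x i ∈ L ∧ x i ≠ 1 ∧ b i ∈ A ∧ b i * x i * (b i)⁻¹ = (x i)⁻¹) ∧
      (∀ i j, i ≠ j → Commute (x i) (x j) ∧ Commute (b i) (x j)) ∧
      A ≤ (⨆ i, zpowers (b i)) ∧ 2 ^ m = Nat.card ↥A := by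
  classical
  set F := (Cfsg.fittingSubgroup ↥L).map L.subtype with hF
  haveI hnil : Group.IsNilpotent ↥(Cfsg.fittingSubgroup ↥L) := Solv.fittingSubgroup_isNilpotent ↥L
  let M : ℕ → Subgroup G := fun i =>
    ((Subgroup.upperCentralSeries ↥(Cfsg.fittingSubgroup ↥L) i).map (Cfsg.fittingSubgroup ↥L).subtype).map L.subtype
  have hML : ∀ i, M i ≤ L := fun i => Subgroup.map_subtype_le _
  haveI hFchar : (Cfsg.fittingSubgroup ↥L).Characteristic := Solv.fittingSubgroup_characteristic ↥L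
  have hAM : ∀ i, A ≤ normalizer (M i : Set G) := by
    intro i
    haveI : (Subgroup.upperCentralSeries ↥(Cfsg.fittingSubgroup ↥L) i).Characteristic := inferInstance
    exact Struct.CoprimeMinimal.le_normalizer_map_char A L hAL _
  have hstep : ∀ i, ∀ x ∈ M (i + 1), ∀ y ∈ F, x * y * x⁻¹ * y⁻¹ ∈ M i := by
    rintro i _ ⟨_, ⟨x, hx, rfl⟩, rfl⟩ _ ⟨y, hy, rfl⟩
    refine ⟨_, ⟨⁅x, ⟨y, hy⟩⁆, Subgroup.mem_upperCentralSeries_succ_iff.1 hx ⟨y, hy⟩, rfl⟩, ?_⟩
    simp [commutatorElement_def]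
  obtain ⟨N, hN⟩ := Group.IsNilpotent.nilpotent ↥(Cfsg.fittingSubgroup ↥L)
  have hMN : M N = F := by
    show ((Subgroup.upperCentralSeries ↥(Cfsg.fittingSubgroup ↥L) N).map _).map _ = _
    rw [hN, ← MonoidHom.range_eq_map, range_subtype]
  have hMF : ∀ i, M i ≤ F := fun i => map_mono (map_subtype_le _)
  let Inv : ℕ → Prop := fun m => ∃ (x b : Fin m → G) (K : Subgroup G),
    (∀ i, x i ∈ F ∧ x i ≠ 1 ∧ b i ∈ A ∧ b i * x i * (b i)⁻¹ = (x i)⁻¹) ∧
    (∀ i j, i ≠ j → Commute (x i) (x j) ∧ Commute (b i) (x j)) ∧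
    K ≤ A ∧ (∀ k ∈ K, ∀ i, Commute k (x i)) ∧ A ≤ (⨆ i, zpowers (b i)) ⊔ K ∧
    2 ^ m * Nat.card ↥K = Nat.card ↥A
  have h0 : Inv 0 := ⟨Fin.elim0, Fin.elim0, A, fun i => i.elim0, fun i => i.elim0, le_rfl,
    fun k _ i => i.elim0, le_sup_right, by rw [pow_zero, one_mul]⟩
  have hext : ∀ m, Inv m →
      (∃ (x b : Fin m → G), (∀ i, x i ∈ L ∧ x i ≠ 1 ∧ b i ∈ A ∧ b i * x i * (b i)⁻¹ = (x i)⁻¹) ∧
        (∀ i j, i ≠ j → Commute (x i) (x j) ∧ Commute (b i) (x j)) ∧
        A ≤ (⨆ i, zpowers (b i)) ∧ 2 ^ m = Nat.card ↥A) ∨ Inv (m + 1) := by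
    rintro m ⟨x, b, K, h1, h2, hKA, hKc, hgen, hcard⟩
    by_cases hK : K = ⊥
    · left
      rw [hK, sup_bot_eq] at hgen
      rw [hK, card_bot, mul_one] at hcard
      exact ⟨x, b, fun i => ⟨map_subtype_le _ (h1 i).1, (h1 i).2⟩, h2, hgen, hcard⟩
    right
    obtain ⟨⟨k0, hk0⟩, hk01⟩ := ne_bot_iff_exists_ne_one.1 hK
    have hex : ∃ i, ∃ k ∈ K, ¬ M i ≤ centralizer ({k} : Set G) := by
      refine ⟨N, k0, hk0, fun h => hk01 (Subtype.ext (faithful_fitting L A hLs hodd hA hAL hfaith (hKA hk0) ?_))⟩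
      intro f hf
      have : (f : G) ∈ M N := hMN ▸ ⟨f, hf, rfl⟩
      rw [← mem_centralizer_singleton_iff.1 (h this), mul_inv_cancel_right]
    obtain ⟨k, hkK, hk⟩ := Nat.find_spec hex
    obtain ⟨i, hi⟩ : ∃ i, Nat.find hex = i + 1 := by
      rcases hfi : Nat.find hex with _ | i
      · exfalso
        rw [hfi] at hk
        refine hk ?_
        show ((Subgroup.upperCentralSeries ↥(Cfsg.fittingSubgroup ↥L) 0).map _).map _ ≤ _
        rw [Subgroup.upperCentralSeries_zero, Subgroup.map_bot, Subgroup.map_bot]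
        exact bot_le
      · exact ⟨i, rfl⟩
    rw [hi] at hk
    have hlow : ∀ k' ∈ K, M i ≤ centralizer ({k'} : Set G) := by
      intro k' hk'
      by_contra hh
      exact Nat.find_min hex (m := i) (by omega) ⟨k', hk', hh⟩
    obtain ⟨y, hy, hy1, hky, hsign⟩ := exists_eigen A (M (i + 1)) hA
      (hodd.of_dvd_nat (card_dvd_of_le (hML _))) (hAM _) (hKA hkK) hk
    have hkA := hKA hkK
    have hkk := mul_self hA hkA
    have hyodd : Odd (orderOf y) := hodd.of_dvd_nat (Subgroup.orderOf_dvd_natCard L (hML _ hy))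
    have hcancel : ∀ z : G, y * z * y⁻¹ = z⁻¹ → z ∈ L → z = 1 := by
      intro z hz hzL
      have h2 : y ^ 2 * z * (y ^ 2)⁻¹ = z := by
        calc y ^ 2 * z * (y ^ 2)⁻¹ = y * (y * z * y⁻¹) * y⁻¹ := by rw [pow_two]; group
          _ = z := by rw [hz, ← conj_inv, hz, inv_inv]
      obtain ⟨l, hl⟩ := hyodd
      have e : (y ^ 2) ^ (l + 1) = y := by
        rw [← pow_mul, show 2 * (l + 1) = (2 * l + 1) + 1 by ring, ← hl, pow_succ, pow_orderOf_eq_one, one_mul]
      have h3 : Commute y z := e ▸ (show Commute (y ^ 2) z from mul_inv_eq_iff_eq_mul.1 h2).pow_left (l + 1)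
      rw [h3.eq, mul_inv_cancel_right] at hz
      have h4 : (⟨z, hzL⟩ : ↥L) ^ 2 = 1 := Subtype.ext (by
        show z ^ 2 = 1
        rw [pow_two]; nth_rw 1 [hz]; rw [inv_mul_cancel])
      have := orderOf_eq_one_iff.1 (Nat.eq_one_of_dvd_coprimes (Nat.coprime_two_right.2 hodd)
        (orderOf_dvd_natCard (⟨z, hzL⟩ : ↥L)) (orderOf_dvd_of_pow_eq_one h4))
      exact congrArg Subtype.val this
    have hxy : ∀ j, Commute y (x j) := by
      intro j
      set z := y * x j * y⁻¹ * (x j)⁻¹ with hz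
      have hzM : z ∈ M i := hstep i y hy (x j) (h1 j).1
      have hkz : k * z * k⁻¹ = z := by
        rw [← mem_centralizer_singleton_iff.1 (hlow k hkK hzM), mul_inv_cancel_right]
      have hkx : k * x j * k⁻¹ = x j := by rw [(hKc k hkK j).eq, mul_inv_cancel_right]
      have e : k * z * k⁻¹ = (k * y * k⁻¹) * (k * x j * k⁻¹) * (k * y * k⁻¹)⁻¹ * (k * x j * k⁻¹)⁻¹ := by
        rw [hz]; group
      rw [hkz, hky, hkx, inv_inv] at e
      have hz1 : z = 1 := hcancel z (by
        nth_rw 1 [e]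
        rw [hz]; group) (hML _ hzM)
      rw [hz] at hz1
      exact mul_inv_eq_iff_eq_mul.1 (mul_inv_eq_one.1 hz1)
    let bb : Fin m → G := fun j => if Commute (b j) y then b j else b j * k
    have hbbA : ∀ j, bb j ∈ A := fun j => by
      show (if Commute (b j) y then b j else b j * k) ∈ A
      split
      · exact (h1 j).2.2.1
      · exact mul_mem (h1 j).2.2.1 hkA
    have hbby : ∀ j, Commute (bb j) y := by
      intro j
      show Commute (if Commute (b j) y then b j else b j * k) y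
      split
      · assumption
      next hnc =>
        rcases hsign (b j) (h1 j).2.2.1 with e | e
        · exact absurd (mul_inv_eq_iff_eq_mul.1 e) hnc
        · refine mul_inv_eq_iff_eq_mul.1 ?_
          calc b j * k * y * (b j * k)⁻¹ = b j * (k * y * k⁻¹) * (b j)⁻¹ := by group
            _ = (b j * y * (b j)⁻¹)⁻¹ := by rw [hky]; group
            _ = y := by rw [e, inv_inv]
    have hbbconj : ∀ j l, bb j * x l * (bb j)⁻¹ = b j * x l * (b j)⁻¹ := by
      intro j l
      show (if Commute (b j) y then b j else b j * k) * x l * (if Commute (b j) y then b j else b j * k)⁻¹ = _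
      split
      · rfl
      · calc b j * k * x l * (b j * k)⁻¹ = b j * (k * x l * k⁻¹) * (b j)⁻¹ := by group
          _ = _ := by rw [(hKc k hkK l).eq, mul_inv_cancel_right]
    set K' := K ⊓ centralizer ({y} : Set G) with hK'
    refine ⟨Fin.cons y x, Fin.cons k bb, K', ?_, ?_, inf_le_left.trans hKA, ?_, ?_, ?_⟩
    · intro j
      refine Fin.cases ?_ (fun j => ?_) j
      · simp only [Fin.cons_zero]
        exact ⟨hMF _ hy, hy1, hkA, hky⟩
      · simp only [Fin.cons_succ]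
        exact ⟨(h1 j).1, (h1 j).2.1, hbbA j, by rw [hbbconj]; exact (h1 j).2.2.2⟩
    · intro j l
      refine Fin.cases ?_ (fun j => ?_) j <;> refine Fin.cases ?_ (fun l => ?_) l <;>
        intro hjl <;> simp only [Fin.cons_zero, Fin.cons_succ]
      · exact absurd rfl hjl
      · exact ⟨hxy l, hKc k hkK l⟩
      · exact ⟨(hxy j).symm, hbby j⟩
      · have hjl' : j ≠ l := fun e => hjl (e ▸ rfl)
        refine ⟨(h2 j l hjl').1, mul_inv_eq_iff_eq_mul.1 ?_⟩
        rw [hbbconj, (h2 j l hjl').2.eq, mul_inv_cancel_right]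
    · intro k' hk' j
      refine Fin.cases ?_ (fun j => ?_) j
      · simp only [Fin.cons_zero]
        exact mem_centralizer_singleton_iff.1 hk'.2
      · simp only [Fin.cons_succ]
        exact hKc k' hk'.1 j
    · set B' := ⨆ j, zpowers ((Fin.cons k bb : Fin (m + 1) → G) j) with hB'
      have hkB : k ∈ B' := le_iSup (fun j => zpowers ((Fin.cons k bb : Fin (m + 1) → G) j)) 0 (by simp)
      have hbbB : ∀ j, bb j ∈ B' := fun j =>
        le_iSup (fun j => zpowers ((Fin.cons k bb : Fin (m + 1) → G) j)) j.succ (by simp)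
      refine hgen.trans (sup_le (iSup_le fun j => zpowers_le.2 ?_) fun k' hk' => ?_)
      · refine mem_sup_left ?_
        have := hbbB j
        simp only [bb] at this
        split at this
        · exact this
        · have h := mul_mem this (inv_mem hkB)
          rwa [mul_inv_cancel_right] at h
      · rcases hsign k' (hKA hk') with e | e
        · exact mem_sup_right ⟨hk', mem_centralizer_singleton_iff.2 (mul_inv_eq_iff_eq_mul.1 e)⟩
        · have h := mul_mem (mem_sup_right (S := B') (⟨mul_mem hk' hkK, mem_centralizer_singleton_iff.2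
            (mul_inv_eq_iff_eq_mul.1 (show k' * k * y * (k' * k)⁻¹ = y by
              calc k' * k * y * (k' * k)⁻¹ = k' * (k * y * k⁻¹) * k'⁻¹ := by group
                _ = (k' * y * k'⁻¹)⁻¹ := by rw [hky]; group
                _ = y := by rw [e, inv_inv]))⟩ : k' * k ∈ K')) (mem_sup_left (T := K') (inv_mem hkB))
          rwa [mul_inv_cancel_right] at h
    · have hkK' : k ∉ K' := by
        intro h
        have e := mem_centralizer_singleton_iff.1 h.2
        have e2 : y = y⁻¹ := by rw [← hky, e, mul_inv_cancel_right]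
        exact hy1 (orderOf_eq_one_iff.1 (Nat.eq_one_of_dvd_coprimes (Nat.coprime_two_right.2 hyodd) dvd_rfl
          (orderOf_dvd_of_pow_eq_one (by rw [pow_two]; nth_rw 2 [e2]; rw [mul_inv_cancel]))))
      let f : ↥K' × Fin 2 → ↥K := fun t =>
        if t.2 = 0 then ⟨t.1, t.1.2.1⟩ else ⟨(t.1 : G) * k, mul_mem t.1.2.1 hkK⟩
      have hf : Function.Bijective f := by
        constructor
        · rintro ⟨s, u⟩ ⟨s', u'⟩ e
          have e' := congrArg Subtype.val e
          fin_cases u <;> fin_cases u'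
          · change (s : G) = s' at e'
            exact Prod.ext (Subtype.ext e') rfl
          · change (s : G) = s' * k at e'
            exact (hkK' (by
              have h' : k = (s' : G)⁻¹ * s := by rw [e']; group
              rw [h']; exact mul_mem (inv_mem s'.2) s.2)).elim
          · change (s : G) * k = s' at e'
            exact (hkK' (by
              have h' : k = (s : G)⁻¹ * s' := by rw [← e']; group
              rw [h']; exact mul_mem (inv_mem s.2) s'.2)).elim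
          · change (s : G) * k = s' * k at e'
            exact Prod.ext (Subtype.ext (mul_right_cancel e')) rfl
        · rintro ⟨g, hg⟩
          rcases hsign g (hKA hg) with e | e
          · exact ⟨(⟨g, hg, mem_centralizer_singleton_iff.2 (mul_inv_eq_iff_eq_mul.1 e)⟩, 0), rfl⟩
          · refine ⟨(⟨g * k, mul_mem hg hkK, mem_centralizer_singleton_iff.2 (mul_inv_eq_iff_eq_mul.1 ?_)⟩, 1), ?_⟩
            · calc g * k * y * (g * k)⁻¹ = g * (k * y * k⁻¹) * g⁻¹ := by group
                _ = (g * y * g⁻¹)⁻¹ := by rw [hky]; group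
                _ = y := by rw [e, inv_inv]
            · exact Subtype.ext (show g * k * k = g by rw [mul_assoc, hkk, mul_one])
      rw [← hcard, ← Nat.card_eq_of_bijective f hf, Nat.card_prod, Nat.card_fin, pow_succ]
      ring
  by_contra hh
  have hall : ∀ m, Inv m := by
    intro m
    induction m with
    | zero => exact h0
    | succ m ih =>
      rcases hext m ih with ⟨x, b, h⟩ | h
      · exact absurd ⟨m, x, b, h⟩ hh
      · exact h
  obtain ⟨-, -, K, -, -, -, -, -, hcard⟩ := hall (Nat.card ↥A)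
  have h1 : Nat.card ↥A < 2 ^ Nat.card ↥A := Nat.lt_two_pow_self
  have h2 : 0 < Nat.card ↥K := Nat.card_pos
  nlinarith

/-- A dihedral subgroup from an inverting involution. -/
theorem dihedral {a x : G} (ha : orderOf a = 2) (hinv : a * x * a⁻¹ = x⁻¹) (hodd : Odd (orderOf x)) :
    Nonempty (↥(zpowers a ⊔ zpowers x) ≃* DihedralGroup (orderOf x)) := by
  classical
  set n := orderOf x with hn
  haveI : NeZero n := ⟨(orderOf_pos x).ne'⟩
  have haa : a * a = 1 := by rw [← pow_two, ← ha, pow_orderOf_eq_one]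
  have hai : a⁻¹ = a := inv_eq_of_mul_eq_one_right haa
  have hz : ∀ i j : ℤ, ((i : ZMod n) = (j : ZMod n)) → x ^ i = x ^ j := fun i j h => by
    rw [zpow_eq_zpow_iff_modEq, ← hn]
    exact (ZMod.intCast_eq_intCast_iff i j n).1 h
  let ex : ZMod n → G := fun i => x ^ (i.val : ℤ)
  have hadd : ∀ i j, ex (i + j) = ex i * ex j := fun i j => by
    simp only [ex, ← zpow_add]; exact hz _ _ (by push_cast; simp [ZMod.natCast_zmod_val])
  have hsub : ∀ i j, ex (j - i) = (ex i)⁻¹ * ex j := fun i j => by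
    simp only [ex, ← zpow_neg, ← zpow_add]; exact hz _ _ (by push_cast; simp [ZMod.natCast_zmod_val]; ring)
  have hcj : ∀ i, ex i * a = a * (ex i)⁻¹ := fun i => by
    simp only [ex]
    have e : a * x ^ ((i.val : ℕ) : ℤ) * a⁻¹ = (x ^ ((i.val : ℕ) : ℤ))⁻¹ := by
      rw [← conj_zpow, hinv, inv_zpow]
    rw [← e, hai, ← mul_assoc, ← mul_assoc, haa, one_mul]
  let f : DihedralGroup n →* G := MonoidHom.mk'
    (fun g => match g with
      | .r i => ex i
      | .sr i => a * ex i) (by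
    rintro (i | i) (j | j)
    · exact hadd i j
    · show a * ex (j - i) = ex i * (a * ex j)
      rw [hsub, ← mul_assoc (ex i), hcj, mul_assoc]
    · show a * ex (i + j) = a * ex i * ex j
      rw [hadd, mul_assoc]
    · show ex (j - i) = a * ex i * (a * ex j)
      rw [hsub, show a * ex i * (a * ex j) = a * (ex i * a) * ex j by group, hcj, ← mul_assoc a a, haa, one_mul])
  have hex1 : ∀ i, ex i = 1 → i = 0 := fun i h => by
    have h' : (n : ℤ) ∣ (i.val : ℤ) := orderOf_dvd_iff_zpow_eq_one.2 h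
    rw [← ZMod.val_eq_zero]
    exact Nat.eq_zero_of_dvd_of_lt (Int.natCast_dvd_natCast.1 h') (ZMod.val_lt i)
  have hinj : Function.Injective f := by
    rw [injective_iff_map_eq_one]
    rintro (i | i) h
    · rw [hex1 i h]; rfl
    · exfalso
      have h' : a * ex i = 1 := h
      have hdvd : orderOf a ∣ orderOf x := by
        rw [mul_eq_one_iff_eq_inv] at h'
        rw [h', orderOf_inv]
        exact orderOf_dvd_iff_pow_eq_one.2 (by
          simp only [ex]; rw [← zpow_natCast, ← zpow_mul, mul_comm, zpow_mul, zpow_natCast, zpow_natCast, pow_orderOf_eq_one x, one_pow])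
      rw [ha] at hdvd
      exact (Nat.not_even_iff_odd.2 hodd) (even_iff_two_dvd.2 hdvd)
  have hrange : f.range = zpowers a ⊔ zpowers x := by
    apply le_antisymm
    · rintro _ ⟨(i | i), rfl⟩
      · exact mem_sup_right ⟨_, rfl⟩
      · exact mul_mem (mem_sup_left (mem_zpowers a)) (mem_sup_right ⟨_, rfl⟩)
    · refine sup_le (zpowers_le.2 ⟨.sr 0, ?_⟩) (zpowers_le.2 ⟨.r 1, ?_⟩)
      · show a * ex 0 = a
        simp [ex]
      · show ex 1 = x
        simp only [ex]
        rw [← zpow_one x, ← zpow_mul, one_mul]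
        exact hz _ _ (by push_cast; simp [ZMod.natCast_zmod_val])
  exact ⟨((MulEquiv.subgroupCongr hrange.symm).trans (MonoidHom.ofInjective hinj).symm)⟩

theorem main (L A : Subgroup G) (hLs : Group.IsSolvable ↥L) (hodd : Odd (Nat.card ↥L))
    (hA : Cfsg.IsElementaryAbelian 2 A) (d : ℕ) (hAd : Nat.card ↥A = 2 ^ d)
    (hAL : A ≤ normalizer (L : Set G)) (hfaith : A ⊓ centralizer (L : Set G) = ⊥) :
    ∃ (Ai : Fin d → Subgroup G) (Li : Fin d → Subgroup G) (n : Fin d → ℕ),
      (∀ i, Ai i ≤ A ∧ Nat.card ↥(Ai i) = 2 ∧ Li i ≤ L ∧ Odd (n i) ∧ 3 ≤ n i ∧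
        Nonempty (↥(Ai i ⊔ Li i) ≃* DihedralGroup (n i))) ∧
      (⨆ i, Ai i) = A ∧ ∀ i j, i ≠ j → ∀ x ∈ Ai i ⊔ Li i, ∀ y ∈ Ai j ⊔ Li j, x * y = y * x := by
  haveI : Fact (Nat.Prime 2) := ⟨Nat.prime_two⟩
  obtain ⟨m, x, b, h1, h2, hgen, hcard⟩ := exists_system L A hLs hodd hA hAL hfaith
  obtain rfl : m = d := Nat.pow_right_injective le_rfl (hcard.trans hAd)
  have hxodd : ∀ i, Odd (orderOf (x i)) := fun i =>
    hodd.of_dvd_nat (Subgroup.orderOf_dvd_natCard L (h1 i).1)
  have hb1 : ∀ i, b i ≠ 1 := by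
    intro i e
    have h := (h1 i).2.2.2
    rw [e, one_mul, inv_one, mul_one] at h
    exact (h1 i).2.1 (orderOf_eq_one_iff.1 (Nat.eq_one_of_dvd_coprimes (Nat.coprime_two_right.2 (hxodd i)) dvd_rfl
      (orderOf_dvd_of_pow_eq_one (by rw [pow_two]; nth_rw 2 [h]; rw [mul_inv_cancel]))))
  have hb2 : ∀ i, orderOf (b i) = 2 := fun i => orderOf_eq_prime (hA.2 _ (h1 i).2.2.1) (hb1 i)
  refine ⟨fun i => zpowers (b i), fun i => zpowers (x i), fun i => orderOf (x i), fun i => ?_, ?_, ?_⟩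
  · refine ⟨zpowers_le.2 (h1 i).2.2.1, by rw [Nat.card_zpowers, hb2], zpowers_le.2 (h1 i).1, hxodd i, ?_,
      dihedral (hb2 i) (h1 i).2.2.2 (hxodd i)⟩
    have hne : orderOf (x i) ≠ 1 := fun e => (h1 i).2.1 (orderOf_eq_one_iff.1 e)
    have hpos := orderOf_pos (x i)
    obtain ⟨l, hl⟩ := hxodd i
    show 3 ≤ orderOf (x i)
    omega
  · exact le_antisymm (iSup_le fun i => zpowers_le.2 (h1 i).2.2.1) hgen
  · intro i j hij g hg g' hg'
    have key : ∀ u v : G, u ∈ ({b i, x i} : Set G) → v ∈ ({b j, x j} : Set G) → Commute u v := by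
      rintro u v (rfl | rfl) (rfl | rfl)
      · exact comm hA (h1 i).2.2.1 (h1 j).2.2.1
      · exact (h2 i j hij).2
      · exact (h2 j i hij.symm).2.symm
      · exact (h2 i j hij).1
    have e1 : zpowers (b i) ⊔ zpowers (x i) ≤ centralizer ({b j, x j} : Set G) :=
      sup_le (zpowers_le.2 fun v hv => (key _ v (Or.inl rfl) hv).symm)
        (zpowers_le.2 fun v hv => (key _ v (Or.inr rfl) hv).symm)
    have e2 : zpowers (b j) ⊔ zpowers (x j) ≤ centralizer ({g} : Set G) :=
      sup_le (zpowers_le.2 (mem_centralizer_singleton_iff.2 (e1 hg (b j) (Or.inl rfl))))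
        (zpowers_le.2 (mem_centralizer_singleton_iff.2 (e1 hg (x j) (Or.inr rfl))))
    exact (mem_centralizer_singleton_iff.1 (e2 hg')).symm

end Cfsg.Agent.Inv.ThompsonDihedral
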