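import Cfsg.Agent.Lib.Inv.Dihedral
import Cfsg.Agent.Lib.Inv.CyclicSylow
import Cfsg.Agent.Lib.Inv.Conj
import Cfsg.Agent.Lib.Local.PGroup
import Mathlib.GroupTheory.Transfer
import Mathlib.RingTheory.Coprime.Lemmas
import Mathlib.Tactic.LinearCombination
import Mathlib.Tactic.IntervalCases
import Mathlib.RingTheory.Int.Basic
import Mathlib.Data.Fintype.Lattice
import Mathlib.Order.Preorder.Finite

/-!
# Groups in which commuting involutions are equal

Structure of 2-groups with a unique involution, and the group-theoretic facts needed for the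
Brauer–Suzuki theorem.
-/

set_option autoImplicit false

namespace Cfsg.Agent.Inv

variable {P : Type*} [Group P] [Finite P]

/-- An abelian 2-group with a unique involution is cyclic. -/
theorem isCyclic_of_comm_unique_involution (hP : IsPGroup 2 P) (hcomm : ∀ a b : P, Commute a b)
    (huniq : ∀ s t : P, orderOf s = 2 → orderOf t = 2 → s = t) : IsCyclic P := by
  haveI : Fact (Nat.Prime 2) := ⟨Nat.prime_two⟩
  obtain ⟨a, ha⟩ := Finite.exists_max (fun x : P => orderOf x)
  refine ⟨a, fun x => ?_⟩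
  by_contra hx
  -- an element outside with square inside
  obtain ⟨k, hk⟩ := hP x
  have hex : ∃ n, x ^ 2 ^ n ∈ Subgroup.zpowers a := ⟨k, by rw [hk]; exact one_mem _⟩
  classical
  obtain ⟨n, hn⟩ : ∃ n, Nat.find hex = n + 1 := by
    rcases h : Nat.find hex with _ | n
    · exact absurd (by
        have h' := Nat.find_spec hex
        rw [h] at h'
        simpa [Subgroup.mem_zpowers_iff] using h') hx
    · exact ⟨n, rfl⟩
  set b := x ^ 2 ^ n with hb
  have hbn : b ∉ Subgroup.zpowers a := Nat.find_min hex (by omega)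
  have hb2 : b ^ 2 ∈ Subgroup.zpowers a := by
    rw [hb, ← pow_mul, ← pow_succ, ← hn]; exact Nat.find_spec hex
  obtain ⟨j, hj⟩ := Subgroup.mem_zpowers_iff.1 hb2
  -- the exponent is even
  have ha1 : orderOf a ≠ 1 := by
    intro h
    have h1 := ha b
    have : orderOf b = 1 := le_antisymm (h ▸ h1) (orderOf_pos b)
    exact hbn (by rw [orderOf_eq_one_iff.1 this]; exact one_mem _)
  obtain ⟨e, he⟩ := (IsPGroup.iff_orderOf.1 hP) a
  have hje : Even j := by
    by_contra hodd
    rw [Int.not_even_iff_odd] at hodd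
    have hcop : IsCoprime ((orderOf a : ℕ) : ℤ) j := by
      rw [he]; push_cast
      exact IsCoprime.pow_left ((Nat.prime_iff_prime_int.1 Nat.prime_two).coprime_iff_not_dvd.2
        (Int.not_even_iff_odd.2 hodd ∘ even_iff_two_dvd.2))
    obtain ⟨u, v, huv⟩ := hcop
    have haeq : a = (b ^ 2) ^ v := by
      rw [← hj, ← zpow_mul, show j * v = 1 - u * (orderOf a : ℤ) by linarith, zpow_sub, zpow_one,
        mul_comm u, zpow_mul, zpow_natCast, pow_orderOf_eq_one, one_zpow, inv_one, mul_one]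
    have h1 : orderOf a ∣ orderOf (b ^ 2) := by
      rw [haeq]; exact orderOf_dvd_of_mem_zpowers (Subgroup.mem_zpowers_iff.2 ⟨v, rfl⟩)
    have hbeven : 2 ∣ orderOf b := by
      obtain ⟨f, hf⟩ := (IsPGroup.iff_orderOf.1 hP) b
      rcases f with _ | f
      · have h0 : b = 1 := orderOf_eq_one_iff.1 (by simpa using hf)
        exact absurd (h0 ▸ one_mem _) hbn
      · exact ⟨2 ^ f, by rw [hf, pow_succ']⟩
    rw [orderOf_pow' _ two_ne_zero, Nat.gcd_eq_right hbeven] at h1
    have := Nat.le_of_dvd (Nat.div_pos (Nat.le_of_dvd (orderOf_pos b) hbeven) two_pos) h1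
    have := Nat.div_lt_self (orderOf_pos b) one_lt_two
    have := ha b
    omega
  obtain ⟨i, rfl⟩ := hje
  set c := b * (a ^ i)⁻¹
  have hc : c ^ 2 = 1 := by
    rw [(hcomm b _).mul_pow, inv_pow, ← hj, zpow_add, pow_two, mul_inv_cancel]
  have hcn : c ∉ Subgroup.zpowers a := fun h => hbn (by
    simpa [c] using mul_mem h (Subgroup.mem_zpowers_iff.2 ⟨i, rfl⟩))
  have hc1 : c ≠ 1 := fun h => hcn (h ▸ one_mem _)
  have hc2 : orderOf c = 2 := orderOf_eq_two_of_mul_self (by rwa [pow_two] at hc) hc1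
  have heven : 2 ∣ orderOf a := by
    rcases e with _ | e
    · exact absurd (by simpa using he) ha1
    · exact ⟨2 ^ e, by rw [he, pow_succ']⟩
  have h2 : orderOf (a ^ (orderOf a / 2)) = 2 := by
    rw [orderOf_pow_of_dvd (Nat.div_pos (Nat.le_of_dvd (orderOf_pos a) heven) two_pos).ne'
      (Nat.div_dvd_of_dvd heven), Nat.div_div_self heven (orderOf_pos a).ne']
  exact hcn (huniq _ _ h2 hc2 ▸ Subgroup.pow_mem _ (Subgroup.mem_zpowers a) _)

theorem conj_zpow_eq {G : Type*} [Group G] {g a : G} {r : ℤ} (h : g * a * g⁻¹ = a ^ r) (n : ℤ) :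
    g * a ^ n * g⁻¹ = a ^ (r * n) := by
  rw [← conj_zpow, h, zpow_mul]

theorem odd_of_not_even_int {r : ℤ} (h : ¬ Even r) : (∃ k, r = 4 * k + 1) ∨ ∃ k, r = 4 * k + 3 := by
  rw [Int.not_even_iff_odd] at h
  obtain ⟨k, rfl⟩ := h
  rcases Int.even_or_odd k with ⟨l, rfl⟩ | ⟨l, rfl⟩
  · exact Or.inl ⟨l, by ring⟩
  · exact Or.inr ⟨l, by ring⟩

/-- Structure of a noncyclic 2-group with a unique involution: a cyclic subgroup of index 2, all
outside elements inverting it and having order 4. -/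
theorem exists_cyclic_index_two (hP : IsPGroup 2 P)
    (huniq : ∀ s t : P, orderOf s = 2 → orderOf t = 2 → s = t) (hnc : ¬ IsCyclic P) :
    ∃ a : P, 4 ≤ orderOf a ∧ (Subgroup.zpowers a).index = 2 ∧
      ∀ g : P, g ∉ Subgroup.zpowers a → g * a * g⁻¹ = a⁻¹ ∧ orderOf g = 4 := by
  classical
  haveI : Fact (Nat.Prime 2) := ⟨Nat.prime_two⟩
  obtain ⟨A, hA⟩ := Set.Finite.exists_maximal (Set.toFinite {A : Subgroup P | A.Normal ∧
      ∀ x ∈ A, ∀ y ∈ A, Commute x y}) ⟨⊥, inferInstance, fun x hx y _ => by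
      rw [Subgroup.mem_bot.1 hx]; exact Commute.one_left y⟩
  obtain ⟨⟨hAn, hAc⟩, hAmax⟩ := hA
  haveI := hAn
  have hCA : Subgroup.centralizer (A : Set P) ≤ A := by
    by_contra hle
    set C := Subgroup.centralizer (A : Set P) with hC
    haveI : (C.map (QuotientGroup.mk' A)).Normal :=
      Subgroup.Normal.map inferInstance _ (QuotientGroup.mk'_surjective A)
    have hne : C.map (QuotientGroup.mk' A) ≠ ⊥ := by
      rw [Ne, Subgroup.map_eq_bot_iff, QuotientGroup.ker_mk']; exact hle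
    have h := Cfsg.Agent.Local.inf_center_ne_bot (hP.to_quotient A) _ hne
    obtain ⟨q, hq, hq1⟩ := (Subgroup.ne_bot_iff_exists_ne_one).1 h |>.imp (fun q => id) |>
      fun ⟨q, hq⟩ => (⟨q.1, q.2, fun h => hq (Subtype.ext h)⟩ :
        ∃ q, q ∈ C.map (QuotientGroup.mk' A) ⊓ Subgroup.center (P ⧸ A) ∧ q ≠ 1)
    obtain ⟨c, hc, rfl⟩ := Subgroup.mem_map.1 hq.1
    have hcA : c ∉ A := fun h => hq1 ((QuotientGroup.eq_one_iff c).2 h)
    have hcc : ∀ g : P, g * c * g⁻¹ * c⁻¹ ∈ A := fun g => by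
      have := Subgroup.mem_center_iff.1 hq.2 (QuotientGroup.mk' A g)
      rw [← QuotientGroup.eq_one_iff, QuotientGroup.mk_mul, QuotientGroup.mk_mul,
        QuotientGroup.mk_mul, QuotientGroup.mk_inv, QuotientGroup.mk_inv]
      simp only [QuotientGroup.mk'_apply] at this
      rw [this, mul_inv_cancel_right, mul_inv_cancel]
    set A' := A ⊔ Subgroup.zpowers c with hA'
    have hA'c : ∀ x ∈ A', ∀ y ∈ A', Commute x y := by
      have hle' : A' ≤ Subgroup.centralizer ((A : Set P) ∪ {c}) := by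
        refine sup_le (fun x hx => ?_) (Subgroup.zpowers_le.2 ?_)
        · rintro y (hy | hy)
          · exact hAc y hy x hx
          · rw [Set.mem_singleton_iff.1 hy]; exact (hc x hx).symm
        · rintro y (hy | hy)
          · exact hc y hy
          · rw [Set.mem_singleton_iff.1 hy]
      intro x hx y hy
      have hy' : A' ≤ Subgroup.centralizer ({x} : Set P) := by
        refine sup_le (fun w hw => ?_) (Subgroup.zpowers_le.2 ?_)
        · exact Subgroup.mem_centralizer_singleton_iff.2 ((hle' hx) w (Or.inl hw))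
        · exact Subgroup.mem_centralizer_singleton_iff.2 ((hle' hx) c (Or.inr rfl))
      exact (Subgroup.mem_centralizer_singleton_iff.1 (hy' hy)).symm
    have hA'n : A'.Normal := by
      refine ⟨fun x hx g => ?_⟩
      have : A' ≤ A'.comap (MulAut.conj g).toMonoidHom := by
        refine sup_le (fun w hw => ?_) (Subgroup.zpowers_le.2 ?_)
        · exact Subgroup.mem_sup_left (hAn.conj_mem w hw g)
        · show g * c * g⁻¹ ∈ A'
          have h1 := A'.mul_mem (Subgroup.mem_sup_left (hcc g))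
            (Subgroup.mem_sup_right (Subgroup.mem_zpowers c) : c ∈ A')
          simpa using h1
      exact this hx
    exact hcA (hAmax ⟨hA'n, hA'c⟩ le_sup_left (Subgroup.mem_sup_right (Subgroup.mem_zpowers c)))
  haveI hAcyc : IsCyclic A := isCyclic_of_comm_unique_involution (hP.to_subgroup A)
    (fun x y => Subtype.ext (hAc x x.2 y y.2))
    (fun s t hs ht => Subtype.ext (huniq s t (by rwa [Subgroup.orderOf_coe])
      (by rwa [Subgroup.orderOf_coe])))
  obtain ⟨⟨a, haA⟩, hgen⟩ := hAcyc.exists_generator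
  have hAa : A = Subgroup.zpowers a := le_antisymm (fun x hx => by
    obtain ⟨n, hn⟩ := Subgroup.mem_zpowers_iff.1 (hgen ⟨x, hx⟩)
    exact Subgroup.mem_zpowers_iff.2 ⟨n, congrArg Subtype.val hn⟩) (Subgroup.zpowers_le.2 haA)
  subst hAa
  have hcen : ∀ g : P, g * a * g⁻¹ = a → g ∈ Subgroup.zpowers a := fun g hg => hCA (fun x hx => by
    obtain ⟨n, rfl⟩ := Subgroup.mem_zpowers_iff.1 hx
    exact ((Commute.zpow_right (show Commute g a from mul_inv_eq_iff_eq_mul.1 hg) n).symm))
  obtain ⟨m, hm⟩ := (IsPGroup.iff_orderOf.1 hP) a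
  -- order at least 4
  have hm2 : 2 ≤ m := by
    by_contra hlt
    refine hnc ⟨a, fun g => hcen g ?_⟩
    obtain ⟨r, hr⟩ := Subgroup.mem_zpowers_iff.1 (hAn.conj_mem a (Subgroup.mem_zpowers a) g)
    interval_cases m
    · have ha0 : a = 1 := orderOf_eq_one_iff.1 (by simpa using hm)
      rw [ha0]; simp
    · have ha2 : orderOf a = 2 := by simpa using hm
      exact huniq _ _ ((orderOf_conj g a).trans ha2) ha2
  obtain ⟨d, hd, hd2⟩ : ∃ d : ℤ, ((orderOf a : ℕ) : ℤ) = 2 * d ∧ Even d := by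
    obtain ⟨l, rfl⟩ := Nat.exists_eq_add_of_le hm2
    exact ⟨(2 : ℤ) ^ (l + 1), by rw [hm]; push_cast; ring, ⟨2 ^ l, by ring⟩⟩
  have hdvd : ∀ n : ℤ, a ^ n = 1 ↔ 2 * d ∣ n := fun n => by
    rw [← hd, orderOf_dvd_iff_zpow_eq_one]
  -- elements whose square is in `A` invert `A`
  have step : ∀ g : P, g ∉ Subgroup.zpowers a → g * g ∈ Subgroup.zpowers a →
      g * a * g⁻¹ = a⁻¹ ∧ orderOf g = 4 := by
    intro g hg hgg
    obtain ⟨r, hr⟩ := Subgroup.mem_zpowers_iff.1 (hAn.conj_mem a (Subgroup.mem_zpowers a) g)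
    obtain ⟨s, hs⟩ := Subgroup.mem_zpowers_iff.1 hgg
    have hconj := conj_zpow_eq hr.symm
    have hrr : 2 * d ∣ r * r - 1 := by
      rw [← hdvd, zpow_sub, zpow_one, ← hconj, hr]
      rw [show g * (g * a * g⁻¹) * g⁻¹ = (g * g) * a * (g * g)⁻¹ by group, ← hs]
      group
    have hsr : 2 * d ∣ s * (r - 1) := by
      rw [← hdvd, mul_sub, mul_one, mul_comm s r, zpow_sub, ← hconj, hs]
      group
    have hno : ∀ i : ℤ, ¬ 2 * d ∣ s + i * (r + 1) := by
      intro i hi
      have hga : (g * a ^ i) * (g * a ^ i) = 1 := by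
        have e2 : g * g * (g⁻¹ * a ^ i * g) * a ^ i = a ^ (s + r * i + i) := by
          have e3 : g⁻¹ * a ^ i * g = a ^ (r * i) := by
            rw [← hconj i]
            have hcomm : g * g * a ^ i = a ^ i * (g * g) := by
              rw [← hs, ← zpow_add, ← zpow_add, add_comm]
            calc g⁻¹ * a ^ i * g = g⁻¹ * (a ^ i * (g * g)) * g⁻¹ := by group
              _ = g⁻¹ * (g * g * a ^ i) * g⁻¹ := by rw [hcomm]
              _ = g * a ^ i * g⁻¹ := by group
          rw [e3, ← hs, ← zpow_add, ← zpow_add]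
        rw [show (g * a ^ i) * (g * a ^ i) = g * g * (g⁻¹ * a ^ i * g) * a ^ i by group, e2, hdvd,
          show s + r * i + i = s + i * (r + 1) by ring]
        exact hi
      have hn1 : g * a ^ i ≠ 1 := fun h => hg (by
        rw [eq_inv_of_mul_eq_one_left h]; exact inv_mem (Subgroup.mem_zpowers_iff.2 ⟨i, rfl⟩))
      have ho2 := orderOf_eq_two_of_mul_self hga hn1
      have heven : 2 ∣ orderOf a := by rw [hm]; exact dvd_pow_self 2 (by omega)
      have hz : orderOf (a ^ (orderOf a / 2)) = 2 := by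
        rw [orderOf_pow_of_dvd (Nat.div_pos (Nat.le_of_dvd (orderOf_pos a) heven) two_pos).ne'
          (Nat.div_dvd_of_dvd heven), Nat.div_div_self heven (orderOf_pos a).ne']
      have hmem : g * a ^ i ∈ Subgroup.zpowers a :=
        huniq _ _ hz ho2 ▸ Subgroup.pow_mem _ (Subgroup.mem_zpowers a) _
      exact hg (by simpa using mul_mem hmem (inv_mem (Subgroup.mem_zpowers_iff.2 ⟨i, rfl⟩)))
    have hrodd : ¬ Even r := by
      rintro ⟨k, rfl⟩
      obtain ⟨c, hc⟩ := hrr
      have : (2 : ℤ) ∣ 1 := ⟨(k + k) * k - d * c, by linarith⟩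
      norm_num at this
    have hcop : ∀ k : ℤ, IsCoprime d (2 * k + 1) := fun k => by
      have e1 : d = (2 : ℤ) ^ (m - 1) := by
        have : (2 : ℤ) * d = 2 * 2 ^ (m - 1) := by
          rw [← pow_succ', Nat.sub_add_cancel (by omega), ← hd, hm]; push_cast; ring
        linarith
      rw [e1]
      exact IsCoprime.pow_left ⟨-k, 1, by ring⟩
    rcases odd_of_not_even_int hrodd with ⟨k, hk⟩ | ⟨k, hk⟩
    · exfalso
      have hdr : d ∣ r - 1 := by
        have : 2 * d ∣ 2 * ((r - 1) * (2 * k + 1)) := by convert hrr using 1; rw [hk]; ring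
        exact (hcop k).dvd_of_dvd_mul_right (Int.dvd_of_mul_dvd_mul_left two_ne_zero this)
      obtain ⟨c, hc⟩ := hdr
      rcases Int.even_or_odd c with ⟨c', rfl⟩ | hcodd
      · refine hg (hcen g ?_)
        have : a ^ (r - 1) = 1 := (hdvd _).2 ⟨c', by rw [hc]; ring⟩
        rw [zpow_sub, zpow_one, mul_inv_eq_one] at this
        rw [← hr]; exact this
      · obtain ⟨c', rfl⟩ := hcodd
        have hse : Even s := by
          by_contra hsodd
          obtain ⟨s', rfl⟩ := Int.not_even_iff_odd.1 hsodd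
          obtain ⟨e, he⟩ := hsr
          have hd0 : d ≠ 0 := fun h => by
            rw [h, mul_zero] at hd
            exact (orderOf_pos a).ne' (by exact_mod_cast hd)
          have : (2 * s' + 1) * (2 * c' + 1) = 2 * e :=
            mul_left_cancel₀ hd0 (by rw [hc] at he; linarith)
          have : (2 : ℤ) ∣ 1 := ⟨e - (2 * s' * c' + s' + c'), by linarith⟩
          norm_num at this
        obtain ⟨s', rfl⟩ := hse
        obtain ⟨x, y, hxy⟩ := hcop k
        refine hno (-s' * y) ⟨s' * x, ?_⟩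
        rw [hk]
        linear_combination 2 * s' * hxy.symm
    · have hu : r - 1 = 2 * (2 * k + 1) := by rw [hk]; ring
      have hd1 : d ∣ r + 1 := by
        have : 2 * d ∣ 2 * ((r + 1) * (2 * k + 1)) := by convert hrr using 1; rw [hk]; ring
        exact (hcop k).dvd_of_dvd_mul_right (Int.dvd_of_mul_dvd_mul_left two_ne_zero this)
      have hds : d ∣ s := by
        have : 2 * d ∣ 2 * (s * (2 * k + 1)) := by convert hsr using 1; rw [hu]; ring
        exact (hcop k).dvd_of_dvd_mul_right (Int.dvd_of_mul_dvd_mul_left two_ne_zero this)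
      obtain ⟨t, rfl⟩ := hds
      obtain ⟨c, hc⟩ := hd1
      rcases Int.even_or_odd t with ⟨t', rfl⟩ | ⟨t', rfl⟩
      · exact absurd (hno 0) (not_not.2 ⟨t', by ring⟩)
      rcases Int.even_or_odd c with ⟨c', rfl⟩ | ⟨c', rfl⟩
      · have hinv : g * a * g⁻¹ = a⁻¹ := by
          have : a ^ (r + 1) = 1 := (hdvd _).2 ⟨c', by rw [hc]; ring⟩
          rw [zpow_add, zpow_one] at this
          rw [← hr]; exact eq_inv_of_mul_eq_one_left this
        refine ⟨hinv, ?_⟩
        have h4 : g ^ 2 ^ (1 + 1) = 1 := by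
          rw [show (2 : ℕ) ^ (1 + 1) = 2 + 2 from rfl, pow_add, pow_two, ← hs, ← zpow_add, hdvd]
          exact ⟨2 * t' + 1, by ring⟩
        have h2 : ¬ g ^ 2 ^ 1 = 1 := by
          rw [pow_one, pow_two, ← hs, hdvd]
          rintro ⟨e, he⟩
          have hd0 : d ≠ 0 := fun h => by
            rw [h, mul_zero] at hd
            exact (orderOf_pos a).ne' (by exact_mod_cast hd)
          have : 2 * t' + 1 = 2 * e := mul_left_cancel₀ hd0 (by linarith)
          omega
        simpa using orderOf_eq_prime_pow h2 h4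
      · exfalso
        exact hno 1 ⟨t' + c' + 1, by rw [hc]; ring⟩
  have hall : ∀ g : P, g ∉ Subgroup.zpowers a → g * a * g⁻¹ = a⁻¹ ∧ orderOf g = 4 := by
    intro g hg
    obtain ⟨k, hk⟩ := hP g
    have hex : ∃ n, g ^ 2 ^ n ∈ Subgroup.zpowers a := ⟨k, by rw [hk]; exact one_mem _⟩
    obtain ⟨n, hn⟩ : ∃ n, Nat.find hex = n + 1 := by
      rcases h : Nat.find hex with _ | n
      · exact absurd (by
          have h' := Nat.find_spec hex
          rw [h] at h'
          simpa using h') hg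
      · exact ⟨n, rfl⟩
    have h1 : g ^ 2 ^ n ∉ Subgroup.zpowers a := Nat.find_min hex (by omega)
    have h2 : g ^ 2 ^ n * g ^ 2 ^ n ∈ Subgroup.zpowers a := by
      rw [← pow_add, ← two_mul, ← pow_succ', ← hn]; exact Nat.find_spec hex
    obtain ⟨hinv, ho⟩ := step _ h1 h2
    rcases n with _ | n
    · simpa using And.intro hinv ho
    · exfalso
      obtain ⟨r, hr⟩ := Subgroup.mem_zpowers_iff.1
        (hAn.conj_mem a (Subgroup.mem_zpowers a) (g ^ 2 ^ n))
      have e : g ^ 2 ^ (n + 1) * a * (g ^ 2 ^ (n + 1))⁻¹ = a ^ (r * r) := by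
        rw [pow_succ, mul_comm, pow_mul', pow_two, mul_inv_rev, ← conj_zpow_eq hr.symm, hr]; group
      rw [e] at hinv
      have : 2 * d ∣ r * r + 1 := by
        rw [← hdvd, zpow_add, zpow_one, hinv, inv_mul_cancel]
      obtain ⟨d', rfl⟩ := hd2
      obtain ⟨c, hc⟩ := this
      rcases Int.even_or_odd r with ⟨q, rfl⟩ | ⟨q, rfl⟩
      · have : (2 : ℤ) ∣ 1 := ⟨2 * d' * c - 2 * q * q, by linarith⟩
        norm_num at this
      · have : (4 : ℤ) ∣ 2 := ⟨d' * c - q * q - q, by linarith⟩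
        norm_num at this
  refine ⟨a, by rw [hm]; exact Nat.pow_le_pow_right two_pos hm2, ?_, hall⟩
  obtain ⟨y, hy⟩ : ∃ y : P, y ∉ Subgroup.zpowers a := by
    by_contra! h
    exact hnc ⟨a, h⟩
  rw [Subgroup.index_eq_two_iff]
  refine ⟨y, fun b => ?_⟩
  by_cases hb : b ∈ Subgroup.zpowers a
  · exact Or.inr ⟨hb, fun h => hy (by simpa using mul_mem (inv_mem hb) h)⟩
  · refine Or.inl ⟨hcen _ ?_, hb⟩
    rw [show b * y * a * (b * y)⁻¹ = b * (y * a * y⁻¹) * b⁻¹ by group, (hall y hy).1,
      ← inv_inj, ← conj_inv, inv_inv, (hall b hb).1]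

end Cfsg.Agent.Inv
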