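import Cfsg.Prelude.Def_Transfer
import Mathlib.GroupTheory.Sylow
import Mathlib.Tactic.Group

/-!
# Weakly closed subgroups of a Sylow subgroup
-/

namespace Cfsg.Agent.Inv

variable {G : Type*} [Group G] [Finite G] {p : ℕ} [Fact p.Prime]

/-- Conjugates of a weakly closed subgroup lying in a common `p`-subgroup coincide. -/
theorem weaklyClosed_conj_eq {T : Sylow p G} {W : Subgroup G}
    (hW : Cfsg.IsWeaklyClosed W (T : Subgroup G)) {P : Subgroup G} (hP : IsPGroup p P) {g h : G}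
    (hg : W.map (MulAut.conj g).toMonoidHom ≤ P) (hh : W.map (MulAut.conj h).toMonoidHom ≤ P) :
    W.map (MulAut.conj g).toMonoidHom = W.map (MulAut.conj h).toMonoidHom := by
  obtain ⟨Q, hQ⟩ := hP.exists_le_sylow
  obtain ⟨c, hc⟩ := MulAction.exists_smul_eq G Q T
  have hcomp : ∀ a b : G, (W.map (MulAut.conj b).toMonoidHom).map (MulAut.conj a).toMonoidHom =
      W.map (MulAut.conj (a * b)).toMonoidHom := by
    intro a b
    rw [Subgroup.map_map]
    congr 1
    ext x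
    simp [mul_assoc]
  have key : ∀ k, W.map (MulAut.conj k).toMonoidHom ≤ P →
      W.map (MulAut.conj (c * k)).toMonoidHom = W := by
    intro k hk
    refine hW.2 _ ?_
    rw [← hcomp]
    rintro _ ⟨x, hx, rfl⟩
    exact hc ▸ ⟨x, hQ (hk hx), rfl⟩
  exact Subgroup.map_injective (f := (MulAut.conj c).toMonoidHom) (MulAut.conj c).injective
    (by rw [hcomp, hcomp, key g hg, key h hh])

/-- The normalizer of a weakly closed subgroup controls fusion of subgroups containing it. -/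
theorem weaklyClosed_exists_mul_mem_normalizer {T : Sylow p G} {W : Subgroup G}
    (hW : Cfsg.IsWeaklyClosed W (T : Subgroup G)) (K : Subgroup G) (hK : W ≤ K) (g : G)
    (hg : ∀ w ∈ W, g⁻¹ * w * g ∈ K) :
    ∃ k ∈ K, g * k ∈ Subgroup.normalizer (W : Set G) := by
  have hWp : IsPGroup p W := T.isPGroup'.to_le hW.1
  have hW' : IsPGroup p ↥(W.map (MulAut.conj g⁻¹).toMonoidHom) := hWp.map _
  have hW'K : W.map (MulAut.conj g⁻¹).toMonoidHom ≤ K := by
    rintro _ ⟨w, hw, rfl⟩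
    simpa using hg w hw
  obtain ⟨Q, hQ⟩ := (hWp.comap_of_injective K.subtype K.subtype_injective).exists_le_sylow
  obtain ⟨R, hR⟩ := (hW'.comap_of_injective K.subtype K.subtype_injective).exists_le_sylow
  obtain ⟨k, hk⟩ := MulAction.exists_smul_eq K R Q
  have h1 : W.map (MulAut.conj ((k : G) * g⁻¹)).toMonoidHom ≤
      (Q : Subgroup K).map K.subtype := by
    rintro _ ⟨w, hw, rfl⟩
    have hK' : g⁻¹ * w * g ∈ K := hg w hw
    have hR' : (⟨g⁻¹ * w * g, hK'⟩ : K) ∈ (R : Subgroup K) := by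
      refine hR ?_
      rw [Subgroup.mem_comap]
      exact ⟨w, hw, by simp⟩
    refine ⟨k * ⟨g⁻¹ * w * g, hK'⟩ * k⁻¹, hk ▸ ⟨_, hR', rfl⟩, ?_⟩
    simp [mul_assoc]
  have h2 : W.map (MulAut.conj (1 : G)).toMonoidHom ≤ (Q : Subgroup K).map K.subtype := by
    rintro _ ⟨w, hw, rfl⟩
    exact ⟨⟨w, hK hw⟩, hQ hw, by simp⟩
  have e := weaklyClosed_conj_eq hW (Q.isPGroup'.map K.subtype) h1 h2
  have e1 : W.map (MulAut.conj (1 : G)).toMonoidHom = W := by
    ext x; simp [Subgroup.mem_map]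
  rw [e1] at e
  refine ⟨(k : G)⁻¹, inv_mem k.2, ?_⟩
  have hn : (k : G) * g⁻¹ ∈ Subgroup.normalizer (W : Set G) := by
    refine Subgroup.mem_normalizer_iff.2 fun x => ⟨fun hx => e ▸ ⟨x, hx, rfl⟩, fun hx => ?_⟩
    rw [← e] at hx
    obtain ⟨y, hy, hxy⟩ := hx
    exact (MulAut.conj ((k : G) * g⁻¹)).injective hxy ▸ hy
  simpa using inv_mem hn

end Cfsg.Agent.Inv
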