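import Cfsg.Agent.Lib.Inv.ZStar
import Mathlib.GroupTheory.SpecificGroups.KleinFour
import Mathlib.GroupTheory.SpecificGroups.Quaternion

/-!
# Consequences of the theorem on isolated involutions
-/

set_option autoImplicit false

open Cfsg

namespace Cfsg.Agent.Inv

variable {G : Type*} [Group G]

/-- Two distinct commuting involutions lie in a Klein four-subgroup. -/
theorem exists_klein {s t : G} (hs : orderOf s = 2) (ht : orderOf t = 2) (hc : Commute s t)
    (hne : s ≠ t) : ∃ E : Subgroup G, IsKleinFour E ∧ s ∈ E ∧ t ∈ E := by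
  classical
  have hss := mul_self_of_orderOf_two hs
  have htt := mul_self_of_orderOf_two ht
  have hts : t * s = s * t := hc.eq.symm
  have hst1 : s * t ≠ 1 := fun h => hne (by
    rw [eq_inv_of_mul_eq_one_left h, inv_eq_self_of_orderOf_two ht])
  let E : Subgroup G :=
    { carrier := {1, s, t, s * t}
      one_mem' := by simp
      mul_mem' := by
        have h1 : s * (s * t) = t := by rw [← mul_assoc, hss, one_mul]
        have h2 : t * (s * t) = s := by rw [← mul_assoc, hts, mul_assoc, htt, mul_one]
        have h3 : s * t * s = t := by rw [mul_assoc, hts, h1]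
        have h4 : s * t * t = s := by rw [mul_assoc, htt, mul_one]
        have h5 : s * t * (s * t) = 1 := by rw [← mul_assoc, h3, htt]
        intro a b ha hb
        simp only [Set.mem_insert_iff, Set.mem_singleton_iff] at ha hb ⊢
        rcases ha with rfl | rfl | rfl | rfl <;> rcases hb with rfl | rfl | rfl | rfl <;>
          simp [hss, htt, hts, h1, h2, h3, h4, h5]
      inv_mem' := by
        intro a ha
        simp only [Set.mem_insert_iff, Set.mem_singleton_iff] at ha ⊢
        rcases ha with rfl | rfl | rfl | rfl <;>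
          simp [inv_eq_self_of_orderOf_two hs, inv_eq_self_of_orderOf_two ht, hts] }
  refine ⟨E, ?_, show s ∈ ({1, s, t, s * t} : Set G) by simp,
    show t ∈ ({1, s, t, s * t} : Set G) by simp⟩
  have hsub : ∀ a : E, (a : G) = 1 ∨ (a : G) = s ∨ (a : G) = t ∨ (a : G) = s * t := fun a => by
    have := a.2
    change (a : G) ∈ ({1, s, t, s * t} : Set G) at this
    exact this
  have hsq : ∀ a : E, a ^ 2 = 1 := fun a => Subtype.ext (by
    rw [SubgroupClass.coe_pow, pow_two]
    rcases hsub a with h | h | h | h <;>
      simp [h, hss, htt, hc.symm.mul_mul_mul_comm])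
  refine { card_four := ?_, exponent_two := ?_ }
  · show Nat.card ({1, s, t, s * t} : Set G) = 4
    rw [Nat.card_coe_set_eq, Set.ncard_insert_of_notMem, Set.ncard_insert_of_notMem,
      Set.ncard_pair]
    · intro h; exact ne_one_of_orderOf_two hs (mul_eq_right.1 h.symm)
    · simp [hne, ne_one_of_orderOf_two ht]
    · simp [ne_one_of_orderOf_two hs |>.symm, ne_one_of_orderOf_two ht |>.symm, hst1.symm]
  · refine Nat.dvd_antisymm (Monoid.exponent_dvd_of_forall_pow_eq_one hsq) ?_
    have := Monoid.order_dvd_exponent (⟨s, show s ∈ ({1, s, t, s * t} : Set G) by simp⟩ : E)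
    rwa [← Subgroup.orderOf_coe, hs] at this

theorem twoRankOne_of_no_klein (h : ∀ E : Subgroup G, ¬ IsKleinFour E) : TwoRankOne G :=
  fun _ _ hs ht hc => by_contra fun hne => by
    obtain ⟨E, hE, -⟩ := exists_klein hs ht hc hne
    exact h E hE

theorem TwoRankOne.isolated (h : TwoRankOne G) {z : G} (hz : orderOf z = 2) :
    IsIsolatedInvolution z :=
  ⟨hz, fun g hg => (h _ _ hz ((orderOf_conj g z).trans hz) hg).symm⟩

/-- Involutions of a generalized quaternion group are equal. -/
theorem quaternion_involution_unique {n : ℕ} [NeZero n] {x : QuaternionGroup n}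
    (hx : orderOf x = 2) : x = QuaternionGroup.a (n : ZMod (2 * n)) := by
  cases x with
  | a i =>
    congr 1
    rw [orderOf_eq_iff two_pos] at hx
    obtain ⟨h2, h1⟩ := hx
    have hi : i + i = 0 := by
      rw [pow_two, QuaternionGroup.a_mul_a] at h2
      exact QuaternionGroup.a.inj h2
    have hi0 : i ≠ 0 := fun h => h1 1 one_lt_two one_pos (by rw [h, pow_one]; rfl)
    haveI : NeZero (2 * n) := ⟨by have := NeZero.ne n; omega⟩
    have hv : (i.val + i.val) % (2 * n) = 0 := by rw [← ZMod.val_add, hi, ZMod.val_zero]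
    have hlt := ZMod.val_lt i
    have hne : i.val ≠ 0 := fun h => hi0 ((ZMod.val_eq_zero i).1 h)
    obtain ⟨c, hc⟩ := Nat.dvd_of_mod_eq_zero hv
    rcases c with _ | _ | c
    · omega
    · rw [← ZMod.natCast_zmod_val i]; congr 1; omega
    · nlinarith
  | xa i =>
    rw [QuaternionGroup.orderOf_xa] at hx
    omega

end Cfsg.Agent.Inv
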