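import Cfsg.Agent.Lib.Inv.ZStar
import Cfsg.Agent.Lib.Inv.SylowIn

/-!
# The isolated element theorem for arbitrary 2-elements
-/

set_option autoImplicit false

open Cfsg

namespace Cfsg.Agent.Inv

universe u

variable {G : Type u} [Group G] [Finite G]

/-- If the core of odd order is trivial, an element whose image modulo a central subgroup of
order 2 lies in the core of odd order of the quotient lies in that subgroup. -/
theorem comap_oddCore_quotient_two (hcore : oddCore G = ⊥) (Z : Subgroup G) [Z.Normal]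
    (hZ : Nat.card Z = 2) : (oddCore (G ⧸ Z)).comap (QuotientGroup.mk' Z) = Z := by
  haveI : Fact (Nat.Prime 2) := ⟨Nat.prime_two⟩
  set N := (oddCore (G ⧸ Z)).comap (QuotientGroup.mk' Z) with hN
  haveI hNn : N.Normal := (inferInstance : (oddCore (G ⧸ Z)).Normal).comap _
  have hcard : Nat.card N = 2 * Nat.card (oddCore (G ⧸ Z)) := by
    rw [hN, Solv.card_comap_mk', hZ]
  have hodd : Odd (Nat.card (oddCore (G ⧸ Z))) := Local.oddCore_card_odd
  obtain ⟨T⟩ := (inferInstance : Nonempty (Sylow 2 N))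
  have hT : Nat.card (T : Subgroup N) = 2 := by
    obtain ⟨k, hk⟩ := T.isPGroup'.exists_card_eq
    have hd : Nat.card (T : Subgroup N) ∣ Nat.card N := Subgroup.card_subgroup_dvd_card _
    have h2 : 2 ∣ Nat.card (T : Subgroup N) := T.dvd_card_of_dvd_card ⟨_, hcard⟩
    rw [hk, hcard] at hd
    have h3 : 2 ^ k ∣ 2 :=
      (Nat.Coprime.pow_left k (Nat.coprime_two_left.2 hodd)).dvd_of_dvd_mul_right hd
    exact Nat.dvd_antisymm (hk ▸ h3) h2
  obtain ⟨H, hH⟩ := exists_index_two_of_cyclic_sylow (even_iff_two_dvd.2 ⟨_, hcard⟩) T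
    (isCyclic_of_prime_card hT)
  haveI := Subgroup.normal_of_index_eq_two hH
  have hHodd : Odd (Nat.card H) := by
    have := H.card_mul_index
    rw [hH, hcard, mul_comm] at this
    rwa [Nat.eq_of_mul_eq_mul_left two_pos this]
  have hHbot : H = ⊥ := by
    rw [← Subgroup.map_eq_bot_iff_of_injective H Subtype.val_injective (f := N.subtype)]
    refine eq_bot_iff.2 ((Subgroup.map_mono (Solv.le_pPrimeCore (Nat.coprime_two_right.2 hHodd))).trans ?_)
    rw [Solv.pPrimeCore_map_subtype]
    exact le_of_le_of_eq inf_le_left hcore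
  rw [hHbot, Subgroup.index_bot] at hH
  refine (Subgroup.eq_of_le_of_card_ge ?_ (by rw [hH, hZ])).symm
  intro x hx
  rw [hN, Subgroup.mem_comap, QuotientGroup.mk'_apply, (QuotientGroup.eq_one_iff x).2 hx]
  exact one_mem _

/-- An element of a Sylow subgroup with no other conjugate in it is central there. -/
theorem isolatedElt_central {S : Sylow 2 G} {z : G} (hz : z ∈ S)
    (hiso : ∀ g : G, g * z * g⁻¹ ∈ S → g * z * g⁻¹ = z) :
    (S : Subgroup G) ≤ Subgroup.centralizer ({z} : Set G) := fun s hs =>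
  Subgroup.mem_centralizer_singleton_iff.2
    (mul_inv_eq_iff_eq_mul.1 (hiso s (mul_mem (mul_mem hs hz) (inv_mem hs))))

/-- Powers inherit isolation. -/
theorem isolatedElt_pow {S : Sylow 2 G} {z : G} (hz : z ∈ S)
    (hiso : ∀ g : G, g * z * g⁻¹ ∈ S → g * z * g⁻¹ = z) (m : ℕ) (g : G)
    (hg : g * z ^ m * g⁻¹ ∈ S) : g * z ^ m * g⁻¹ = z ^ m := by
  haveI : Fact (Nat.Prime 2) := ⟨Nat.prime_two⟩
  have hSz := isolatedElt_central hz hiso
  set w := g * z ^ m * g⁻¹ with hw
  set L := Subgroup.centralizer ({w} : Set G) with hL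
  have hzL : z ∈ L := Subgroup.mem_centralizer_singleton_iff.2
    (Subgroup.mem_centralizer_singleton_iff.1 (hSz hg)).symm
  have hgS : ((g • S : Sylow 2 G) : Subgroup G) ≤ L := fun x hx => by
    have h : Commute (g⁻¹ * x * g) (z ^ m) :=
      (show Commute _ z from Subgroup.mem_centralizer_singleton_iff.1 (hSz (mem_smul_sylow.1 hx))).pow_right m
    refine Subgroup.mem_centralizer_singleton_iff.2 ?_
    calc x * w = g * (g⁻¹ * x * g * z ^ m) * g⁻¹ := by rw [hw]; group
      _ = w * x := by rw [h.eq, hw]; group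
  obtain ⟨k, hk, hle⟩ := exists_le_smul_sylow
    (S.isPGroup'.to_le (Subgroup.zpowers_le.2 hz)) (Subgroup.zpowers_le.2 hzL) hgS
  rw [smul_smul] at hle
  have h1 := mem_smul_sylow.1 (hle (Subgroup.mem_zpowers z))
  have h2 := hiso (k * g)⁻¹ (by rwa [inv_inv])
  rw [inv_inv] at h2
  have h3 : (k * g)⁻¹ * z ^ m * (k * g) = z ^ m := by
    have e : ((k * g)⁻¹ * z * (k * g)) ^ m = z ^ m := by rw [h2]
    rwa [show (k * g)⁻¹ * z * (k * g) = (k * g)⁻¹ * z * ((k * g)⁻¹)⁻¹ by rw [inv_inv], conj_pow,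
      inv_inv] at e
  have h4 : k * w * k⁻¹ = w := by
    rw [Subgroup.mem_centralizer_singleton_iff.1 hk, mul_inv_cancel_right]
  calc w = k * g * z ^ m * (k * g)⁻¹ := by rw [← h4, hw]; group
    _ = k * g * ((k * g)⁻¹ * z ^ m * (k * g)) * (k * g)⁻¹ := by rw [h3]
    _ = z ^ m := by group

theorem isolatedElt_aux (n : ℕ) : ∀ (G : Type u) [Group G] [Finite G], Nat.card G = n →
    ∀ (S : Sylow 2 G) (z : G), z ∈ S → (∀ g : G, g * z * g⁻¹ ∈ S → g * z * g⁻¹ = z) →
    ∀ g : G, g * z * g⁻¹ * z⁻¹ ∈ oddCore G := by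
  induction n using Nat.strong_induction_on with
  | _ n ih =>
    intro G _ _ hn S z hz hiso
    subst hn
    haveI : Fact (Nat.Prime 2) := ⟨Nat.prime_two⟩
    -- passing to a quotient
    have hquot : ∀ (N : Subgroup G) [N.Normal],
        (∀ g : G, (g * z * g⁻¹ ∈ (S : Subgroup G) ⊔ N) →
          ∃ o ∈ N, o * (g * z * g⁻¹) * o⁻¹ ∈ S) →
        Nat.card (G ⧸ N) < Nat.card G →
        ∀ g : G, (QuotientGroup.mk' N) (g * z * g⁻¹ * z⁻¹) ∈ oddCore (G ⧸ N) := by
      intro N _ hN hlt g
      have hmem : QuotientGroup.mk' N z ∈ S.mapSurjective (QuotientGroup.mk'_surjective N) :=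
        ⟨z, hz, rfl⟩
      have := ih _ hlt (G ⧸ N) rfl _ _ hmem ?_ (QuotientGroup.mk' N g)
      · simpa only [map_mul, map_inv] using this
      intro q hq
      obtain ⟨c, rfl⟩ := QuotientGroup.mk'_surjective N q
      rw [← map_inv, ← map_mul, ← map_mul] at hq ⊢
      obtain ⟨s, hs, hse⟩ := hq
      obtain ⟨o, ho, hoS⟩ := hN c (by
        have h1 : s⁻¹ * (c * z * c⁻¹) ∈ N := QuotientGroup.eq.1 hse
        simpa using mul_mem (Subgroup.mem_sup_left hs) (Subgroup.mem_sup_right h1))
      rw [show o * (c * z * c⁻¹) * o⁻¹ = (o * c) * z * (o * c)⁻¹ by group] at hoS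
      have h2 := hiso _ hoS
      have h3 : QuotientGroup.mk' N o = 1 := (QuotientGroup.eq_one_iff o).2 ho
      have h4 := congrArg (QuotientGroup.mk' N) h2
      simp only [map_mul, map_inv, h3, one_mul] at h4
      simpa only [map_mul, map_inv] using h4
    intro g
    rcases eq_or_ne z 1 with rfl | hz1
    · simp
    by_cases hcore : oddCore G = ⊥
    · -- the involution in `⟨z⟩` is central
      obtain ⟨k, hk⟩ := IsPGroup.iff_orderOf.1 S.isPGroup' ⟨z, hz⟩
      rw [← Subgroup.orderOf_coe] at hk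
      change orderOf z = 2 ^ k at hk
      obtain _ | k := k
      · exact absurd (orderOf_eq_one_iff.1 (by simpa using hk)) hz1
      set s := z ^ 2 ^ k with hs
      have hs2 : orderOf s = 2 := by
        rw [hs, orderOf_pow_of_dvd (by positivity) (hk ▸ pow_dvd_pow 2 (Nat.le_succ k)), hk, pow_succ',
          Nat.mul_div_cancel _ (by positivity)]
      have hsc : s ∈ Subgroup.center G := isolated_mem_center hcore
        ((isolated_iff_sylow hs2 S (pow_mem hz _)).2 (isolatedElt_pow hz hiso _))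
      haveI hZn : (Subgroup.zpowers s).Normal := ⟨fun a ha x => by
        rw [Subgroup.mem_center_iff.1 (Subgroup.zpowers_le.2 hsc ha) x, mul_inv_cancel_right]
        exact ha⟩
      have hZcard : Nat.card (Subgroup.zpowers s) = 2 := by rw [Nat.card_zpowers, hs2]
      have hZS : Subgroup.zpowers s ≤ (S : Subgroup G) := Subgroup.zpowers_le.2 (pow_mem hz _)
      have hmem := hquot (Subgroup.zpowers s) (fun x hx => ⟨1, one_mem _, by
        rw [sup_eq_left.2 hZS] at hx
        simp only [one_mul, inv_one, mul_one]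
        exact hx⟩) (by
          rw [(Subgroup.zpowers s).card_eq_card_quotient_mul_card_subgroup, hZcard]
          have := Nat.card_pos (α := G ⧸ Subgroup.zpowers s)
          omega) g
      rw [← Subgroup.mem_comap, comap_oddCore_quotient_two hcore _ hZcard] at hmem
      have h1 : g * z * g⁻¹ ∈ (S : Subgroup G) := by
        simpa using mul_mem (hZS hmem) hz
      rw [hiso g h1, mul_inv_cancel]
      exact one_mem _
    · have hlt : Nat.card (G ⧸ oddCore G) < Nat.card G := by
        rw [(oddCore G).card_eq_card_quotient_mul_card_subgroup]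
        have h1 := Nat.card_pos (α := G ⧸ oddCore G)
        have h2 : 1 < Nat.card (oddCore G) := (Subgroup.one_lt_card_iff_ne_bot _).2 hcore
        nlinarith
      have hmem := hquot (oddCore G) (fun x hx => by
        set L := (S : Subgroup G) ⊔ oddCore G
        obtain ⟨k, hk, hle⟩ := exists_le_smul_sylow (p := 2) (L := L) (R := Subgroup.zpowers (x * z * x⁻¹))
          (by
            obtain ⟨j, hj⟩ := IsPGroup.iff_orderOf.1 S.isPGroup' ⟨z, hz⟩
            refine IsPGroup.of_card (n := j) ?_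
            rw [Nat.card_zpowers, orderOf_conj, ← hj, ← Subgroup.orderOf_coe])
          (Subgroup.zpowers_le.2 hx) (P := S) le_sup_left
        obtain ⟨a, ha, o, ho, rfl⟩ := Subgroup.mem_sup_of_normal_right.1 hk
        refine ⟨a * o⁻¹ * a⁻¹, (inferInstance : (oddCore G).Normal).conj_mem _ (inv_mem ho) a, ?_⟩
        have h := mem_smul_sylow.1 (hle (Subgroup.mem_zpowers _))
        have h' := mul_mem (mul_mem ha h) (inv_mem ha)
        rw [show a * ((a * o)⁻¹ * (x * z * x⁻¹) * (a * o)) * a⁻¹ =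
          a * o⁻¹ * a⁻¹ * (x * z * x⁻¹) * (a * o⁻¹ * a⁻¹)⁻¹ by group] at h'
        exact h') hlt g
      rw [show oddCore (G ⧸ oddCore G) = ⊥ from Solv.pPrimeCore_quotient_pPrimeCore 2,
        Subgroup.mem_bot] at hmem
      exact (QuotientGroup.eq_one_iff _).1 hmem

/-- An element of a Sylow 2-subgroup with no other conjugate in it is central modulo the core of
odd order. -/
theorem isolatedElt (S : Sylow 2 G) {z : G} (hz : z ∈ S)
    (hiso : ∀ g : G, g * z * g⁻¹ ∈ S → g * z * g⁻¹ = z) (g : G) :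
    g * z * g⁻¹ * z⁻¹ ∈ oddCore G :=
  isolatedElt_aux _ G rfl S z hz hiso g

end Cfsg.Agent.Inv
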